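import Cfsg.Agent.Lib.Helper24.RelSZ

set_option autoImplicit false

/-!
# Glauberman's lemma (group-theoretic form)

`A` a normal subgroup of a finite group, `B` a subgroup of coprime order (one of them solvable),
`T` any subgroup with `B ≤ A ⊔ T` (think: `T` the stabilizer of a point of a set on which `A` acts
transitively).  Then some `A`-conjugate of `B` lies in `T`.
-/

namespace Cfsg.Agent.Lib.Helper82

open Subgroup
open Cfsg.Agent.Lib.Helper33 Cfsg.Agent.Lib.Helper24

theorem glauberman_lemma {Λ : Type*} [Group Λ] [Finite Λ] (A B T : Subgroup Λ) [hA : A.Normal]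
    (hcop : (Nat.card A).Coprime (Nat.card B))
    (hsolv : Group.IsSolvable A ∨ Group.IsSolvable B)
    (h : B ≤ A ⊔ T) :
    ∃ a ∈ A, cj a B ≤ T := by
  set M := A ⊔ B with hM
  set T' := T ⊓ M with hT'
  have hAM : A ≤ M := le_sup_left
  have hBM : B ≤ M := le_sup_right
  -- `A ⊔ T' = M`
  have hsup : T' ⊔ A = B ⊔ A := by
    apply le_antisymm
    · apply sup_le
      · exact inf_le_right.trans (le_of_eq (sup_comm A B))
      · exact le_sup_right
    · apply sup_le
      · intro b hb
        have hb' := h hb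
        rw [sup_comm, ← SetLike.mem_coe, Subgroup.mul_normal] at hb'
        obtain ⟨t, ht, a, ha, rfl⟩ := hb'
        have ht' : t ∈ T' := by
          refine mem_inf.mpr ⟨ht, ?_⟩
          have : t = t * a * a⁻¹ := by group
          rw [this]
          exact M.mul_mem (hBM hb) (M.inv_mem (hAM ha))
        exact (T' ⊔ A).mul_mem (le_sup_left (a := T') ht') (le_sup_right (b := A) ha)
      · exact le_sup_right
  have hAB : A ⊓ B = ⊥ := (disjoint_of_coprime_natCard hcop).eq_bot
  have hrel : (A ⊓ T').relIndex T' = Nat.card B := by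
    rw [inf_relIndex_right, ← relIndex_sup_right, hsup, relIndex_sup_right, ← inf_relIndex_right,
      hAB, relIndex_bot_left]
  have hnorm : T' ≤ normalizer ((A ⊓ T' : Subgroup Λ) : Set Λ) := by
    intro t ht
    rw [mem_normalizer_iff]
    intro x
    constructor
    · intro hx
      exact mem_inf.mpr ⟨hA.conj_mem x (mem_inf.mp hx).1 t,
        T'.mul_mem (T'.mul_mem ht (mem_inf.mp hx).2) (T'.inv_mem ht)⟩
    · intro hx
      have h1 : x = t⁻¹ * (t * x * t⁻¹) * t⁻¹⁻¹ := by group
      rw [h1]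
      exact mem_inf.mpr ⟨hA.conj_mem _ (mem_inf.mp hx).1 t⁻¹,
        T'.mul_mem (T'.mul_mem (T'.inv_mem ht) (mem_inf.mp hx).2) (T'.inv_mem (T'.inv_mem ht))⟩
  have hcop1 : (Nat.card (A ⊓ T' : Subgroup Λ)).Coprime ((A ⊓ T').relIndex T') := by
    rw [hrel]
    exact Nat.Coprime.coprime_dvd_left (card_dvd_of_le inf_le_left) hcop
  obtain ⟨H, hHT, hHcard, -, -⟩ := rel_sz_exists (A ⊓ T') T' inf_le_right hnorm hcop1
  rw [hrel] at hHcard
  have hBn : B ≤ normalizer (A : Set Λ) := by
    rw [normalizer_eq_top_iff.mpr hA]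
    exact le_top
  obtain ⟨n, hn, hc⟩ := rel_sz_conj A B H hBn hcop.symm hsolv
    (hHT.trans (inf_le_right.trans (le_of_eq (sup_comm A B)))) hHcard
  exact ⟨n, hn, hc.le.trans (hHT.trans inf_le_left)⟩

end Cfsg.Agent.Lib.Helper82
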