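import Cfsg.Agent.Lib.Helper82.GlaubermanLemma

set_option autoImplicit false
set_option linter.style.haveILetI false

/-!
# Glauberman's lemma, normalizer form

`A`, `B`, `T` subgroups of a finite group with `B` normalising `A` (no normality assumed), coprime
orders, one of `A`, `B` solvable, and every `b ∈ B` of the form `a * t` with `a ∈ A`, `t ∈ T`
(think: `T` a point stabilizer, `A` transitive).  Then some `A`-conjugate of `B` lies in `T`.
-/

namespace Cfsg.Agent.Lib.Helper82

open Subgroup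
open Cfsg.Agent.Lib.Helper33 Cfsg.Agent.Lib.Helper24

/-- One-sided criterion for a subgroup to normalise another. -/
theorem le_normalizer_of_conj_mem {Λ : Type*} [Group Λ] (K H : Subgroup Λ)
    (h : ∀ x ∈ K, ∀ y ∈ H, x * y * x⁻¹ ∈ H) : K ≤ normalizer (H : Set Λ) := by
  intro x hx
  rw [mem_normalizer_iff]
  intro y
  constructor
  · intro hy
    exact h x hx y hy
  · intro hy
    have := h x⁻¹ (K.inv_mem hx) _ hy
    have e2 : x⁻¹ * (x * y * x⁻¹) * x⁻¹⁻¹ = y := by group
    rw [e2] at this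
    exact this

theorem glauberman_lemma_nz {Λ : Type*} [Group Λ] [Finite Λ] (A B T : Subgroup Λ)
    (hBn : B ≤ normalizer (A : Set Λ))
    (hcop : (Nat.card A).Coprime (Nat.card B))
    (hsolv : Group.IsSolvable A ∨ Group.IsSolvable B)
    (h : ∀ b ∈ B, ∃ a ∈ A, a⁻¹ * b ∈ T) :
    ∃ a ∈ A, ∀ b ∈ B, a * b * a⁻¹ ∈ T := by
  set M : Subgroup Λ := A ⊔ B with hM
  have hAM : A ≤ M := le_sup_left
  have hBM : B ≤ M := le_sup_right
  have hMn : M ≤ normalizer (A : Set Λ) := sup_le le_normalizer hBn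
  haveI hAn : (A.subgroupOf M).Normal := Subgroup.normal_subgroupOf_of_le_normalizer hMn
  have hcardA : Nat.card (A.subgroupOf M) = Nat.card A :=
    Nat.card_congr (subgroupOfEquivOfLe hAM).toEquiv
  have hcardB : Nat.card (B.subgroupOf M) = Nat.card B :=
    Nat.card_congr (subgroupOfEquivOfLe hBM).toEquiv
  have hcop' : (Nat.card (A.subgroupOf M)).Coprime (Nat.card (B.subgroupOf M)) := by
    rw [hcardA, hcardB]
    exact hcop
  have hsolv' : Group.IsSolvable (A.subgroupOf M) ∨ Group.IsSolvable (B.subgroupOf M) := by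
    rcases hsolv with hs | hs
    · left
      exact Group.isSolvable_of_isSolvable_injective (f := (subgroupOfEquivOfLe hAM).toMonoidHom)
        (subgroupOfEquivOfLe hAM).injective
    · right
      exact Group.isSolvable_of_isSolvable_injective (f := (subgroupOfEquivOfLe hBM).toMonoidHom)
        (subgroupOfEquivOfLe hBM).injective
  have hBAT : B.subgroupOf M ≤ A.subgroupOf M ⊔ T.subgroupOf M := by
    intro b hb
    have hbB : (b : Λ) ∈ B := mem_subgroupOf.mp hb
    obtain ⟨a, ha, hat⟩ := h (b : Λ) hbB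
    let a' : M := ⟨a, hAM ha⟩
    have ha' : a' ∈ A.subgroupOf M := mem_subgroupOf.mpr ha
    have ht' : a'⁻¹ * b ∈ T.subgroupOf M := mem_subgroupOf.mpr hat
    have e : b = a' * (a'⁻¹ * b) := by group
    rw [e]
    exact (A.subgroupOf M ⊔ T.subgroupOf M).mul_mem
      (le_sup_left (b := T.subgroupOf M) ha') (le_sup_right (a := A.subgroupOf M) ht')
  obtain ⟨a, ha, hc⟩ := glauberman_lemma (A.subgroupOf M) (B.subgroupOf M) (T.subgroupOf M)
    hcop' hsolv' hBAT
  refine ⟨(a : Λ), mem_subgroupOf.mp ha, ?_⟩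
  intro b hb
  let b' : M := ⟨b, hBM hb⟩
  have hb' : b' ∈ B.subgroupOf M := mem_subgroupOf.mpr hb
  have h1 : a * b' * a⁻¹ ∈ T.subgroupOf M := hc (conj_mem_cj hb')
  exact mem_subgroupOf.mp h1

end Cfsg.Agent.Lib.Helper82
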