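import Mathlib
import Cfsg.Agent.Lib.Helper82.GlaubermanNz

/-!
# Invariant classes under a coprime action (Isaacs 13.10)

If `S` normalises `G` with coprime orders (one of them solvable) and `C = C_G(S)`, then the classes
of `C` correspond bijectively to the `S`-invariant classes of `G`.
-/

set_option autoImplicit false
set_option linter.style.haveILetI false

namespace Cfsg.Agent.Lib.Helper82

open Subgroup

variable {Γ : Type*} [Group Γ] [Finite Γ]

omit [Finite Γ] in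
/-- An element of `G` normalising `S` centralises `S`, when `G ∩ S = 1` and `S` normalises `G`. -/
theorem mem_centralizer_of_conj_mem {G S : Subgroup Γ}
    (hnorm : ∀ s ∈ S, ∀ g ∈ G, s * g * s⁻¹ ∈ G) (hcop : (Nat.card G).Coprime (Nat.card S))
    {h : Γ} (hh : h ∈ G) (hS : ∀ b ∈ S, h * b * h⁻¹ ∈ S) : h ∈ centralizer (S : Set Γ) := by
  rw [mem_centralizer_iff]
  intro b hb
  have h1 : h * b * h⁻¹ * b⁻¹ ∈ G := by
    have e : h * b * h⁻¹ * b⁻¹ = h * (b * h⁻¹ * b⁻¹) := by group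
    rw [e]
    exact G.mul_mem hh (hnorm b hb _ (G.inv_mem hh))
  have h2 : h * b * h⁻¹ * b⁻¹ ∈ S := S.mul_mem (hS b hb) (S.inv_mem hb)
  have h3 : h * b * h⁻¹ * b⁻¹ ∈ G ⊓ S := ⟨h1, h2⟩
  rw [inf_eq_bot_of_coprime hcop, mem_bot] at h3
  have e : h * b = (h * b * h⁻¹ * b⁻¹) * (b * h) := by group
  rw [h3, one_mul] at e
  exact e.symm

/-- Elements of `C_G(S)` conjugate in `G` are conjugate in `C_G(S)`. -/
theorem exists_conj_fixed {G S : Subgroup Γ}
    (hnorm : ∀ s ∈ S, ∀ g ∈ G, s * g * s⁻¹ ∈ G) (hcop : (Nat.card G).Coprime (Nat.card S))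
    (hsolv : Group.IsSolvable G ∨ Group.IsSolvable S) {c c' g₀ : Γ}
    (hc : c ∈ centralizer (S : Set Γ)) (hc' : c' ∈ centralizer (S : Set Γ)) (hg₀ : g₀ ∈ G)
    (hconj : g₀ * c * g₀⁻¹ = c') :
    ∃ h ∈ G ⊓ centralizer (S : Set Γ), h * c' * h⁻¹ = c := by
  rw [mem_centralizer_iff] at hc hc'
  set A : Subgroup Γ := G ⊓ centralizer ({c'} : Set Γ) with hA
  set T : Subgroup Γ := S.map (MulAut.conj g₀).toMonoidHom with hT
  have hmemA : ∀ a : Γ, a ∈ A ↔ a ∈ G ∧ a * c' = c' * a := by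
    intro a
    rw [hA, mem_inf, mem_centralizer_singleton_iff]
  have hBn : S ≤ normalizer (A : Set Γ) := by
    apply le_normalizer_of_conj_mem
    intro s hs a ha
    rw [hmemA] at ha ⊢
    refine ⟨hnorm s hs a ha.1, ?_⟩
    have e1 : s * c' = c' * s := hc' s hs
    have e2 : s⁻¹ * c' = c' * s⁻¹ := by
      have : s⁻¹ * (s * c') * s⁻¹ = s⁻¹ * (c' * s) * s⁻¹ := by rw [e1]
      have l : s⁻¹ * (s * c') * s⁻¹ = c' * s⁻¹ := by group
      have r : s⁻¹ * (c' * s) * s⁻¹ = s⁻¹ * c' := by group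
      rw [l, r] at this
      exact this.symm
    calc s * a * s⁻¹ * c' = s * a * (s⁻¹ * c') := by group
      _ = s * a * (c' * s⁻¹) := by rw [e2]
      _ = s * (a * c') * s⁻¹ := by group
      _ = s * (c' * a) * s⁻¹ := by rw [ha.2]
      _ = (s * c') * a * s⁻¹ := by group
      _ = (c' * s) * a * s⁻¹ := by rw [e1]
      _ = c' * (s * a * s⁻¹) := by group
  have hcopA : (Nat.card A).Coprime (Nat.card S) :=
    Nat.Coprime.coprime_dvd_left (card_dvd_of_le inf_le_left) hcop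
  have hsolvA : Group.IsSolvable A ∨ Group.IsSolvable S := by
    rcases hsolv with h | h
    · left
      haveI := h
      exact solvable_of_solvable_injective (inclusion_injective (inf_le_left : A ≤ G))
    · right
      exact h
  have hcc : g₀⁻¹ * c' * g₀ = c := by
    rw [← hconj]
    group
  have key : ∀ b ∈ S, ∃ a ∈ A, a⁻¹ * b ∈ T := by
    intro b hb
    refine ⟨b * g₀ * b⁻¹ * g₀⁻¹, ?_, ?_⟩
    · rw [hmemA]
      refine ⟨G.mul_mem (hnorm b hb g₀ hg₀) (G.inv_mem hg₀), ?_⟩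
      have e1 : b * c = c * b := hc b hb
      have e3 : b * c' = c' * b := hc' b hb
      have e2 : b⁻¹ * c' = c' * b⁻¹ := by
        have : b⁻¹ * (b * c') * b⁻¹ = b⁻¹ * (c' * b) * b⁻¹ := by rw [e3]
        have l : b⁻¹ * (b * c') * b⁻¹ = c' * b⁻¹ := by group
        have r : b⁻¹ * (c' * b) * b⁻¹ = b⁻¹ * c' := by group
        rw [l, r] at this
        exact this.symm
      -- `g₀⁻¹ c' = c g₀⁻¹`, `b⁻¹ c = c b⁻¹`, `g₀ c = c' g₀`, `b c' = c' b`
      have f1 : g₀⁻¹ * c' = c * g₀⁻¹ := by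
        rw [← hcc]
        group
      have f2 : b⁻¹ * c = c * b⁻¹ := by
        have : b⁻¹ * (b * c) * b⁻¹ = b⁻¹ * (c * b) * b⁻¹ := by rw [e1]
        have l : b⁻¹ * (b * c) * b⁻¹ = c * b⁻¹ := by group
        have r : b⁻¹ * (c * b) * b⁻¹ = b⁻¹ * c := by group
        rw [l, r] at this
        exact this.symm
      have f3 : g₀ * c = c' * g₀ := by
        rw [← hconj]
        group
      calc b * g₀ * b⁻¹ * g₀⁻¹ * c' = b * g₀ * b⁻¹ * (g₀⁻¹ * c') := by group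
        _ = b * g₀ * b⁻¹ * (c * g₀⁻¹) := by rw [f1]
        _ = b * g₀ * (b⁻¹ * c) * g₀⁻¹ := by group
        _ = b * g₀ * (c * b⁻¹) * g₀⁻¹ := by rw [f2]
        _ = b * (g₀ * c) * b⁻¹ * g₀⁻¹ := by group
        _ = b * (c' * g₀) * b⁻¹ * g₀⁻¹ := by rw [f3]
        _ = (b * c') * g₀ * b⁻¹ * g₀⁻¹ := by group
        _ = (c' * b) * g₀ * b⁻¹ * g₀⁻¹ := by rw [e3]
        _ = c' * (b * g₀ * b⁻¹ * g₀⁻¹) := by group
    · rw [hT, mem_map]
      refine ⟨b, hb, ?_⟩
      show g₀ * b * g₀⁻¹ = _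
      group
  obtain ⟨a, ha, hab⟩ := glauberman_lemma_nz A S T hBn hcopA hsolvA key
  rw [hmemA] at ha
  have hhG : g₀⁻¹ * a ∈ G := G.mul_mem (G.inv_mem hg₀) ha.1
  have hhS : ∀ b ∈ S, (g₀⁻¹ * a) * b * (g₀⁻¹ * a)⁻¹ ∈ S := by
    intro b hb
    have := hab b hb
    rw [hT, mem_map] at this
    obtain ⟨s', hs', hs'e⟩ := this
    have hs'e' : g₀ * s' * g₀⁻¹ = a * b * a⁻¹ := hs'e
    have e : (g₀⁻¹ * a) * b * (g₀⁻¹ * a)⁻¹ = g₀⁻¹ * (a * b * a⁻¹) * g₀ := by group
    rw [e, ← hs'e']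
    have e2 : g₀⁻¹ * (g₀ * s' * g₀⁻¹) * g₀ = s' := by group
    rw [e2]
    exact hs'
  refine ⟨g₀⁻¹ * a, ⟨hhG, mem_centralizer_of_conj_mem hnorm hcop hhG hhS⟩, ?_⟩
  have e : (g₀⁻¹ * a) * c' * (g₀⁻¹ * a)⁻¹ = g₀⁻¹ * ((a * c') * a⁻¹) * g₀ := by group
  rw [e, ha.2]
  have e2 : g₀⁻¹ * (c' * a * a⁻¹) * g₀ = g₀⁻¹ * c' * g₀ := by group
  rw [e2, hcc]

/-- Every `S`-invariant class of `G` contains an element of `C_G(S)`. -/
theorem exists_fixed_in_class {G S : Subgroup Γ}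
    (hnorm : ∀ s ∈ S, ∀ g ∈ G, s * g * s⁻¹ ∈ G) (hcop : (Nat.card G).Coprime (Nat.card S))
    (hsolv : Group.IsSolvable G ∨ Group.IsSolvable S) {k : Γ} (hk : k ∈ G)
    (hinv : ∀ b ∈ S, ∃ a ∈ G, a * k * a⁻¹ = b * k * b⁻¹) :
    ∃ a ∈ G, a⁻¹ * k * a ∈ centralizer (S : Set Γ) := by
  have hBn : S ≤ normalizer (G : Set Γ) := le_normalizer_of_conj_mem S G hnorm
  have key : ∀ b ∈ S, ∃ a ∈ G, a⁻¹ * b ∈ centralizer ({k} : Set Γ) := by
    intro b hb
    obtain ⟨a, ha, hab⟩ := hinv b hb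
    refine ⟨a, ha, ?_⟩
    rw [mem_centralizer_singleton_iff]
    have e : a⁻¹ * b * k = a⁻¹ * (b * k * b⁻¹) * b := by group
    rw [e, ← hab]
    group
  obtain ⟨a, ha, hab⟩ := glauberman_lemma_nz G S (centralizer ({k} : Set Γ)) hBn hcop hsolv key
  refine ⟨a, ha, ?_⟩
  rw [mem_centralizer_iff]
  intro b hb
  have := hab b hb
  rw [mem_centralizer_singleton_iff] at this
  -- this : a * b * a⁻¹ * k = k * (a * b * a⁻¹)
  calc b * (a⁻¹ * k * a) = a⁻¹ * ((a * b * a⁻¹) * k) * a := by group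
    _ = a⁻¹ * (k * (a * b * a⁻¹)) * a := by rw [this]
    _ = a⁻¹ * k * a * b := by group

/-- **Isaacs 13.10**: the classes of `C_G(S)` correspond to the `S`-invariant classes of `G`. -/
theorem card_conjClasses_fixed (G S C : Subgroup Γ)
    (hnorm : ∀ s ∈ S, ∀ g ∈ G, s * g * s⁻¹ ∈ G) (hcop : (Nat.card G).Coprime (Nat.card S))
    (hsolv : Group.IsSolvable G ∨ Group.IsSolvable S)
    (hC : C = G ⊓ centralizer (S : Set Γ)) :
    Nat.card (ConjClasses C) = Nat.card {K : ConjClasses G // ∀ s ∈ S, ∀ g g' : G,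
      (g' : Γ) = s * g * s⁻¹ → ConjClasses.mk g = K → ConjClasses.mk g' = K} := by
  have hCG : C ≤ G := by
    rw [hC]
    exact inf_le_left
  have hCS : ∀ c : C, (c : Γ) ∈ centralizer (S : Set Γ) := by
    intro c
    exact (hC.le c.2).2
  -- the map
  have hwell : ∀ k : ConjClasses C, ∀ s ∈ S, ∀ g g' : G,
      (g' : Γ) = s * g * s⁻¹ → ConjClasses.mk g = ConjClasses.map (inclusion hCG) k →
      ConjClasses.mk g' = ConjClasses.map (inclusion hCG) k := by
    intro k s hs g g' hgg' hk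
    induction k using Quotient.inductionOn with
    | h c =>
      have hk' : ConjClasses.mk g = ConjClasses.mk (inclusion hCG c) := hk
      show ConjClasses.mk g' = ConjClasses.mk (inclusion hCG c)
      rw [ConjClasses.mk_eq_mk_iff_isConj, isConj_comm, isConj_iff] at hk' ⊢
      obtain ⟨h, hh⟩ := hk'
      refine ⟨⟨s * h * s⁻¹, hnorm s hs h h.2⟩, ?_⟩
      apply Subtype.ext
      have hh' : (h : Γ) * (c : Γ) * (h : Γ)⁻¹ = g := congrArg Subtype.val hh
      have hcs := (mem_centralizer_iff.mp (hCS c)) s hs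
      show (s * h * s⁻¹) * (c : Γ) * (s * h * s⁻¹)⁻¹ = g'
      rw [hgg', ← hh']
      have e : s * (h : Γ) * s⁻¹ * (c : Γ) * (s * h * s⁻¹)⁻¹
          = s * h * (s⁻¹ * (c * s)) * (h : Γ)⁻¹ * s⁻¹ := by group
      rw [e, ← hcs]
      group
  let F : ConjClasses C → {K : ConjClasses G // ∀ s ∈ S, ∀ g g' : G,
      (g' : Γ) = s * g * s⁻¹ → ConjClasses.mk g = K → ConjClasses.mk g' = K} :=
    fun k => ⟨ConjClasses.map (inclusion hCG) k, hwell k⟩
  apply Nat.card_eq_of_bijective F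
  constructor
  · -- injective
    intro k k' hkk'
    have hkk : ConjClasses.map (inclusion hCG) k = ConjClasses.map (inclusion hCG) k' :=
      congrArg Subtype.val hkk'
    induction k using Quotient.inductionOn with
    | h c =>
      induction k' using Quotient.inductionOn with
      | h c' =>
        have h1 : ConjClasses.mk (inclusion hCG c) = ConjClasses.mk (inclusion hCG c') := hkk
        show ConjClasses.mk c = ConjClasses.mk c'
        rw [ConjClasses.mk_eq_mk_iff_isConj, isConj_iff] at h1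
        obtain ⟨g₀, hg₀⟩ := h1
        have hg₀' : (g₀ : Γ) * (c : Γ) * (g₀ : Γ)⁻¹ = c' := congrArg Subtype.val hg₀
        obtain ⟨h, hh, hhc⟩ := exists_conj_fixed hnorm hcop hsolv (hCS c) (hCS c') g₀.2 hg₀'
        rw [ConjClasses.mk_eq_mk_iff_isConj, isConj_comm, isConj_iff]
        refine ⟨⟨h, hC.ge hh⟩, ?_⟩
        apply Subtype.ext
        exact hhc
  · -- surjective
    rintro ⟨K, hK⟩
    induction K using Quotient.inductionOn with
    | h k =>
      have hinv : ∀ b ∈ S, ∃ a ∈ G, a * (k : Γ) * a⁻¹ = b * k * b⁻¹ := by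
        intro b hb
        have := hK b hb k ⟨b * k * b⁻¹, hnorm b hb k k.2⟩ rfl rfl
        have this' : ConjClasses.mk (⟨b * k * b⁻¹, hnorm b hb k k.2⟩ : G) = ConjClasses.mk k := this
        rw [ConjClasses.mk_eq_mk_iff_isConj, isConj_comm, isConj_iff] at this'
        obtain ⟨a, ha⟩ := this'
        exact ⟨a, a.2, congrArg Subtype.val ha⟩
      obtain ⟨a, ha, hac⟩ := exists_fixed_in_class hnorm hcop hsolv k.2 hinv
      have hmem : a⁻¹ * (k : Γ) * a ∈ C :=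
        hC.ge ⟨G.mul_mem (G.mul_mem (G.inv_mem ha) k.2) ha, hac⟩
      refine ⟨ConjClasses.mk ⟨a⁻¹ * (k : Γ) * a, hmem⟩, ?_⟩
      apply Subtype.ext
      show ConjClasses.mk (inclusion hCG ⟨a⁻¹ * (k : Γ) * a, hmem⟩) = ConjClasses.mk k
      rw [ConjClasses.mk_eq_mk_iff_isConj, isConj_iff]
      refine ⟨⟨a, ha⟩, ?_⟩
      apply Subtype.ext
      show a * (a⁻¹ * (k : Γ) * a) * a⁻¹ = k
      group

end Cfsg.Agent.Lib.Helper82
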