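import Mathlib

/-!
# The characteristic subgroup `O^p(S)` of a subgroup `S` of an ambient group

`opUp p S` is the subgroup generated by the elements of `S` of order coprime to `p`.  It is
normalised by everything normalising `S`, `S / O^p(S)` is a `p`-group, `S = O^p(S) P` for every
Sylow `p`-subgroup `P` of `S`, and for solvable `S ≠ 1` there is a prime `p` with `O^p(S) ≠ S`.
-/

set_option autoImplicit false
set_option linter.style.haveILetI false

namespace Cfsg.Agent.Lib.Helper82

open Subgroup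

variable {Γ : Type*} [Group Γ]

/-- `O^p(S)`: the subgroup generated by the elements of `S` of order coprime to `p`. -/
def opUp (p : ℕ) (S : Subgroup Γ) : Subgroup Γ :=
  Subgroup.closure {s : Γ | s ∈ S ∧ (orderOf s).Coprime p}

theorem opUp_le (p : ℕ) (S : Subgroup Γ) : opUp p S ≤ S :=
  (closure_le _).mpr (fun _ hs => hs.1)

theorem opUp_conj_mem {p : ℕ} {S : Subgroup Γ} {x : Γ} (hx : x ∈ normalizer (S : Set Γ)) {t : Γ}
    (ht : t ∈ opUp p S) : x * t * x⁻¹ ∈ opUp p S := by
  unfold opUp at ht ⊢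
  induction ht using Subgroup.closure_induction with
  | mem s hs =>
    apply Subgroup.subset_closure
    refine ⟨(mem_normalizer_iff.mp hx s).mp hs.1, ?_⟩
    have h : SemiconjBy x s (x * s * x⁻¹) := by
      unfold SemiconjBy
      group
    rw [← h.orderOf_eq]
    exact hs.2
  | one =>
    have e : x * 1 * x⁻¹ = 1 := by group
    rw [e]
    exact one_mem _
  | mul a b _ _ iha ihb =>
    have e : x * (a * b) * x⁻¹ = (x * a * x⁻¹) * (x * b * x⁻¹) := by group
    rw [e]
    exact mul_mem iha ihb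
  | inv a _ iha =>
    have e : x * a⁻¹ * x⁻¹ = (x * a * x⁻¹)⁻¹ := by group
    rw [e]
    exact inv_mem iha

theorem opUp_mem_normalizer {p : ℕ} {S : Subgroup Γ} {x : Γ} (hx : x ∈ normalizer (S : Set Γ)) :
    x ∈ normalizer (opUp p S : Set Γ) := by
  rw [mem_normalizer_iff]
  intro t
  constructor
  · intro ht
    exact opUp_conj_mem hx ht
  · intro ht
    have h := opUp_conj_mem (p := p) ((normalizer (S : Set Γ)).inv_mem hx) ht
    have e : x⁻¹ * (x * t * x⁻¹) * x⁻¹⁻¹ = t := by group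
    rw [e] at h
    exact h

theorem pow_mem_opUp {p : ℕ} (hp : p.Prime) {S : Subgroup Γ} [Finite S] {s : Γ} (hs : s ∈ S) :
    ∃ k : ℕ, s ^ (p ^ k) ∈ opUp p S := by
  have h0 : orderOf s ≠ 0 := by
    have : orderOf (⟨s, hs⟩ : S) ≠ 0 := (orderOf_pos _).ne'
    rwa [Subgroup.orderOf_mk] at this
  obtain ⟨k, m, hm, hkm⟩ := Nat.exists_eq_pow_mul_and_not_dvd h0 p hp.ne_one
  refine ⟨k, Subgroup.subset_closure ⟨S.pow_mem hs _, ?_⟩⟩
  have hpk : p ^ k ≠ 0 := pow_ne_zero _ hp.ne_zero
  rw [orderOf_pow' s hpk, hkm, Nat.gcd_mul_right_left, Nat.mul_div_cancel_left _ (Nat.pos_of_ne_zero hpk)]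
  exact ((Nat.Prime.coprime_iff_not_dvd hp).mpr hm).symm

theorem opUp_sup_eq {p : ℕ} (hp : p.Prime) (S : Subgroup Γ) [Finite S] :
    ∃ P : Subgroup Γ, P ≤ S ∧ IsPGroup p P ∧ opUp p S ⊔ P = S := by
  haveI : Fact p.Prime := ⟨hp⟩
  obtain ⟨Q⟩ : Nonempty (Sylow p S) := inferInstance
  refine ⟨(Q : Subgroup S).map S.subtype, map_subtype_le _, Q.2.map _, ?_⟩
  set T := opUp p S with hT
  set P := (Q : Subgroup S).map S.subtype with hP
  have hPS : P ≤ S := map_subtype_le _
  apply le_antisymm (sup_le (opUp_le p S) hPS)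
  rw [← relIndex_eq_one]
  -- the index divides the index of `P`
  have h1 : (T ⊔ P).relIndex S ∣ P.relIndex S := relIndex_dvd_of_le_left S le_sup_right
  have h2 : (T ⊔ P).relIndex S ∣ T.relIndex S := relIndex_dvd_of_le_left S le_sup_left
  have h3 : ¬ p ∣ P.relIndex S := by
    have e : P.subgroupOf S = (Q : Subgroup S) := by
      rw [hP]
      exact comap_map_eq_self_of_injective (subtype_injective S) _
    unfold relIndex
    rw [e]
    exact Q.not_dvd_index
  -- the index of `T` is a power of `p`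
  haveI hTn : (T.subgroupOf S).Normal := by
    refine ⟨fun n hn g => ?_⟩
    rw [mem_subgroupOf] at hn ⊢
    exact opUp_conj_mem (le_normalizer g.2) hn
  have h4 : IsPGroup p (S ⧸ T.subgroupOf S) := by
    intro g
    induction g using QuotientGroup.induction_on with
    | H s =>
      obtain ⟨k, hk⟩ := pow_mem_opUp hp s.2
      refine ⟨k, ?_⟩
      rw [← QuotientGroup.mk_pow, QuotientGroup.eq_one_iff, mem_subgroupOf]
      exact hk
  obtain ⟨n, hn⟩ := (IsPGroup.iff_card (p := p)).mp h4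
  have h5 : T.relIndex S = p ^ n := by
    unfold relIndex
    rw [index_eq_card, hn]
  rw [h5] at h2
  obtain ⟨j, _, hj⟩ := (Nat.dvd_prime_pow hp).mp h2
  rcases Nat.eq_zero_or_pos j with h0 | hpos
  · rw [hj, h0, pow_zero]
  · exfalso
    apply h3
    refine dvd_trans ?_ h1
    rw [hj]
    exact dvd_pow_self p hpos.ne'

theorem exists_opUp_ne (S : Subgroup Γ) [Finite S] (hsolv : Group.IsSolvable S) (hS : S ≠ ⊥) :
    ∃ p : ℕ, p.Prime ∧ opUp p S ≠ S := by
  haveI : Nontrivial S := (nontrivial_iff_ne_bot S).mpr hS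
  have hlt : commutator S < ⊤ := Group.IsSolvable.commutator_lt_top_of_nontrivial S
  have hcard : Nat.card (Abelianization S) ≠ 1 := by
    intro h
    have : (commutator S).index = 1 := by
      rw [index_eq_card]
      exact h
    exact hlt.ne (index_eq_one.mp this)
  set n := Nat.card (Abelianization S) with hn
  have hn0 : n ≠ 0 := Nat.card_pos.ne'
  set p := n.minFac with hpdef
  have hp : p.Prime := Nat.minFac_prime hcard
  haveI : Fact p.Prime := ⟨hp⟩
  have hpn : p ∣ n := Nat.minFac_dvd n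
  obtain ⟨a, ha⟩ := exists_prime_orderOf_dvd_card' (G := Abelianization S) p hpn
  obtain ⟨k, m, hm, hkm⟩ := Nat.exists_eq_pow_mul_and_not_dvd hn0 p hp.ne_one
  refine ⟨p, hp, ?_⟩
  let ψ : S →* Abelianization S := (powMonoidHom m).comp Abelianization.of
  have hle : opUp p S ≤ ψ.ker.map S.subtype := by
    unfold opUp
    rw [closure_le]
    rintro s ⟨hs, hcop⟩
    rw [SetLike.mem_coe, mem_map]
    refine ⟨(⟨s, hs⟩ : S), ?_, rfl⟩
    rw [MonoidHom.mem_ker]
    show (Abelianization.of (⟨s, hs⟩ : S)) ^ m = 1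
    rw [← orderOf_dvd_iff_pow_eq_one]
    have h1 : orderOf (Abelianization.of (⟨s, hs⟩ : S)) ∣ orderOf s := by
      have := orderOf_map_dvd (Abelianization.of (G := S)) (⟨s, hs⟩ : S)
      rwa [Subgroup.orderOf_mk] at this
    have h2 : orderOf (Abelianization.of (⟨s, hs⟩ : S)) ∣ p ^ k * m := by
      rw [← hkm]
      exact orderOf_dvd_natCard _
    have h3 : (orderOf (Abelianization.of (⟨s, hs⟩ : S))).Coprime (p ^ k) :=
      Nat.Coprime.pow_right k (Nat.Coprime.coprime_dvd_left h1 hcop)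
    exact h3.dvd_of_dvd_mul_left h2
  intro heq
  obtain ⟨s₀, hs₀⟩ := QuotientGroup.mk_surjective (s := commutator S) a
  have hmem : (s₀ : Γ) ∈ ψ.ker.map S.subtype := hle (by rw [heq]; exact s₀.2)
  rw [mem_map] at hmem
  obtain ⟨y, hy, hys⟩ := hmem
  have hy' : y = s₀ := Subtype.ext hys
  rw [hy', MonoidHom.mem_ker] at hy
  have hy2 : a ^ m = 1 := by
    rw [← hs₀]
    exact hy
  rw [← orderOf_dvd_iff_pow_eq_one, ha] at hy2
  exact hm hy2

end Cfsg.Agent.Lib.Helper82
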