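import Mathlib
import Cfsg.Agent.S4448
import Cfsg.Agent.Lib.Helper82.OpUp
import Cfsg.Agent.Lib.Helper82.GlaubClasses
import Cfsg.Agent.Lib.Helper3.Ortho

/-!
# Counting invariant characters under a coprime solvable action

Assuming the Glauberman correspondence for `p`-groups of operators (in the form `PHyp`), the
number of `S`-invariant irreducible characters of `G` equals the number of irreducible characters
of `C_G(S)`, for solvable `S` acting coprimely (inside a fixed ambient finite group).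
-/

set_option autoImplicit false
set_option linter.style.haveILetI false

namespace Cfsg.Agent.Lib.Helper82

open Subgroup Cfsg Cfsg.Agent.S4447 Cfsg.Agent.S4448

variable {Γ : Type*} [Group Γ]

/-- `S`-invariance of a function on `G`. -/
def SInv (G S : Subgroup Γ) (χ : G → ℂ) : Prop :=
  ∀ s ∈ S, ∀ g g' : G, (g' : Γ) = s * g * s⁻¹ → χ g' = χ g

theorem sInv_iff_act {G S : Subgroup Γ} (hSG : S ≤ normalizer (G : Set Γ)) (χ : G → ℂ) :
    SInv G S χ ↔ ∀ s ∈ S, act G s χ = χ := by
  constructor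
  · intro h s hs
    funext n
    rw [act_apply G (hSG hs)]
    exact h s hs n _ rfl
  · intro h s hs g g' hgg'
    have e : g' = cEquiv G s (hSG hs) g := Subtype.ext hgg'
    rw [e, ← act_apply G (hSG hs) χ g, h s hs]

theorem SInv.mono {G S T : Subgroup Γ} (hTS : T ≤ S) {χ : G → ℂ} (h : SInv G S χ) :
    SInv G T χ := fun s hs => h s (hTS hs)

/-- The stabiliser of a function on `G` in the normaliser of `G`. -/
def stab (G : Subgroup Γ) (χ : G → ℂ) : Subgroup Γ where
  carrier := {x | x ∈ normalizer (G : Set Γ) ∧ act G x χ = χ}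
  one_mem' := ⟨one_mem _, act_one G χ⟩
  mul_mem' := by
    rintro x y ⟨hx, hxe⟩ ⟨hy, hye⟩
    refine ⟨mul_mem hx hy, ?_⟩
    rw [act_mul G hx hy, hxe, hye]
  inv_mem' := by
    rintro x ⟨hx, hxe⟩
    refine ⟨inv_mem hx, ?_⟩
    conv_lhs => rw [← hxe]
    exact act_inv_act G hx χ

theorem sInv_iff_le_stab {G S : Subgroup Γ} (hSG : S ≤ normalizer (G : Set Γ)) (χ : G → ℂ) :
    SInv G S χ ↔ S ≤ stab G χ := by
  rw [sInv_iff_act hSG]
  constructor
  · intro h s hs
    exact ⟨hSG hs, h s hs⟩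
  · intro h s hs
    exact (h hs).2

theorem mem_normalizer_centralizer {T : Subgroup Γ} {x : Γ} (hx : x ∈ normalizer (T : Set Γ)) :
    x ∈ normalizer (centralizer (T : Set Γ) : Set Γ) := by
  apply le_normalizer_of_conj_mem (normalizer (T : Set Γ)) (centralizer (T : Set Γ)) _ hx
  intro x hx y hy
  rw [mem_centralizer_iff] at hy ⊢
  intro t ht
  have ht' : x⁻¹ * t * x ∈ T := by
    rw [mem_normalizer_iff] at hx
    rw [hx]
    have e : x * (x⁻¹ * t * x) * x⁻¹ = t := by group
    rw [e]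
    exact ht
  have h1 := hy _ ht'
  calc t * (x * y * x⁻¹) = x * ((x⁻¹ * t * x) * y) * x⁻¹ := by group
    _ = x * (y * (x⁻¹ * t * x)) * x⁻¹ := by rw [h1]
    _ = x * y * x⁻¹ * t := by group

theorem mem_normalizer_inf {A B : Subgroup Γ} {x : Γ} (hA : x ∈ normalizer (A : Set Γ))
    (hB : x ∈ normalizer (B : Set Γ)) : x ∈ normalizer ((A ⊓ B : Subgroup Γ) : Set Γ) := by
  rw [mem_normalizer_iff] at hA hB ⊢
  intro h
  rw [mem_inf, mem_inf, hA h, hB h]

theorem centralizer_sup_eq (T P : Subgroup Γ) :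
    centralizer ((T ⊔ P : Subgroup Γ) : Set Γ) = centralizer (T : Set Γ) ⊓ centralizer (P : Set Γ) := by
  apply le_antisymm
  · apply le_inf
    · exact centralizer_le (by exact_mod_cast (le_sup_left : T ≤ T ⊔ P))
    · exact centralizer_le (by exact_mod_cast (le_sup_right : P ≤ T ⊔ P))
  · rintro x ⟨hT, hP⟩
    have h1 : T ≤ centralizer ({x} : Set Γ) := by
      intro t ht
      rw [mem_centralizer_singleton_iff]
      exact (mem_centralizer_iff.mp hT t ht)
    have h2 : P ≤ centralizer ({x} : Set Γ) := by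
      intro t ht
      rw [mem_centralizer_singleton_iff]
      exact (mem_centralizer_iff.mp hP t ht)
    rw [mem_centralizer_iff]
    intro s hs
    have := (sup_le h1 h2) hs
    rw [mem_centralizer_singleton_iff] at this
    exact this

section Main

variable [Finite Γ]

/-- The multiplicity of `γ` in the restriction of `β` is not divisible by `p`. -/
def QRel (p : ℕ) {D C : Subgroup Γ} [Fintype C] (hCD : C ≤ D) (β : D → ℂ) (γ : C → ℂ) : Prop :=
  ∃ m : ℕ, classInner (fun c : C => β ⟨c, hCD c.2⟩) γ = (m : ℂ) ∧ ¬ p ∣ m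

theorem QRel.act {p : ℕ} {D C : Subgroup Γ} [Fintype C] (hCD : C ≤ D) {β : D → ℂ} {γ : C → ℂ}
    (h : QRel p hCD β γ) {x : Γ} (hxD : x ∈ normalizer (D : Set Γ))
    (hxC : x ∈ normalizer (C : Set Γ)) : QRel p hCD (act D x β) (act C x γ) := by
  obtain ⟨m, hm, hpm⟩ := h
  refine ⟨m, ?_, hpm⟩
  rw [act_res D C hCD hxD hxC β, classInner_act C hxC]
  exact hm

/-- The Glauberman correspondence for `p`-groups of operators, inside `Γ`. -/
def PHyp (Γ : Type*) [Group Γ] : Prop :=
  ∀ (D P C : Subgroup Γ) [Fintype C], (∀ s ∈ P, ∀ g ∈ D, s * g * s⁻¹ ∈ D) →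
    (Nat.card D).Coprime (Nat.card P) → ∀ p : ℕ, p.Prime → IsPGroup p P →
    C = D ⊓ centralizer (P : Set Γ) → ∀ hCD : C ≤ D,
    (∀ β : IrrCharacter D, SInv D P β → ∃! γ : IrrCharacter C, QRel p hCD β γ) ∧
    (∀ β β' : IrrCharacter D, SInv D P β → SInv D P β' → ∀ γ : IrrCharacter C,
      QRel p hCD β γ → QRel p hCD β' γ → β = β') ∧
    (∀ γ : IrrCharacter C, ∃ β : IrrCharacter D, SInv D P β ∧ QRel p hCD β γ)

/-- The inductive claim: an equivariant bijective relation between the `S`-invariant irreducible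
characters of `G` and the irreducible characters of `C`. -/
def CorrClaim (G S C : Subgroup Γ) : Prop :=
  ∃ R : IrrCharacter G → IrrCharacter C → Prop,
    (∀ χ : IrrCharacter G, SInv G S χ → ∃ β, R χ β) ∧
    (∀ (χ : IrrCharacter G) (β β' : IrrCharacter C), SInv G S χ → R χ β → R χ β' → β = β') ∧
    (∀ (χ χ' : IrrCharacter G) (β : IrrCharacter C), SInv G S χ → SInv G S χ' → R χ β → R χ' β →
      χ = χ') ∧
    (∀ β : IrrCharacter C, ∃ χ : IrrCharacter G, SInv G S χ ∧ R χ β) ∧
    (∀ (x : Γ) (hxG : x ∈ normalizer (G : Set Γ)) (_ : x ∈ normalizer (S : Set Γ))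
      (hxC : x ∈ normalizer (C : Set Γ)) (χ : IrrCharacter G) (β : IrrCharacter C), R χ β →
      R (actPerm G x hxG χ) (actPerm C x hxC β))

theorem corrClaim_bot (G C : Subgroup Γ) (hC : C = G ⊓ centralizer (((⊥ : Subgroup Γ)) : Set Γ)) :
    CorrClaim G ⊥ C := by
  have hCG : C = G := by
    rw [hC, inf_eq_left]
    intro g _
    rw [mem_centralizer_iff]
    intro h hh
    have : h = 1 := hh
    rw [this, one_mul, mul_one]
  subst hCG
  refine ⟨fun χ β => χ = β, ?_, ?_, ?_, ?_, ?_⟩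
  · intro χ _
    exact ⟨χ, rfl⟩
  · intro χ β β' _ h1 h2
    rw [← h1, ← h2]
  · intro χ χ' β _ _ h1 h2
    rw [h1, h2]
  · intro β
    refine ⟨β, ?_, rfl⟩
    intro s hs g g' hgg'
    have hs1 : s = 1 := hs
    rw [hs1, one_mul, inv_one, mul_one] at hgg'
    rw [Subtype.ext hgg']
  · intro x hxG _ hxC χ β h
    rw [h]

theorem corrClaim (HP : PHyp Γ) : ∀ n : ℕ, ∀ (G S C : Subgroup Γ), Nat.card S = n →
    (∀ s ∈ S, ∀ g ∈ G, s * g * s⁻¹ ∈ G) → (Nat.card G).Coprime (Nat.card S) →
    Group.IsSolvable S → C = G ⊓ centralizer (S : Set Γ) → CorrClaim G S C := by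
  intro n
  induction n using Nat.strong_induction_on with
  | _ n ih =>
    intro G S C hn hnorm hcop hsolv hC
    by_cases hS : S = ⊥
    · subst hS
      exact corrClaim_bot G C hC
    obtain ⟨p, hp, hne⟩ := exists_opUp_ne S hsolv hS
    set T := opUp p S with hT
    have hTS : T ≤ S := opUp_le p S
    have hcardT : Nat.card T < n := by
      by_contra hlt
      rw [not_lt, ← hn] at hlt
      exact hne (eq_of_le_of_card_ge hTS hlt)
    obtain ⟨P, hPS, hPp, hTP⟩ := opUp_sup_eq hp S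
    have hSG : S ≤ normalizer (G : Set Γ) := le_normalizer_of_conj_mem S G hnorm
    have hST : S ≤ normalizer (T : Set Γ) := fun s hs => opUp_mem_normalizer (le_normalizer hs)
    set D : Subgroup Γ := G ⊓ centralizer (T : Set Γ) with hD
    have hSD : S ≤ normalizer (D : Set Γ) := fun s hs =>
      mem_normalizer_inf (hSG hs) (mem_normalizer_centralizer (hST hs))
    have hDG : D ≤ G := inf_le_left
    -- the inductive hypothesis for `T`
    have hsolvT : Group.IsSolvable T := by
      haveI := hsolv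
      exact solvable_of_solvable_injective (inclusion_injective hTS)
    obtain ⟨R₁, a₁, b₁, c₁, d₁, e₁⟩ := ih (Nat.card T) hcardT G T D rfl
      (fun s hs => hnorm s (hTS hs))
      (Nat.Coprime.coprime_dvd_right (card_dvd_of_le hTS) hcop) hsolvT rfl
    -- the `p`-group step
    haveI : Fintype C := Fintype.ofFinite C
    have hCD' : C = D ⊓ centralizer (P : Set Γ) := by
      rw [hC, hD, inf_assoc, ← centralizer_sup_eq, hTP]
    have hCD : C ≤ D := by
      rw [hCD']
      exact inf_le_left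
    have hPD : ∀ s ∈ P, ∀ g ∈ D, s * g * s⁻¹ ∈ D := by
      intro s hs g hg
      exact (mem_normalizer_iff.mp (hSD (hPS hs)) g).mp hg
    obtain ⟨i₂, iii₂, iv₂⟩ := HP D P C hPD
      (Nat.Coprime.coprime_dvd_left (card_dvd_of_le hDG)
        (Nat.Coprime.coprime_dvd_right (card_dvd_of_le hPS) hcop)) p hp hPp hCD' hCD
    -- `β` is `P`-invariant
    have F3 : ∀ (χ : IrrCharacter G) (β : IrrCharacter D), SInv G S χ → R₁ χ β → SInv D P β := by
      intro χ β hχ hR
      rw [sInv_iff_act (le_trans hPS hSD)]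
      intro s hs
      have hsS := hPS hs
      have h1 := e₁ s (hSG hsS) (hST hsS) (hSD hsS) χ β hR
      have h2 : actPerm G s (hSG hsS) χ = χ := by
        apply Subtype.ext
        exact (sInv_iff_act hSG _).mp hχ s hsS
      rw [h2] at h1
      have h3 := b₁ χ _ _ (hχ.mono hTS) h1 hR
      exact congrArg Subtype.val h3
    have F4 : ∀ (χ : IrrCharacter G) (β : IrrCharacter D), SInv G T χ → SInv D P β → R₁ χ β →
        SInv G S χ := by
      intro χ β hχ hβ hR
      rw [sInv_iff_le_stab hSG, ← hTP]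
      apply sup_le
      · exact (sInv_iff_le_stab (le_trans hTS hSG) _).mp hχ
      · intro s hs
        have hsS := hPS hs
        refine ⟨hSG hsS, ?_⟩
        have h1 := e₁ s (hSG hsS) (hST hsS) (hSD hsS) χ β hR
        have h2 : actPerm D s (hSD hsS) β = β := by
          apply Subtype.ext
          exact (sInv_iff_act (le_trans hPS hSD) _).mp hβ s hs
        rw [h2] at h1
        have h3 : SInv G T (actPerm G s (hSG hsS) χ : IrrCharacter G) := by
          rw [sInv_iff_act (le_trans hTS hSG)]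
          intro t ht
          have htS := hTS ht
          show act G t (act G s χ) = act G s χ
          rw [← act_mul G (hSG hsS) (hSG htS)]
          have e : s * t = (s * t * s⁻¹) * s := by group
          have ht' : s * t * s⁻¹ ∈ T := opUp_conj_mem (le_normalizer hsS) ht
          rw [e, act_mul G (hSG (hTS ht')) (hSG hsS)]
          rw [(sInv_iff_act (le_trans hTS hSG) _).mp hχ _ ht']
        have h4 := c₁ _ _ _ h3 hχ h1 hR
        exact congrArg Subtype.val h4
    refine ⟨fun χ γ => ∃ β : IrrCharacter D, R₁ χ β ∧ QRel p hCD β γ, ?_, ?_, ?_, ?_, ?_⟩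
    · intro χ hχ
      obtain ⟨β, hβ⟩ := a₁ χ (hχ.mono hTS)
      obtain ⟨γ, hγ, _⟩ := i₂ β (F3 χ β hχ hβ)
      exact ⟨γ, β, hβ, hγ⟩
    · rintro χ γ γ' hχ ⟨β, h1, h2⟩ ⟨β', h1', h2'⟩
      have hbb := b₁ χ β β' (hχ.mono hTS) h1 h1'
      subst hbb
      exact (i₂ β (F3 χ β hχ h1)).unique h2 h2'
    · rintro χ χ' γ hχ hχ' ⟨β, h1, h2⟩ ⟨β', h1', h2'⟩
      have hbb := iii₂ β β' (F3 χ β hχ h1) (F3 χ' β' hχ' h1') γ h2 h2'
      subst hbb
      exact c₁ χ χ' β (hχ.mono hTS) (hχ'.mono hTS) h1 h1'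
    · intro γ
      obtain ⟨β, hβ, hQ⟩ := iv₂ γ
      obtain ⟨χ, hχ, hR⟩ := d₁ β
      exact ⟨χ, F4 χ β hχ hβ hR, β, hR, hQ⟩
    · rintro x hxG hxS hxC χ γ ⟨β, h1, h2⟩
      have hxT : x ∈ normalizer (T : Set Γ) := opUp_mem_normalizer hxS
      have hxD : x ∈ normalizer (D : Set Γ) :=
        mem_normalizer_inf hxG (mem_normalizer_centralizer hxT)
      exact ⟨actPerm D x hxD β, e₁ x hxG hxT hxD χ β h1, h2.act hCD hxD hxC⟩

/-- The number of `S`-invariant irreducible characters of `G` is the number of irreducible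
characters of `C_G(S)`. -/
theorem card_sInv_eq_card_irr (HP : PHyp Γ) (G S C : Subgroup Γ)
    (hnorm : ∀ s ∈ S, ∀ g ∈ G, s * g * s⁻¹ ∈ G) (hcop : (Nat.card G).Coprime (Nat.card S))
    (hsolv : Group.IsSolvable S) (hC : C = G ⊓ centralizer (S : Set Γ)) :
    Nat.card {χ : IrrCharacter G // SInv G S χ} = Nat.card (IrrCharacter C) := by
  obtain ⟨R, a, b, c, d, _⟩ := corrClaim HP (Nat.card S) G S C rfl hnorm hcop hsolv hC
  let f : {χ : IrrCharacter G // SInv G S χ} → IrrCharacter C := fun χ => (a χ.1 χ.2).choose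
  have hf : ∀ χ : {χ : IrrCharacter G // SInv G S χ}, R χ.1 (f χ) :=
    fun χ => (a χ.1 χ.2).choose_spec
  apply Nat.card_eq_of_bijective f
  constructor
  · intro χ χ' h
    apply Subtype.ext
    have h1 := hf χ
    have h2 := hf χ'
    rw [← h] at h2
    exact c _ _ _ χ.2 χ'.2 h1 h2
  · intro β
    obtain ⟨χ, hχ, hR⟩ := d β
    exact ⟨⟨χ, hχ⟩, b χ _ _ hχ (hf ⟨χ, hχ⟩) hR⟩

/-- The number of `S`-invariant irreducible characters equals the number of `S`-invariant
classes. -/
theorem card_sInv_eq_card_classes (HP : PHyp Γ) (G S : Subgroup Γ)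
    (hnorm : ∀ s ∈ S, ∀ g ∈ G, s * g * s⁻¹ ∈ G) (hcop : (Nat.card G).Coprime (Nat.card S))
    (hsolv : Group.IsSolvable S) :
    Nat.card {χ : IrrCharacter G // SInv G S χ} =
      Nat.card {K : ConjClasses G // ∀ s ∈ S, ∀ g g' : G,
        (g' : Γ) = s * g * s⁻¹ → ConjClasses.mk g = K → ConjClasses.mk g' = K} := by
  rw [card_sInv_eq_card_irr HP G S _ hnorm hcop hsolv rfl,
    Cfsg.Agent.Lib.Helper3.card_irrCharacter,
    card_conjClasses_fixed G S _ hnorm hcop (Or.inr hsolv) rfl]

end Main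

end Cfsg.Agent.Lib.Helper82
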