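import Mathlib
import Cfsg.Agent.S4448
import Cfsg.Agent.Lib.Helper82.GlaubCount
import Cfsg.Agent.Lib.Helper75.PGroupSum
import Cfsg.Agent.Lib.Helper3.Complete
import Cfsg.Agent.Lib.Helper3.OddOrder
import Cfsg.Agent.Lib.Helper81.Irr

/-!
# Compatibility of the `p`-group Glauberman correspondence with normal subgroups (Isaacs 13.29)
-/

set_option autoImplicit false
set_option linter.style.haveILetI false

namespace Cfsg.Agent.Lib.Helper82

open Subgroup Cfsg Cfsg.Agent.S4447 Cfsg.Agent.S4448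

variable {Γ : Type*} [Group Γ]

/-- The natural number equal to an inner product of characters (and `0` if there is none). -/
noncomputable def mult {Y : Type*} [Group Y] [Fintype Y] (φ ψ : Y → ℂ) : ℕ :=
  open Classical in if h : ∃ n : ℕ, classInner φ ψ = (n : ℂ) then h.choose else 0

theorem mult_spec {Y : Type*} [Group Y] [Fintype Y] {φ ψ : Y → ℂ} (hφ : IsCharacter Y φ)
    (hψ : IsCharacter Y ψ) : classInner φ ψ = (mult φ ψ : ℂ) := by
  have h := Cfsg.Agent.Lib.Helper25.classInner_char_nat hφ hψ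
  unfold mult
  rw [dif_pos h]
  exact h.choose_spec

theorem mult_eq_of_classInner_eq {Y : Type*} [Group Y] [Fintype Y] {φ ψ : Y → ℂ}
    (hφ : IsCharacter Y φ) (hψ : IsCharacter Y ψ) {m : ℕ} (h : classInner φ ψ = (m : ℂ)) :
    mult φ ψ = m := by
  have := mult_spec hφ hψ
  rw [h] at this
  exact (Nat.cast_injective this).symm

/-- Restriction in stages: the multiplicity of `ζ` in `φ_X` through the irreducible characters of
an intermediate group. -/
theorem classInner_res_eq_sum {Y X : Subgroup Γ} [Fintype Y] [Fintype X]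
    [Fintype (IrrCharacter Y)] (hXY : X ≤ Y) {φ : Y → ℂ} (hφ : IsClassFunction Y φ) (ζ : X → ℂ) :
    classInner (fun x : X => φ ⟨x, hXY x.2⟩) ζ =
      ∑ υ : IrrCharacter Y, classInner φ (υ : Y → ℂ) *
        classInner (fun x : X => (υ : Y → ℂ) ⟨x, hXY x.2⟩) ζ := by
  have h := Cfsg.Agent.Lib.Helper3.classFunction_eq_sum hφ
  have h2 : (fun x : X => φ ⟨x, hXY x.2⟩) = ∑ υ : IrrCharacter Y,
      classInner φ (υ : Y → ℂ) • (fun x : X => (υ : Y → ℂ) ⟨x, hXY x.2⟩) := by
    funext x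
    conv_lhs => rw [h]
    simp only [Finset.sum_apply, Pi.smul_apply]
  rw [h2, Cfsg.Agent.Lib.Helper3.classInner_sum_left]
  apply Finset.sum_congr rfl
  intro υ _
  rw [Cfsg.Agent.Lib.Helper3.classInner_smul_left]

/-- The natural number version of restriction in stages. -/
theorem classInner_res_eq_natSum {Y X : Subgroup Γ} [Fintype Y] [Fintype X]
    [Fintype (IrrCharacter Y)] (hXY : X ≤ Y) {φ : Y → ℂ} (hφ : IsCharacter Y φ) {ζ : X → ℂ}
    (hζ : IsCharacter X ζ) :
    classInner (fun x : X => φ ⟨x, hXY x.2⟩) ζ =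
      ((∑ υ : IrrCharacter Y, mult φ (υ : Y → ℂ) *
        mult (fun x : X => (υ : Y → ℂ) ⟨x, hXY x.2⟩) ζ : ℕ) : ℂ) := by
  rw [classInner_res_eq_sum hXY (Cfsg.Agent.Lib.Helper3.IsCharacter.isClassFunction hφ) ζ]
  push_cast
  apply Finset.sum_congr rfl
  intro υ _
  have hυ : IsCharacter Y (υ : Y → ℂ) := Cfsg.Agent.Lib.Helper3.IsIrrCharacter.isCharacter υ.2
  rw [mult_spec hφ hυ, mult_spec (isCharacter_res hXY hυ) hζ]

/-- A sum all of whose terms but one are divisible by `p`. -/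
theorem sum_modEq_single {ι : Type*} [Fintype ι] [DecidableEq ι] (p : ℕ) (w : ι → ℕ) (i₀ : ι)
    (h : ∀ i, i ≠ i₀ → p ∣ w i) : ∑ i, w i ≡ w i₀ [MOD p] := by
  rw [← Finset.add_sum_erase Finset.univ w (Finset.mem_univ i₀)]
  have : p ∣ ∑ i ∈ Finset.univ.erase i₀, w i := by
    apply Finset.dvd_sum
    intro i hi
    exact h i (Finset.ne_of_mem_erase hi)
  obtain ⟨k, hk⟩ := this
  rw [hk]
  show (w i₀ + p * k) % p = w i₀ % p
  rw [Nat.add_mul_mod_self_left]

section Action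

variable [Finite Γ]

/-- Weighted fixed point congruence for a `p`-group acting on the irreducible characters of a
subgroup it normalises: only the invariant characters count, and if all of them but one have weight
divisible by `p`, only that one counts. -/
theorem sum_modEq_of_inv {p : ℕ} (hp : p.Prime) {E P : Subgroup Γ} (hPp : IsPGroup p P)
    (hPE : P ≤ normalizer (E : Set Γ)) [Fintype (IrrCharacter E)] (w : IrrCharacter E → ℕ)
    (hw : ∀ (x : Γ) (hx : x ∈ P) (η : IrrCharacter E), w (actPerm E x (hPE hx) η) = w η)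
    (η₀ : IrrCharacter E) (hη₀ : SInv E P η₀)
    (hdvd : ∀ η : IrrCharacter E, SInv E P η → η ≠ η₀ → p ∣ w η) :
    ∑ η, w η ≡ w η₀ [MOD p] := by
  classical
  haveI : Fact p.Prime := ⟨hp⟩
  letI : MulAction P (IrrCharacter E) := MulAction.compHom _ (actHom E P hPE)
  have hsmul : ∀ (g : P) (η : IrrCharacter E),
      g • η = actPerm E (g : Γ)⁻¹ ((normalizer (E : Set Γ)).inv_mem (hPE g.2)) η := by
    intro g η
    rfl
  have hw' : ∀ (g : P) (η : IrrCharacter E), w (g • η) = w η := by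
    intro g η
    rw [hsmul]
    exact hw _ (P.inv_mem g.2) η
  have h1 := Cfsg.Agent.Lib.Helper75.sum_modEq_sum_fixedPoints hPp w hw'
  refine h1.trans ?_
  have hfix : ∀ η : IrrCharacter E, η ∈ MulAction.fixedPoints P (IrrCharacter E) ↔ SInv E P η := by
    intro η
    rw [MulAction.mem_fixedPoints, sInv_iff_act hPE]
    constructor
    · intro h s hs
      have := h ⟨s⁻¹, P.inv_mem hs⟩
      rw [hsmul] at this
      have h2 := congrArg Subtype.val this
      rw [actPerm_apply] at h2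
      simpa using h2
    · intro h g
      rw [hsmul]
      apply Subtype.ext
      rw [actPerm_apply]
      exact h _ (P.inv_mem g.2)
  have hmem : η₀ ∈ Finset.univ.filter (fun x : IrrCharacter E =>
      x ∈ MulAction.fixedPoints P (IrrCharacter E)) := by
    rw [Finset.mem_filter]
    exact ⟨Finset.mem_univ _, (hfix η₀).mpr hη₀⟩
  rw [← Finset.add_sum_erase _ w hmem]
  have : p ∣ ∑ i ∈ (Finset.univ.filter (fun x : IrrCharacter E =>
      x ∈ MulAction.fixedPoints P (IrrCharacter E))).erase η₀, w i := by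
    apply Finset.dvd_sum
    intro i hi
    have hi2 := Finset.mem_of_mem_erase hi
    rw [Finset.mem_filter] at hi2
    exact hdvd i ((hfix i).mp hi2.2) (Finset.ne_of_mem_erase hi)
  obtain ⟨k, hk⟩ := this
  rw [hk]
  show (w η₀ + p * k) % p = w η₀ % p
  rw [Nat.add_mul_mod_self_left]

/-- `E` is normal in `D`, in the form of an instance on `E.subgroupOf D`. -/
theorem normal_subgroupOf_of_conj_mem {D E : Subgroup Γ}
    (hEn : ∀ g ∈ D, ∀ n ∈ E, g * n * g⁻¹ ∈ E) : (E.subgroupOf D).Normal := by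
  refine ⟨fun n hn g => ?_⟩
  rw [mem_subgroupOf] at hn ⊢
  exact hEn g g.2 n hn

/-- The restriction to `E` of a class function of `D` is invariant under `D`. -/
theorem act_res_of_mem {D E : Subgroup Γ} (hED : E ≤ D) {g : Γ} (hgD : g ∈ D)
    (hgE : g ∈ normalizer (E : Set Γ)) {β : D → ℂ} (hβ : IsClassFunction D β) :
    act E g (fun e : E => β ⟨e, hED e.2⟩) = fun e : E => β ⟨e, hED e.2⟩ := by
  rw [← act_res D E hED (le_normalizer hgD) hgE β, act_of_mem D hgD hβ]

/-- Clifford: the multiplicity of a constituent of `β_E` (`E` normal in `D`) divides `|D|`. -/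
theorem mult_dvd_card {D E : Subgroup Γ} [Fintype D] [Fintype E] (hED : E ≤ D)
    (hEn : ∀ g ∈ D, ∀ n ∈ E, g * n * g⁻¹ ∈ E) (β : IrrCharacter D) (η : IrrCharacter E)
    (hne : classInner (fun e : E => (β : D → ℂ) ⟨e, hED e.2⟩) (η : E → ℂ) ≠ 0) :
    mult (fun e : E => (β : D → ℂ) ⟨e, hED e.2⟩) (η : E → ℂ) ∣ Nat.card D := by
  classical
  haveI : Finite (IrrCharacter E) := Cfsg.Agent.Lib.Helper81.finite_irrCharacter
  haveI : Fintype (IrrCharacter E) := Fintype.ofFinite _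
  haveI hEnorm : (E.subgroupOf D).Normal := normal_subgroupOf_of_conj_mem hEn
  have hDE : D ≤ normalizer (E : Set Γ) := le_normalizer_of_conj_mem D E hEn
  have hβc : IsCharacter D (β : D → ℂ) := Cfsg.Agent.Lib.Helper3.IsIrrCharacter.isCharacter β.2
  set βE : E → ℂ := fun e : E => (β : D → ℂ) ⟨e, hED e.2⟩ with hβE
  have hβEc : IsCharacter E βE := isCharacter_res hED hβc
  have hchar : ∀ η' : IrrCharacter E, IsCharacter E (η' : E → ℂ) := fun η' =>
    Cfsg.Agent.Lib.Helper3.IsIrrCharacter.isCharacter η'.2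
  -- degrees
  have hdeg : ∀ η' : IrrCharacter E, ∃ n : ℕ, (η' : E → ℂ) 1 = (n : ℂ) := fun η' => by
    obtain ⟨n, _, hn⟩ := Cfsg.Agent.Lib.Helper25.irr_degree η'.2
    exact ⟨n, hn⟩
  choose d hd using hdeg
  obtain ⟨nβ, hnβ, hnβdvd, _⟩ := Cfsg.Agent.Lib.Helper3.IsIrrCharacter.apply_one_dvd_card β.2
  -- the decomposition at `1`
  have hdec := Cfsg.Agent.Lib.Helper3.classFunction_eq_sum
    (Cfsg.Agent.Lib.Helper3.IsCharacter.isClassFunction hβEc)
  have h1 : βE 1 = ∑ η' : IrrCharacter E, classInner βE (η' : E → ℂ) * (η' : E → ℂ) 1 := by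
    conv_lhs => rw [hdec]
    simp only [Finset.sum_apply, Pi.smul_apply, smul_eq_mul]
  have h2 : βE 1 = (nβ : ℂ) := by
    rw [← hnβ]
    rfl
  have h3 : (nβ : ℂ) = ((∑ η' : IrrCharacter E, mult βE (η' : E → ℂ) * d η' : ℕ) : ℂ) := by
    rw [← h2, h1]
    push_cast
    apply Finset.sum_congr rfl
    intro η' _
    rw [mult_spec hβEc (hchar η'), hd η']
  have h4 : nβ = ∑ η' : IrrCharacter E, mult βE (η' : E → ℂ) * d η' := Nat.cast_injective h3
  refine dvd_trans ?_ hnβdvd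
  rw [h4]
  apply Finset.dvd_sum
  intro η' _
  by_cases h0 : mult βE (η' : E → ℂ) = 0
  · rw [h0, zero_mul]
    exact dvd_zero _
  · have hne' : classInner βE (η' : E → ℂ) ≠ 0 := by
      rw [mult_spec hβEc (hchar η')]
      exact_mod_cast h0
    obtain ⟨g, hgD, hg⟩ := clifford_act D E hED β.2 η.2 η'.2 hne hne'
    have : mult βE (η' : E → ℂ) = mult βE (η : E → ℂ) := by
      apply Nat.cast_injective (R := ℂ)
      rw [← mult_spec hβEc (hchar η'), ← mult_spec hβEc (hchar η), hg]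
      have hinv : act E g βE = βE := act_res_of_mem hED hgD (hDE hgD)
        (Cfsg.Agent.Lib.Helper3.IsCharacter.isClassFunction hβc)
      have := classInner_act E (hDE hgD) βE (η : E → ℂ)
      rw [hinv] at this
      exact this
    rw [this]
    exact dvd_mul_right _ _

/-- Elements of `P` act trivially on restrictions to subgroups centralised by `P`. -/
theorem res_act_of_centralizer {E CE P : Subgroup Γ} (hCEE : CE ≤ E)
    (hCEP : CE ≤ centralizer (P : Set Γ)) {x : Γ} (hx : x ∈ P)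
    (hxE : x ∈ normalizer (E : Set Γ)) (η : E → ℂ) :
    (fun c : CE => act E x η ⟨c, hCEE c.2⟩) = fun c : CE => η ⟨c, hCEE c.2⟩ := by
  funext c
  rw [act_apply E hxE]
  congr 1
  apply Subtype.ext
  show x * (c : Γ) * x⁻¹ = c
  have := mem_centralizer_iff.mp (hCEP c.2) x hx
  rw [this]
  group

/-- **Isaacs 13.29, `p`-groups, forward direction.** -/
theorem compat_forward (HP : PHyp Γ) {p : ℕ} (hp : p.Prime) (D E P C CE : Subgroup Γ)
    [Fintype D] [Fintype E] [Fintype C] [Fintype CE]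
    (hPD : ∀ s ∈ P, ∀ g ∈ D, s * g * s⁻¹ ∈ D) (hPE : ∀ s ∈ P, ∀ g ∈ E, s * g * s⁻¹ ∈ E)
    (hED : E ≤ D) (hEn : ∀ g ∈ D, ∀ n ∈ E, g * n * g⁻¹ ∈ E)
    (hcop : (Nat.card D).Coprime (Nat.card P)) (hPp : IsPGroup p P) (hpD : ¬ p ∣ Nat.card D)
    (hC : C = D ⊓ centralizer (P : Set Γ)) (hCE : CE = E ⊓ centralizer (P : Set Γ))
    (hCD : C ≤ D) (hCEE : CE ≤ E) (hCEC : CE ≤ C)
    (β : IrrCharacter D) (η : IrrCharacter E) (γ : IrrCharacter C) (ζ : IrrCharacter CE)
    (hβ : SInv D P β) (hη : SInv E P η) (hβγ : QRel p hCD β γ) (hηζ : QRel p hCEE η ζ)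
    (hne : classInner (fun e : E => (β : D → ℂ) ⟨e, hED e.2⟩) (η : E → ℂ) ≠ 0) :
    classInner (fun c : CE => (γ : C → ℂ) ⟨c, hCEC c.2⟩) (ζ : CE → ℂ) ≠ 0 := by
  classical
  haveI : Finite (IrrCharacter E) := Cfsg.Agent.Lib.Helper81.finite_irrCharacter
  haveI : Fintype (IrrCharacter E) := Fintype.ofFinite _
  haveI : Finite (IrrCharacter C) := Cfsg.Agent.Lib.Helper81.finite_irrCharacter
  haveI : Fintype (IrrCharacter C) := Fintype.ofFinite _
  have hPnE : P ≤ normalizer (E : Set Γ) := le_normalizer_of_conj_mem P E hPE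
  have hPnD : P ≤ normalizer (D : Set Γ) := le_normalizer_of_conj_mem P D hPD
  have hcopE : (Nat.card E).Coprime (Nat.card P) :=
    Nat.Coprime.coprime_dvd_left (card_dvd_of_le hED) hcop
  obtain ⟨_, iiiE, _⟩ := HP E P CE hPE hcopE p hp hPp hCE hCEE
  obtain ⟨iD, _, _⟩ := HP D P C hPD hcop p hp hPp hC hCD
  have hβc : IsCharacter D (β : D → ℂ) := Cfsg.Agent.Lib.Helper3.IsIrrCharacter.isCharacter β.2
  have hζc : IsCharacter CE (ζ : CE → ℂ) := Cfsg.Agent.Lib.Helper3.IsIrrCharacter.isCharacter ζ.2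
  set βE : E → ℂ := fun e : E => (β : D → ℂ) ⟨e, hED e.2⟩ with hβE
  set βC : C → ℂ := fun c : C => (β : D → ℂ) ⟨c, hCD c.2⟩ with hβC
  have hβEc : IsCharacter E βE := isCharacter_res hED hβc
  have hβCc : IsCharacter C βC := isCharacter_res hCD hβc
  have hcharE : ∀ η' : IrrCharacter E, IsCharacter E (η' : E → ℂ) := fun η' =>
    Cfsg.Agent.Lib.Helper3.IsIrrCharacter.isCharacter η'.2
  have hcharC : ∀ γ' : IrrCharacter C, IsCharacter C (γ' : C → ℂ) := fun γ' =>
    Cfsg.Agent.Lib.Helper3.IsIrrCharacter.isCharacter γ'.2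
  -- the two computations of `[β_{CE}, ζ]`
  have e1 := classInner_res_eq_natSum hCEE hβEc hζc
  have e2 := classInner_res_eq_natSum hCEC hβCc hζc
  set w1 : IrrCharacter E → ℕ := fun η' => mult βE (η' : E → ℂ) *
    mult (fun x : CE => (η' : E → ℂ) ⟨x, hCEE x.2⟩) (ζ : CE → ℂ) with hw1
  set w2 : IrrCharacter C → ℕ := fun γ' => mult βC (γ' : C → ℂ) *
    mult (fun x : CE => (γ' : C → ℂ) ⟨x, hCEC x.2⟩) (ζ : CE → ℂ) with hw2
  have e12 : ∑ η', w1 η' = ∑ γ', w2 γ' := by
    apply Nat.cast_injective (R := ℂ)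
    exact e1.symm.trans e2
  -- congruences
  have hCEP : CE ≤ centralizer (P : Set Γ) := by
    rw [hCE]
    exact inf_le_right
  have hinvβE : ∀ x ∈ P, act E x βE = βE := by
    intro x hx
    rw [← act_res D E hED (hPnD hx) (hPnE hx) β, (sInv_iff_act hPnD _).mp hβ x hx]
  have m1 : ∑ η', w1 η' ≡ w1 η [MOD p] := by
    apply sum_modEq_of_inv hp hPp hPnE w1 _ η hη
    · intro η' hη' hne'
      apply dvd_mul_of_dvd_right
      by_contra hnd
      have hq : QRel p hCEE η' ζ :=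
        ⟨_, mult_spec (isCharacter_res hCEE (hcharE η')) hζc, hnd⟩
      exact hne' (iiiE η' η hη' hη ζ hq hηζ)
    · intro x hx η'
      show mult βE (act E x (η' : E → ℂ)) * mult (fun c : CE => act E x (η' : E → ℂ) ⟨c, hCEE c.2⟩)
        (ζ : CE → ℂ) = w1 η'
      rw [res_act_of_centralizer hCEE hCEP hx (hPnE hx)]
      have : mult βE (act E x (η' : E → ℂ)) = mult βE (η' : E → ℂ) := by
        apply Nat.cast_injective (R := ℂ)
        rw [← mult_spec hβEc (act_isCharacter E (hPnE hx) (hcharE η')),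
          ← mult_spec hβEc (hcharE η')]
        have := classInner_act E (hPnE hx) βE (η' : E → ℂ)
        rw [hinvβE x hx] at this
        exact this
      rw [this]
  have m2 : ∑ γ', w2 γ' ≡ w2 γ [MOD p] := by
    apply sum_modEq_single
    intro γ' hne'
    apply dvd_mul_of_dvd_left
    by_contra hnd
    have hq : QRel p hCD β γ' := ⟨_, mult_spec hβCc (hcharC γ'), hnd⟩
    exact hne' ((iD β hβ).unique hq hβγ)
  -- `p` does not divide `w1 η`
  have hnd1 : ¬ p ∣ w1 η := by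
    intro hdvd
    rcases (Nat.Prime.dvd_mul hp).mp hdvd with h | h
    · exact hpD (dvd_trans h (mult_dvd_card hED hEn β η hne))
    · obtain ⟨m, hm, hpm⟩ := hηζ
      rw [mult_eq_of_classInner_eq (isCharacter_res hCEE (hcharE η)) hζc hm] at h
      exact hpm h
  have hnd2 : ¬ p ∣ w2 γ := by
    intro hdvd
    apply hnd1
    have h12 : w1 η ≡ w2 γ [MOD p] := by
      have := m1.symm.trans (e12 ▸ m2)
      exact this
    exact (h12.dvd_iff (dvd_refl p)).mpr hdvd
  intro h0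
  apply hnd2
  have : mult (fun x : CE => (γ : C → ℂ) ⟨x, hCEC x.2⟩) (ζ : CE → ℂ) = 0 := by
    apply Nat.cast_injective (R := ℂ)
    rw [← mult_spec (isCharacter_res hCEC (hcharC γ)) hζc, h0, Nat.cast_zero]
  show p ∣ mult βC (γ : C → ℂ) * mult (fun x : CE => (γ : C → ℂ) ⟨x, hCEC x.2⟩) (ζ : CE → ℂ)
  rw [this, mul_zero]
  exact dvd_zero _

/-- Conjugating by an element centralising `P` preserves `P`-invariance. -/
theorem sInv_act_of_centralizer {E P : Subgroup Γ} (hPE : P ≤ normalizer (E : Set Γ)) {c : Γ}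
    (hcE : c ∈ normalizer (E : Set Γ)) (hcP : c ∈ centralizer (P : Set Γ)) {η : E → ℂ}
    (hη : SInv E P η) : SInv E P (act E c η) := by
  rw [sInv_iff_act hPE] at hη ⊢
  intro s hs
  rw [← act_mul E hcE (hPE hs)]
  have e : c * s = s * c := (mem_centralizer_iff.mp hcP s hs).symm
  rw [e, act_mul E (hPE hs) hcE, hη s hs]

/-- **Isaacs 13.29 for `p`-groups of operators.** -/
theorem compat_pgroup (HP : PHyp Γ) {p : ℕ} (hp : p.Prime) (D E P C CE : Subgroup Γ)
    [Fintype D] [Fintype E] [Fintype C] [Fintype CE]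
    (hPD : ∀ s ∈ P, ∀ g ∈ D, s * g * s⁻¹ ∈ D) (hPE : ∀ s ∈ P, ∀ g ∈ E, s * g * s⁻¹ ∈ E)
    (hED : E ≤ D) (hEn : ∀ g ∈ D, ∀ n ∈ E, g * n * g⁻¹ ∈ E)
    (hcop : (Nat.card D).Coprime (Nat.card P)) (hPp : IsPGroup p P) (hpD : ¬ p ∣ Nat.card D)
    (hPsolv : Group.IsSolvable P)
    (hC : C = D ⊓ centralizer (P : Set Γ)) (hCE : CE = E ⊓ centralizer (P : Set Γ))
    (hCD : C ≤ D) (hCEE : CE ≤ E) (hCEC : CE ≤ C)
    (β : IrrCharacter D) (η : IrrCharacter E) (γ : IrrCharacter C) (ζ : IrrCharacter CE)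
    (hβ : SInv D P β) (hη : SInv E P η) (hβγ : QRel p hCD β γ) (hηζ : QRel p hCEE η ζ) :
    classInner (fun e : E => (β : D → ℂ) ⟨e, hED e.2⟩) (η : E → ℂ) ≠ 0 ↔
      classInner (fun c : CE => (γ : C → ℂ) ⟨c, hCEC c.2⟩) (ζ : CE → ℂ) ≠ 0 := by
  classical
  constructor
  · exact compat_forward HP hp D E P C CE hPD hPE hED hEn hcop hPp hpD hC hCE hCD hCEE hCEC
      β η γ ζ hβ hη hβγ hηζ
  intro hγζ
  haveI : Fintype Γ := Fintype.ofFinite Γ
  have hPnE : P ≤ normalizer (E : Set Γ) := le_normalizer_of_conj_mem P E hPE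
  have hDE : D ≤ normalizer (E : Set Γ) := le_normalizer_of_conj_mem D E hEn
  have hcopE : (Nat.card E).Coprime (Nat.card P) :=
    Nat.Coprime.coprime_dvd_left (card_dvd_of_le hED) hcop
  obtain ⟨iE, iiiE, _⟩ := HP E P CE hPE hcopE p hp hPp hCE hCEE
  haveI hEnorm : (E.subgroupOf D).Normal := normal_subgroupOf_of_conj_mem hEn
  -- an invariant constituent of `β_E`
  obtain ⟨η', hη'ne, hη'inv⟩ := Cfsg.Agent.S4447.result D P E hPD hED hPE
    (Nat.Coprime.coprime_dvd_left (relIndex_dvd_card E D) hcop) (Or.inl hPsolv) β hβ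
  have hη'inv' : SInv E P η' := hη'inv
  obtain ⟨ζ', hζ', _⟩ := iE η' hη'inv'
  have h1 := compat_forward HP hp D E P C CE hPD hPE hED hEn hcop hPp hpD hC hCE hCD hCEE hCEC
    β η' γ ζ' hβ hη'inv' hβγ hζ' hη'ne
  -- `CE` is normal in `C`
  have hCEn : ∀ g ∈ C, ∀ n ∈ CE, g * n * g⁻¹ ∈ CE := by
    intro g hg n hn
    have hg' := hC.le hg
    have hn' := hCE.le hn
    apply hCE.ge
    refine ⟨hEn g hg'.1 n hn'.1, ?_⟩
    exact (centralizer (P : Set Γ)).mul_mem ((centralizer (P : Set Γ)).mul_mem hg'.2 hn'.2)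
      ((centralizer (P : Set Γ)).inv_mem hg'.2)
  haveI hCEnorm : (CE.subgroupOf C).Normal := normal_subgroupOf_of_conj_mem hCEn
  obtain ⟨c, hcC, hc⟩ := clifford_act C CE hCEC γ.2 ζ.2 ζ'.2 hγζ h1
  have hcD : c ∈ D := hCD hcC
  have hcP : c ∈ centralizer (P : Set Γ) := (hC.le hcC).2
  have hcE : c ∈ normalizer (E : Set Γ) := hDE hcD
  have hcCE : c ∈ normalizer (CE : Set Γ) := le_normalizer_of_conj_mem C CE hCEn hcC
  -- the conjugate of `η`
  set η'' : IrrCharacter E := actPerm E c hcE η with hη''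
  have hη''inv : SInv E P η'' := sInv_act_of_centralizer hPnE hcE hcP hη
  have hq : QRel p hCEE η'' ζ' := by
    have := hηζ.act hCEE hcE hcCE
    rw [← hc] at this
    exact this
  have heq : η' = η'' := iiiE η' η'' hη'inv' hη''inv ζ' hζ' hq
  -- conclude
  have hcf : IsClassFunction D (β : D → ℂ) := Cfsg.Agent.Lib.Helper3.IsCharacter.isClassFunction
    (Cfsg.Agent.Lib.Helper3.IsIrrCharacter.isCharacter β.2)
  have hinv := act_res_of_mem hED hcD hcE hcf
  have h2 := classInner_act E hcE (fun e : E => (β : D → ℂ) ⟨e, hED e.2⟩) (η : E → ℂ)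
  rw [hinv] at h2
  rw [← h2]
  have h3 : act E c (η : E → ℂ) = (η' : E → ℂ) := by
    rw [heq]
    rfl
  rw [h3]
  exact hη'ne

end Action

end Cfsg.Agent.Lib.Helper82
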