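import Mathlib
import Cfsg.Agent.Lib.Helper82.GlaubCompat

/-!
# The Glauberman correspondence for solvable operators, compatible with normal subgroups

Pair version of the inductive construction of `GlaubCount`: for an `S`-invariant normal subgroup
`N` of `G` we construct correspondences for `G` and for `N` simultaneously, with Isaacs 13.29:
`χ` lies over `θ` iff `χ*` lies over `θ*`.  As a consequence (Isaacs 13.31) every `S`-invariant
irreducible character of `N` lies under an `S`-invariant irreducible character of `G`.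
-/

set_option autoImplicit false
set_option linter.style.haveILetI false

namespace Cfsg.Agent.Lib.Helper82

open Subgroup Cfsg Cfsg.Agent.S4447 Cfsg.Agent.S4448

variable {Γ : Type*} [Group Γ] [Finite Γ]

/-- The properties of a correspondence relation between the `S`-invariant irreducible characters
of `G` and the irreducible characters of `C`. -/
structure CorrProps (G S C : Subgroup Γ) (R : IrrCharacter G → IrrCharacter C → Prop) : Prop where
  ex : ∀ χ : IrrCharacter G, SInv G S χ → ∃ β, R χ β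
  uniq : ∀ (χ : IrrCharacter G) (β β' : IrrCharacter C), SInv G S χ → R χ β → R χ β' → β = β'
  inj : ∀ (χ χ' : IrrCharacter G) (β : IrrCharacter C), SInv G S χ → SInv G S χ' → R χ β →
    R χ' β → χ = χ'
  surj : ∀ β : IrrCharacter C, ∃ χ : IrrCharacter G, SInv G S χ ∧ R χ β
  equiv : ∀ (x : Γ) (hxG : x ∈ normalizer (G : Set Γ)) (_ : x ∈ normalizer (S : Set Γ))
    (hxC : x ∈ normalizer (C : Set Γ)) (χ : IrrCharacter G) (β : IrrCharacter C), R χ β →
    R (actPerm G x hxG χ) (actPerm C x hxC β)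

omit [Finite Γ] in
/-- If `χ` is `S`-invariant and corresponds to `β` under an equivariant functional relation for
`T ⊲ S`, then `β` is invariant under `P ≤ S`. -/
theorem CorrProps.inv_of_inv {G S T P D : Subgroup Γ} {R₁ : IrrCharacter G → IrrCharacter D → Prop}
    (h₁ : CorrProps G T D R₁) (hTS : T ≤ S) (hPS : P ≤ S)
    (hSG : S ≤ normalizer (G : Set Γ)) (hST : S ≤ normalizer (T : Set Γ))
    (hSD : S ≤ normalizer (D : Set Γ)) (χ : IrrCharacter G) (β : IrrCharacter D)
    (hχ : SInv G S χ) (hR : R₁ χ β) : SInv D P β := by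
  rw [sInv_iff_act (le_trans hPS hSD)]
  intro s hs
  have hsS := hPS hs
  have h1 := h₁.equiv s (hSG hsS) (hST hsS) (hSD hsS) χ β hR
  have h2 : actPerm G s (hSG hsS) χ = χ := by
    apply Subtype.ext
    exact (sInv_iff_act hSG _).mp hχ s hsS
  rw [h2] at h1
  have h3 := h₁.uniq χ _ _ (hχ.mono hTS) h1 hR
  exact congrArg Subtype.val h3

/-- One step of the induction: composing a correspondence for `T ⊲ S` with the `p`-group
correspondence for `P` acting on `C_G(T)`, where `S = T P`. -/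
theorem corrProps_step (HP : PHyp Γ) {p : ℕ} (hp : p.Prime) (G S T P D C : Subgroup Γ)
    [Fintype C]
    (hnorm : ∀ s ∈ S, ∀ g ∈ G, s * g * s⁻¹ ∈ G) (hcop : (Nat.card G).Coprime (Nat.card S))
    (hTS : T ≤ S) (hPS : P ≤ S) (hTP : T ⊔ P = S)
    (hTchar : ∀ x : Γ, x ∈ normalizer (S : Set Γ) → x ∈ normalizer (T : Set Γ))
    (hPp : IsPGroup p P)
    (hD : D = G ⊓ centralizer (T : Set Γ)) (hC : C = G ⊓ centralizer (S : Set Γ)) (hCD : C ≤ D)
    (R₁ : IrrCharacter G → IrrCharacter D → Prop) (h₁ : CorrProps G T D R₁) :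
    CorrProps G S C (fun χ γ => ∃ β : IrrCharacter D, R₁ χ β ∧ QRel p hCD β γ) := by
  have hSG : S ≤ normalizer (G : Set Γ) := le_normalizer_of_conj_mem S G hnorm
  have hST : S ≤ normalizer (T : Set Γ) := fun s hs => hTchar s (le_normalizer hs)
  have hSD : S ≤ normalizer (D : Set Γ) := fun s hs => by
    rw [hD]
    exact mem_normalizer_inf (hSG hs) (mem_normalizer_centralizer (hST hs))
  have hDG : D ≤ G := by
    rw [hD]
    exact inf_le_left
  have hCD' : C = D ⊓ centralizer (P : Set Γ) := by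
    rw [hC, hD, inf_assoc, ← centralizer_sup_eq, hTP]
  have hPD : ∀ s ∈ P, ∀ g ∈ D, s * g * s⁻¹ ∈ D := by
    intro s hs g hg
    exact (mem_normalizer_iff.mp (hSD (hPS hs)) g).mp hg
  obtain ⟨i₂, iii₂, iv₂⟩ := HP D P C hPD
    (Nat.Coprime.coprime_dvd_left (card_dvd_of_le hDG)
      (Nat.Coprime.coprime_dvd_right (card_dvd_of_le hPS) hcop)) p hp hPp hCD' hCD
  have F3 : ∀ (χ : IrrCharacter G) (β : IrrCharacter D), SInv G S χ → R₁ χ β → SInv D P β :=
    fun χ β hχ hR => h₁.inv_of_inv hTS hPS hSG hST hSD χ β hχ hR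
  have F4 : ∀ (χ : IrrCharacter G) (β : IrrCharacter D), SInv G T χ → SInv D P β → R₁ χ β →
      SInv G S χ := by
    intro χ β hχ hβ hR
    rw [sInv_iff_le_stab hSG, ← hTP]
    apply sup_le
    · exact (sInv_iff_le_stab (le_trans hTS hSG) _).mp hχ
    · intro s hs
      have hsS := hPS hs
      refine ⟨hSG hsS, ?_⟩
      have h1 := h₁.equiv s (hSG hsS) (hST hsS) (hSD hsS) χ β hR
      have h2 : actPerm D s (hSD hsS) β = β := by
        apply Subtype.ext
        exact (sInv_iff_act (le_trans hPS hSD) _).mp hβ s hs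
      rw [h2] at h1
      have h3 : SInv G T (actPerm G s (hSG hsS) χ : IrrCharacter G) := by
        rw [sInv_iff_act (le_trans hTS hSG)]
        intro t ht
        have htS := hTS ht
        show act G t (act G s χ) = act G s χ
        rw [← act_mul G (hSG hsS) (hSG htS)]
        have e : s * t = (s * t * s⁻¹) * s := by group
        have ht' : s * t * s⁻¹ ∈ T := (mem_normalizer_iff.mp (hST hsS) t).mp ht
        rw [e, act_mul G (hSG (hTS ht')) (hSG hsS)]
        rw [(sInv_iff_act (le_trans hTS hSG) _).mp hχ _ ht']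
      have h4 := h₁.inj _ _ _ h3 hχ h1 hR
      exact congrArg Subtype.val h4
  refine ⟨?_, ?_, ?_, ?_, ?_⟩
  · intro χ hχ
    obtain ⟨β, hβ⟩ := h₁.ex χ (hχ.mono hTS)
    obtain ⟨γ, hγ, _⟩ := i₂ β (F3 χ β hχ hβ)
    exact ⟨γ, β, hβ, hγ⟩
  · rintro χ γ γ' hχ ⟨β, h1, h2⟩ ⟨β', h1', h2'⟩
    have hbb := h₁.uniq χ β β' (hχ.mono hTS) h1 h1'
    subst hbb
    exact (i₂ β (F3 χ β hχ h1)).unique h2 h2'
  · rintro χ χ' γ hχ hχ' ⟨β, h1, h2⟩ ⟨β', h1', h2'⟩
    have hbb := iii₂ β β' (F3 χ β hχ h1) (F3 χ' β' hχ' h1') γ h2 h2'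
    subst hbb
    exact h₁.inj χ χ' β (hχ.mono hTS) (hχ'.mono hTS) h1 h1'
  · intro γ
    obtain ⟨β, hβ, hQ⟩ := iv₂ γ
    obtain ⟨χ, hχ, hR⟩ := h₁.surj β
    exact ⟨χ, F4 χ β hχ hβ hR, β, hR, hQ⟩
  · rintro x hxG hxS hxC χ γ ⟨β, h1, h2⟩
    have hxT : x ∈ normalizer (T : Set Γ) := hTchar x hxS
    have hxD : x ∈ normalizer (D : Set Γ) := by
      rw [hD]
      exact mem_normalizer_inf hxG (mem_normalizer_centralizer hxT)
    exact ⟨actPerm D x hxD β, h₁.equiv x hxG hxT hxD χ β h1, h2.act hCD hxD hxC⟩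

omit [Finite Γ] in
theorem corrProps_bot (G : Subgroup Γ) : CorrProps G ⊥ G (fun χ β => χ = β) := by
  refine ⟨?_, ?_, ?_, ?_, ?_⟩
  · intro χ _
    exact ⟨χ, rfl⟩
  · intro χ β β' _ h1 h2
    rw [← h1, ← h2]
  · intro χ χ' β _ _ h1 h2
    rw [h1, h2]
  · intro β
    refine ⟨β, ?_, rfl⟩
    intro s hs g g' hgg'
    have hs1 : s = 1 := hs
    rw [hs1, one_mul, inv_one, mul_one] at hgg'
    rw [Subtype.ext hgg']
  · intro x hxG _ hxC χ β h
    rw [h]

omit [Finite Γ] in
theorem inf_centralizer_bot (G : Subgroup Γ) :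
    G ⊓ centralizer (((⊥ : Subgroup Γ)) : Set Γ) = G := by
  rw [inf_eq_left]
  intro g _
  rw [mem_centralizer_iff]
  intro h hh
  have : h = 1 := hh
  rw [this, one_mul, mul_one]

/-- If `O^p(S) ≠ S` then `p` divides `|S|`. -/
theorem dvd_card_of_opUp_ne {p : ℕ} (hp : p.Prime) {S : Subgroup Γ} (hne : opUp p S ≠ S) :
    p ∣ Nat.card S := by
  by_contra hnd
  apply hne
  apply le_antisymm (opUp_le p S)
  intro s hs
  apply Subgroup.subset_closure
  refine ⟨hs, ?_⟩
  have h1 : orderOf s ∣ Nat.card S := by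
    have := orderOf_dvd_natCard (⟨s, hs⟩ : S)
    rwa [Subgroup.orderOf_mk] at this
  exact Nat.Coprime.coprime_dvd_left h1 ((Nat.Prime.coprime_iff_not_dvd hp).mpr hnd).symm

/-- Isaacs 13.29 as a property of a pair of correspondence relations. -/
def Compat (G N S C CN : Subgroup Γ) (RG : IrrCharacter G → IrrCharacter C → Prop)
    (RN : IrrCharacter N → IrrCharacter CN → Prop) : Prop :=
  ∀ [Fintype N] [Fintype CN] (hNG : N ≤ G) (hCNC : CN ≤ C) (χ : IrrCharacter G)
    (θ : IrrCharacter N) (γ : IrrCharacter C) (ζ : IrrCharacter CN), SInv G S χ → SInv N S θ →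
    RG χ γ → RN θ ζ →
    (classInner (fun n : N => (χ : G → ℂ) ⟨n, hNG n.2⟩) (θ : N → ℂ) ≠ 0 ↔
      classInner (fun c : CN => (γ : C → ℂ) ⟨c, hCNC c.2⟩) (ζ : CN → ℂ) ≠ 0)

/-- The pair induction. -/
theorem pairClaim (HP : PHyp Γ) : ∀ n : ℕ, ∀ (G N S C CN : Subgroup Γ), Nat.card S = n →
    (∀ s ∈ S, ∀ g ∈ G, s * g * s⁻¹ ∈ G) → (∀ s ∈ S, ∀ g ∈ N, s * g * s⁻¹ ∈ N) → N ≤ G →
    (∀ g ∈ G, ∀ n ∈ N, g * n * g⁻¹ ∈ N) → (Nat.card G).Coprime (Nat.card S) →
    Group.IsSolvable S → C = G ⊓ centralizer (S : Set Γ) → CN = N ⊓ centralizer (S : Set Γ) →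
    ∃ (RG : IrrCharacter G → IrrCharacter C → Prop) (RN : IrrCharacter N → IrrCharacter CN → Prop),
      CorrProps G S C RG ∧ CorrProps N S CN RN ∧ Compat G N S C CN RG RN := by
  intro n
  induction n using Nat.strong_induction_on with
  | _ n ih =>
    intro G N S C CN hn hnormG hnormN hNG hNn hcop hsolv hC hCN
    by_cases hS : S = ⊥
    · subst hS
      have hCG : C = G := by rw [hC, inf_centralizer_bot]
      have hCNN : CN = N := by rw [hCN, inf_centralizer_bot]
      subst hCG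
      subst hCNN
      refine ⟨_, _, corrProps_bot C, corrProps_bot CN, ?_⟩
      intro iN iCN hNG' hCNC χ θ γ ζ _ _ h1 h2
      subst h1
      subst h2
      have e : iN = iCN := Subsingleton.elim _ _
      subst e
      exact Iff.rfl
    obtain ⟨p, hp, hne⟩ := exists_opUp_ne S hsolv hS
    set T := opUp p S with hT
    have hTS : T ≤ S := opUp_le p S
    have hcardT : Nat.card T < n := by
      by_contra hlt
      rw [not_lt, ← hn] at hlt
      exact hne (eq_of_le_of_card_ge hTS hlt)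
    obtain ⟨P, hPS, hPp, hTP⟩ := opUp_sup_eq hp S
    have hTchar : ∀ x : Γ, x ∈ normalizer (S : Set Γ) → x ∈ normalizer (T : Set Γ) :=
      fun x hx => opUp_mem_normalizer hx
    have hSG : S ≤ normalizer (G : Set Γ) := le_normalizer_of_conj_mem S G hnormG
    have hSN : S ≤ normalizer (N : Set Γ) := le_normalizer_of_conj_mem S N hnormN
    have hST : S ≤ normalizer (T : Set Γ) := fun s hs => hTchar s (le_normalizer hs)
    set D : Subgroup Γ := G ⊓ centralizer (T : Set Γ) with hD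
    set DN : Subgroup Γ := N ⊓ centralizer (T : Set Γ) with hDN
    have hSD : S ≤ normalizer (D : Set Γ) := fun s hs =>
      mem_normalizer_inf (hSG hs) (mem_normalizer_centralizer (hST hs))
    have hSDN : S ≤ normalizer (DN : Set Γ) := fun s hs =>
      mem_normalizer_inf (hSN hs) (mem_normalizer_centralizer (hST hs))
    have hsolvT : Group.IsSolvable T := by
      haveI := hsolv
      exact solvable_of_solvable_injective (inclusion_injective hTS)
    have hsolvP : Group.IsSolvable P := by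
      haveI := hsolv
      exact solvable_of_solvable_injective (inclusion_injective hPS)
    have hcopN : (Nat.card N).Coprime (Nat.card S) :=
      Nat.Coprime.coprime_dvd_left (card_dvd_of_le hNG) hcop
    obtain ⟨R₁G, R₁N, h₁G, h₁N, hcompat₁⟩ := ih (Nat.card T) hcardT G N T D DN rfl
      (fun s hs => hnormG s (hTS hs)) (fun s hs => hnormN s (hTS hs)) hNG hNn
      (Nat.Coprime.coprime_dvd_right (card_dvd_of_le hTS) hcop) hsolvT rfl rfl
    haveI instC : Fintype C := Fintype.ofFinite C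
    haveI instCN : Fintype CN := Fintype.ofFinite CN
    haveI instD : Fintype D := Fintype.ofFinite D
    haveI instDN : Fintype DN := Fintype.ofFinite DN
    have hCD' : C = D ⊓ centralizer (P : Set Γ) := by
      rw [hC, hD, inf_assoc, ← centralizer_sup_eq, hTP]
    have hCND' : CN = DN ⊓ centralizer (P : Set Γ) := by
      rw [hCN, hDN, inf_assoc, ← centralizer_sup_eq, hTP]
    have hCD : C ≤ D := by
      rw [hCD']
      exact inf_le_left
    have hCNDN : CN ≤ DN := by
      rw [hCND']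
      exact inf_le_left
    have stepG := corrProps_step HP hp G S T P D C hnormG hcop hTS hPS hTP hTchar hPp rfl hC hCD
      R₁G h₁G
    have stepN := corrProps_step HP hp N S T P DN CN hnormN hcopN hTS hPS hTP hTchar hPp rfl hCN
      hCNDN R₁N h₁N
    refine ⟨_, _, stepG, stepN, ?_⟩
    intro iN iCN hNG' hCNC χ θ γ ζ hχ hθ hRG hRN
    obtain ⟨β, hβ1, hβ2⟩ := hRG
    obtain ⟨η, hη1, hη2⟩ := hRN
    have eCN : iCN = instCN := Subsingleton.elim _ _
    subst eCN
    have hDND : DN ≤ D := inf_le_inf_right _ hNG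
    have hc1 := @hcompat₁ iN instDN hNG' hDND χ θ β η (hχ.mono hTS) (hθ.mono hTS) hβ1 hη1
    rw [hc1]
    have hPD : ∀ s ∈ P, ∀ g ∈ D, s * g * s⁻¹ ∈ D := fun s hs g hg =>
      (mem_normalizer_iff.mp (hSD (hPS hs)) g).mp hg
    have hPDN : ∀ s ∈ P, ∀ g ∈ DN, s * g * s⁻¹ ∈ DN := fun s hs g hg =>
      (mem_normalizer_iff.mp (hSDN (hPS hs)) g).mp hg
    have hDNn : ∀ g ∈ D, ∀ n ∈ DN, g * n * g⁻¹ ∈ DN := by
      intro g hg n hn
      refine ⟨hNn g hg.1 n hn.1, ?_⟩
      exact (centralizer (T : Set Γ)).mul_mem ((centralizer (T : Set Γ)).mul_mem hg.2 hn.2)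
        ((centralizer (T : Set Γ)).inv_mem hg.2)
    have hDG : D ≤ G := inf_le_left
    have hcopD : (Nat.card D).Coprime (Nat.card P) :=
      Nat.Coprime.coprime_dvd_left (card_dvd_of_le hDG)
        (Nat.Coprime.coprime_dvd_right (card_dvd_of_le hPS) hcop)
    have hpD : ¬ p ∣ Nat.card D := by
      intro hdvd
      have h1 : p ∣ Nat.card G := dvd_trans hdvd (card_dvd_of_le hDG)
      have h2 : p ∣ Nat.card S := dvd_card_of_opUp_ne hp hne
      have h3 := Nat.dvd_gcd h1 h2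
      rw [hcop] at h3
      exact hp.one_lt.ne' (Nat.dvd_one.mp h3)
    have hβinv : SInv D P β := h₁G.inv_of_inv hTS hPS hSG hST hSD χ β hχ hβ1
    have hηinv : SInv DN P η := h₁N.inv_of_inv hTS hPS hSN hST hSDN θ η hθ hη1
    exact compat_pgroup HP hp D DN P C CN hPD hPDN hDND hDNn hcopD hPp hpD hsolvP hCD' hCND' hCD
      hCNDN hCNC β η γ ζ hβinv hηinv hβ2 hη2

/-- **Isaacs 13.31**: every `S`-invariant irreducible character of an `S`-invariant normal subgroup
`N` of `G` lies under an `S`-invariant irreducible character of `G` (`S` solvable, coprime). -/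
theorem exists_invariant_over (HP : PHyp Γ) (G S N : Subgroup Γ) [Fintype N]
    (hnorm : ∀ s ∈ S, ∀ g ∈ G, s * g * s⁻¹ ∈ G) (hNG : N ≤ G)
    (hNn : ∀ g ∈ G, ∀ n ∈ N, g * n * g⁻¹ ∈ N) (hNS : ∀ s ∈ S, ∀ n ∈ N, s * n * s⁻¹ ∈ N)
    (hcop : (Nat.card G).Coprime (Nat.card S)) (hsolv : Group.IsSolvable S)
    (θ : IrrCharacter N) (hinv : SInv N S θ) :
    ∃ χ : IrrCharacter G, classInner (fun n : N => (χ : G → ℂ) ⟨n, hNG n.2⟩) (θ : N → ℂ) ≠ 0 ∧
      SInv G S χ := by
  obtain ⟨RG, RN, hG, hN, hcompat⟩ := pairClaim HP (Nat.card S) G N S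
    (G ⊓ centralizer (S : Set Γ)) (N ⊓ centralizer (S : Set Γ)) rfl hnorm hNS hNG hNn hcop hsolv
    rfl rfl
  haveI : Fintype (G ⊓ centralizer (S : Set Γ) : Subgroup Γ) := Fintype.ofFinite _
  haveI : Fintype (N ⊓ centralizer (S : Set Γ) : Subgroup Γ) := Fintype.ofFinite _
  have hCNC : N ⊓ centralizer (S : Set Γ) ≤ G ⊓ centralizer (S : Set Γ) :=
    inf_le_inf_right _ hNG
  obtain ⟨ζ, hζ⟩ := hN.ex θ hinv
  obtain ⟨γ, hγ, hγζ⟩ := exists_over_sub hCNC ζ.2
  obtain ⟨χ, hχ, hR⟩ := hG.surj ⟨γ, hγ⟩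
  refine ⟨χ, ?_, hχ⟩
  rw [hcompat hNG hCNC χ θ ⟨γ, hγ⟩ ζ hχ hinv hR hζ]
  exact hγζ

end Cfsg.Agent.Lib.Helper82
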