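import Mathlib
import Cfsg.Agent.S4444
import Cfsg.Agent.Lib.Helper82.GlaubCount

/-!
# The Glauberman count for solvable groups of operators (standalone form)

`|Irr_S(G)| = |Irr(C_G(S))|` for a solvable `S` normalising `G` with coprime orders inside a finite
ambient group `Γ`; the `p`-group case is `Cfsg.Agent.S4444.result`.
-/

set_option autoImplicit false
set_option linter.style.haveILetI false

namespace Cfsg.Agent.Lib.Helper82

open Subgroup Cfsg

/-- The Glauberman correspondence for `p`-groups (S4444) in the form `PHyp`. -/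
theorem pHyp_of_S4444 {Γ : Type*} [Group Γ] [Finite Γ] : PHyp Γ := by
  intro D P C _ hPD hcop p hp hPp hC hCD
  haveI : Fintype Γ := Fintype.ofFinite Γ
  haveI : Fintype D := Fintype.ofFinite D
  obtain ⟨h1, _, h3, h4⟩ := Cfsg.Agent.S4444.result D P hPD hcop p hp hPp C hC hCD
  refine ⟨h1, ?_, h4⟩
  rintro β β' hβ hβ' γ ⟨m, hm, hpm⟩ ⟨m', hm', hpm'⟩
  exact h3 β β' hβ hβ' γ m m' hm hpm hm' hpm'

/-- **Glauberman count, solvable operators**: the number of `S`-invariant irreducible characters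
of `G` equals the number of irreducible characters of `C = C_G(S)`. -/
theorem card_invariant_irr_eq_card_irr_fixed {Γ : Type*} [Group Γ] [Finite Γ] (G S C : Subgroup Γ)
    (hnorm : ∀ s ∈ S, ∀ g ∈ G, s * g * s⁻¹ ∈ G) (hcop : (Nat.card G).Coprime (Nat.card S))
    (hsolv : Group.IsSolvable S) (hC : C = G ⊓ centralizer (S : Set Γ)) :
    Nat.card {χ : IrrCharacter G // ∀ s ∈ S, ∀ g g' : G, (g' : Γ) = s * g * s⁻¹ →
      (χ : G → ℂ) g' = (χ : G → ℂ) g} = Nat.card (IrrCharacter C) :=
  card_sInv_eq_card_irr pHyp_of_S4444 G S C hnorm hcop hsolv hC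

/-- The same count, against the classes of `C_G(S)`. -/
theorem card_invariant_irr_eq_card_conjClasses_fixed {Γ : Type*} [Group Γ] [Finite Γ]
    (G S C : Subgroup Γ)
    (hnorm : ∀ s ∈ S, ∀ g ∈ G, s * g * s⁻¹ ∈ G) (hcop : (Nat.card G).Coprime (Nat.card S))
    (hsolv : Group.IsSolvable S) (hC : C = G ⊓ centralizer (S : Set Γ)) :
    Nat.card {χ : IrrCharacter G // ∀ s ∈ S, ∀ g g' : G, (g' : Γ) = s * g * s⁻¹ →
      (χ : G → ℂ) g' = (χ : G → ℂ) g} = Nat.card (ConjClasses C) := by
  rw [card_invariant_irr_eq_card_irr_fixed G S C hnorm hcop hsolv hC,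
    Cfsg.Agent.Lib.Helper3.card_irrCharacter]

end Cfsg.Agent.Lib.Helper82
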