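import Mathlib
import Cfsg.Agent.Lib.Helper20.SuBNDefs

/-! S2546 hive (helper20), leaf SuBN-CONJ. -/

set_option autoImplicit false

namespace Cfsg.Agent.Lib.Helper20.SuBN

open Matrix Subgroup Cfsg.Agent.Lib.Helper20.PslF Cfsg.Agent.Lib.Helper20.SuF

variable {n : ℕ} {K : Type*} [Field K] [Fintype K]

/-- the product of the inverse entry with the distinguished entry -/
theorem conj_inv_mul_entry {g : SLn n K} {π : Equiv.Perm (Fin n)} (h : IsMon g π) (l j : Fin n) :
    mt g⁻¹ l (π j) * mt g (π j) j = (1 : Matrix (Fin n) (Fin n) K) l j := by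
  have h1 := congrFun (congrFun (mt_inv_mul g) l) j
  rw [Matrix.mul_apply] at h1
  rw [Finset.sum_eq_single (π j)] at h1
  · exact h1
  · intro k _ hk
    rw [h k j hk, mul_zero]
  · intro hx
    exact absurd (Finset.mem_univ _) hx

/-- the distinguished entry of a monomial matrix is nonzero -/
theorem conj_entry_ne_zero {g : SLn n K} {π : Equiv.Perm (Fin n)} (h : IsMon g π) (j : Fin n) :
    mt g (π j) j ≠ 0 := by
  intro h0
  have h1 := conj_inv_mul_entry h j j
  rw [h0, mul_zero, Matrix.one_apply_eq] at h1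
  exact zero_ne_one h1

/-- the inverse of a monomial matrix is monomial, entrywise form -/
theorem conj_inv_entry_zero {g : SLn n K} {π : Equiv.Perm (Fin n)} (h : IsMon g π) {l j : Fin n}
    (hlj : l ≠ j) : mt g⁻¹ l (π j) = 0 := by
  have h1 := conj_inv_mul_entry h l j
  rw [Matrix.one_apply_ne hlj] at h1
  rcases mul_eq_zero.mp h1 with h2 | h2
  · exact h2
  · exact absurd h2 (conj_entry_ne_zero h j)

/-- SuBN-CONJ (1/2): conjugation by a monomial matrix permutes the entries. -/
theorem conj_mon_entry {m : SLn n K} {π : Equiv.Perm (Fin n)} (hm : IsMon m π) (x : SLn n K)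
    (a b : Fin n) :
    mt (m * x * m⁻¹) (π a) (π b) = mt m (π a) a * mt x a b * mt m⁻¹ b (π b) := by
  rw [mt_mul, mt_mul, Matrix.mul_apply, Finset.sum_eq_single b]
  · congr 1
    rw [Matrix.mul_apply, Finset.sum_eq_single a]
    · intro k _ hk
      have : π a ≠ π k := fun h => hk (π.injective h).symm
      rw [hm (π a) k this, zero_mul]
    · intro hx
      exact absurd (Finset.mem_univ _) hx
  · intro l _ hl
    rw [conj_inv_entry_zero hm hl, mul_zero]
  · intro hx
    exact absurd (Finset.mem_univ _) hx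

/-- a permutation of `Fin n` with `ρ j ≤ j` for all `j` is the identity -/
theorem conj_perm_eq_one (ρ : Equiv.Perm (Fin n)) (h : ∀ j, ρ j ≤ j) : ρ = 1 := by
  have key : ∀ (k : ℕ) (j : Fin n), (j : ℕ) = k → ρ j = j := by
    intro k
    induction k using Nat.strong_induction_on with
    | _ k ih =>
      intro j hj
      rcases lt_or_eq_of_le (h j) with h1 | h1
      · exfalso
        have h2 : ρ (ρ j) = ρ j := ih (ρ j : ℕ) (by rw [← hj]; exact h1) (ρ j) rfl
        have h3 : ρ j = j := ρ.injective h2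
        exact h1.ne h3
      · exact h1
  ext j
  rw [Equiv.Perm.one_apply, key j j rfl]

/-- an upper triangular monomial matrix is diagonal -/
theorem conj_isMon_UT {g : SLn n K} {π : Equiv.Perm (Fin n)} (h : IsMon g π)
    (hg : g ∈ (UT : Subgroup (SLn n K))) : π = 1 := by
  apply conj_perm_eq_one
  intro j
  by_contra hcon
  rw [not_le] at hcon
  exact conj_entry_ne_zero h j ((mem_UT g).mp hg (π j) j hcon)

/-- SuBN-CONJ (2/2): `hT` of the criterion: monomial matrices normalise the diagonal ones. -/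
theorem conj_diag_mem_UT {m t : SLn n K} (hm : m ∈ (Mon : Subgroup (SLn n K)))
    (ht : t ∈ (UT : Subgroup (SLn n K))) (htM : t ∈ (Mon : Subgroup (SLn n K))) :
    m * t * m⁻¹ ∈ (UT : Subgroup (SLn n K)) := by
  obtain ⟨π, hπ⟩ := (mem_Mon m).mp hm
  obtain ⟨ρ, hρ⟩ := (mem_Mon t).mp htM
  have hρ1 : ρ = 1 := conj_isMon_UT hρ ht
  subst hρ1
  rw [mem_UT]
  intro x y hxy
  obtain ⟨a, rfl⟩ := π.surjective x
  obtain ⟨b, rfl⟩ := π.surjective y
  rw [conj_mon_entry hπ t a b]
  have hab : a ≠ b := by
    intro h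
    rw [h] at hxy
    exact lt_irrefl _ hxy
  have h0 : mt t a b = 0 := hρ a b (by rw [Equiv.Perm.one_apply]; exact hab)
  rw [h0, mul_zero, zero_mul]

end Cfsg.Agent.Lib.Helper20.SuBN
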