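import Mathlib
import Cfsg.Agent.Lib.Helper20.SuBNDefs

/-! S2546 hive (helper20), leaf SuBN-UL. -/

set_option autoImplicit false

namespace Cfsg.Agent.Lib.Helper20.SuBN

open Matrix Subgroup Cfsg.Agent.Lib.Helper20.PslF Cfsg.Agent.Lib.Helper20.SuF

variable {n : ℕ} {K : Type*} [Field K] [Fintype K]

/-- SuBN-UL: upper triangular ∩ lower unitriangular is trivial. -/
theorem UT_inf_LL {g : SLn n K} (h1 : g ∈ (UT : Subgroup (SLn n K)))
    (h2 : g ∈ (LL : Subgroup (SLn n K))) : g = 1 := by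
  apply mt_ext
  rw [mt_one]
  rw [mem_UT] at h1
  rw [mem_LL] at h2
  ext x y
  rcases lt_trichotomy x y with h | h | h
  · rw [h2.1 x y h, Matrix.one_apply_ne h.ne]
  · subst h
    rw [h2.2 x, Matrix.one_apply_eq]
  · rw [h1 x y h, Matrix.one_apply_ne h.ne']

end Cfsg.Agent.Lib.Helper20.SuBN
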