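import Mathlib
import Cfsg.Agent.Lib.Helper40.OpBNDefs
import Cfsg.Agent.Lib.Helper8.OrthForms

/-!
# S2548 hive ("OpBN", owner helper40), core of leaf TOPALL

`Bo ⊔ NoAll = ⊤` from the three leaves BRIDGE (`closure_refl_eq_top`), MOVE (`exists_Bo_move`),
REFLMONO (`refl_isMono`), taken here as hypotheses.
-/

set_option autoImplicit false

namespace Cfsg.Agent.Lib.Helper40.OpBN

open Matrix Cfsg Cfsg.Agent.Lib.Helper13 Cfsg.Agent.Lib.Helper41.SpBN

variable {F : Type*} [Field F] {m : ℕ}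

/-- conjugation of a reflection by a matrix preserving `Q` -/
theorem topall_mul_refl {ι : Type} [Fintype ι] [DecidableEq ι] (Q : QuadraticForm F (ι → F))
    (G : Matrix ι ι F) (hG : ∀ x, Q (G *ᵥ x) = Q x) (v : ι → F) :
    G * Cfsg.reflectionMatrix (⇑Q) v = Cfsg.reflectionMatrix (⇑Q) (G *ᵥ v) * G := by
  rw [Matrix.ext_iff_mulVec]
  intro x
  rw [← mulVec_mulVec, ← mulVec_mulVec, reflectionMatrix_mulVec, reflectionMatrix_mulVec,
    polar_mulVec_of_preserves Q G hG, hG, mulVec_sub, mulVec_smul]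

/-- the same for `quadFormPlus` and an element of `OG F m` -/
theorem topall_conj_refl (b : OG F m) (v : Idx m → F) :
    mt b * Cfsg.reflectionMatrix (Cfsg.quadFormPlus m F) v * mt b⁻¹ =
      Cfsg.reflectionMatrix (Cfsg.quadFormPlus m F) (mt b *ᵥ v) := by
  have h := topall_mul_refl (Cfsg.Agent.Lib.Helper8.plusForm m F) (mt b)
    (by
      intro x
      rw [← Cfsg.Agent.Lib.Helper8.plusForm_coe]
      exact mt_preserves b x) v
  rw [← Cfsg.Agent.Lib.Helper8.plusForm_coe] at h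
  rw [h, Matrix.mul_assoc, mt_mul_inv, Matrix.mul_one]

theorem topall_quad (k : Fin m) (a c : F) :
    Cfsg.quadFormPlus m F (a • Pi.single (Sum.inl k) 1 + c • Pi.single (Sum.inr k) 1) = a * c := by
  unfold Cfsg.quadFormPlus
  rw [Finset.sum_eq_single k]
  · simp
  · intro i _ hik
    simp [Pi.single_apply, hik]
  · intro h
    exact absurd (Finset.mem_univ k) h

/-- the core of TOPALL -/
theorem topall_core
    (hclo : Subgroup.closure {g : OG F m | ∃ v : Idx m → F, Cfsg.quadFormPlus m F v ≠ 0 ∧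
      mt g = Cfsg.reflectionMatrix (Cfsg.quadFormPlus m F) v} = ⊤)
    (hmove : ∀ v : Idx m → F, Cfsg.quadFormPlus m F v ≠ 0 →
      ∃ b ∈ Bo F m, ∃ (k : Fin m) (a c : F),
        mt b *ᵥ v = a • Pi.single (Sum.inl k) 1 + c • Pi.single (Sum.inr k) 1)
    (hmono : ∀ (k : Fin m) (a c : F), a * c ≠ 0 →
      ∃ (π : Equiv.Perm (Idx m)) (d : Idx m → F),
        IsMono (Cfsg.reflectionMatrix (Cfsg.quadFormPlus m F)
          (a • Pi.single (Sum.inl k) 1 + c • Pi.single (Sum.inr k) 1)) π d) :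
    Bo F m ⊔ NoAll F m = ⊤ := by
  rw [eq_top_iff, ← hclo, Subgroup.closure_le]
  rintro g ⟨v, hv, hg⟩
  obtain ⟨b, hb, k, a, c, hbv⟩ := hmove v hv
  have hac : a * c ≠ 0 := by
    rw [← topall_quad k a c, ← hbv, mt_preserves]
    exact hv
  obtain ⟨π, d, hπ⟩ := hmono k a c hac
  have hn : b * g * b⁻¹ ∈ NoAll F m := by
    refine ⟨π, d, ?_⟩
    rw [mt_mul, mt_mul, hg, topall_conj_refl, hbv]
    exact hπ
  have hgeq : g = b⁻¹ * (b * g * b⁻¹) * b := by group
  change g ∈ Bo F m ⊔ NoAll F m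
  rw [hgeq]
  have hb' : b ∈ Bo F m ⊔ NoAll F m := Subgroup.mem_sup_left hb
  exact Subgroup.mul_mem _ (Subgroup.mul_mem _ (Subgroup.inv_mem _ hb') (Subgroup.mem_sup_right hn)) hb'

end Cfsg.Agent.Lib.Helper40.OpBN
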