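import Mathlib
import Cfsg.Agent.Lib.Helper40.OpBNDefs
import Cfsg.Agent.Lib.Helper8.OrthForms
import Cfsg.Agent.Lib.Helper82.OpBN_TOPALLcore

/-!
# S2548 hive ("OpBN", owner helper40), leaf REFLMONO : `refl_isMono`

The reflection in `a e_k + c f_k` (`a c ≠ 0`) is monomial.
-/

set_option autoImplicit false

namespace Cfsg.Agent.Lib.Helper40.OpBN

open Matrix Cfsg Cfsg.Agent.Lib.Helper13 Cfsg.Agent.Lib.Helper41.SpBN

variable {F : Type*} [Field F] {m : ℕ}

theorem reflmono_mulVec (k : Fin m) (a c : F) (x : Idx m → F) :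
    Cfsg.reflectionMatrix (Cfsg.quadFormPlus m F)
        (a • Pi.single (Sum.inl k) 1 + c • Pi.single (Sum.inr k) 1) *ᵥ x =
      x - ((a * c)⁻¹ * (a * x (Sum.inr k) + c * x (Sum.inl k))) •
        (a • Pi.single (Sum.inl k) 1 + c • Pi.single (Sum.inr k) 1) := by
  have h := reflectionMatrix_mulVec (Cfsg.Agent.Lib.Helper8.plusForm m F)
    (a • Pi.single (Sum.inl k) 1 + c • Pi.single (Sum.inr k) 1) x
  rw [← Cfsg.Agent.Lib.Helper8.plusForm_coe] at h
  rw [h, topall_quad]
  have hp : QuadraticMap.polar (Cfsg.quadFormPlus m F)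
      (a • Pi.single (Sum.inl k) 1 + c • Pi.single (Sum.inr k) 1) x =
      a * x (Sum.inr k) + c * x (Sum.inl k) := by
    rw [Cfsg.Agent.Lib.Helper8.plusForm_coe, Cfsg.Agent.Lib.Helper8.polar_plusForm]
    rw [Finset.sum_eq_single k]
    · simp
      ring
    · intro i _ hik
      simp [Pi.single_apply, hik]
    · intro h
      exact absurd (Finset.mem_univ k) h
  rw [hp]

/-- LEAF REFLMONO -/
theorem refl_isMono (k : Fin m) (a c : F) (hac : a * c ≠ 0) :
    ∃ (π : Equiv.Perm (Idx m)) (d : Idx m → F),
      IsMono (Cfsg.reflectionMatrix (Cfsg.quadFormPlus m F)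
        (a • Pi.single (Sum.inl k) 1 + c • Pi.single (Sum.inr k) 1)) π d := by
  have ha : a ≠ 0 := left_ne_zero_of_mul hac
  have hc : c ≠ 0 := right_ne_zero_of_mul hac
  refine ⟨Equiv.swap (Sum.inl k) (Sum.inr k),
    fun s => if s = Sum.inl k then -(c / a) else if s = Sum.inr k then -(a / c) else 1, ?_⟩
  apply isMono_of_mulVec_single
  intro s
  rw [reflmono_mulVec]
  by_cases h1 : s = Sum.inl k
  · subst h1
    rw [Equiv.swap_apply_left, if_pos rfl]
    ext t
    simp only [Pi.sub_apply, Pi.smul_apply, Pi.add_apply, Pi.single_apply, smul_eq_mul]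
    rcases t with j | j
    · by_cases hj : j = k
      · subst hj
        simp
        field_simp
        ring
      · simp [hj]
    · by_cases hj : j = k
      · subst hj
        simp
        field_simp
      · simp [hj]
  · by_cases h2 : s = Sum.inr k
    · subst h2
      rw [Equiv.swap_apply_right, if_neg h1, if_pos rfl]
      ext t
      simp only [Pi.sub_apply, Pi.smul_apply, Pi.add_apply, Pi.single_apply, smul_eq_mul]
      rcases t with j | j
      · by_cases hj : j = k
        · subst hj
          simp
          field_simp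
        · simp [hj]
      · by_cases hj : j = k
        · subst hj
          simp
          field_simp
          ring
        · simp [hj]
    · rw [Equiv.swap_apply_of_ne_of_ne h1 h2, if_neg h1, if_neg h2, one_smul]
      have e1 : (Pi.single s (1 : F) : Idx m → F) (Sum.inr k) = 0 := by
        rw [Pi.single_apply, if_neg (fun h => h2 h.symm)]
      have e2 : (Pi.single s (1 : F) : Idx m → F) (Sum.inl k) = 0 := by
        rw [Pi.single_apply, if_neg (fun h => h1 h.symm)]
      rw [e1, e2]
      simp

end Cfsg.Agent.Lib.Helper40.OpBN
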