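import Mathlib
import Cfsg.Agent.Lib.Helper40.OpBNDefs
import Cfsg.Agent.Lib.Helper82.OpBN_TOPALLcore
import Cfsg.Agent.Lib.Helper82.OpBN_REFLMONO
import Cfsg.Agent.Lib.Helper10.OpBN_MOVE
import Cfsg.Agent.Lib.Helper37.OpBN_BRIDGE

/-!
# S2548 hive ("OpBN", owner helper40), leaf TOPALL : `Bo_sup_NoAll`
-/

set_option autoImplicit false

namespace Cfsg.Agent.Lib.Helper40.OpBN

open Matrix Cfsg Cfsg.Agent.Lib.Helper13 Cfsg.Agent.Lib.Helper41.SpBN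

variable {F : Type*} [Field F] {m : ℕ}

/-- LEAF TOPALL -/
theorem Bo_sup_NoAll [Fintype F] (hgood : ¬ (m = 2 ∧ Fintype.card F = 2)) :
    Bo F m ⊔ NoAll F m = ⊤ :=
  topall_core (closure_refl_eq_top hgood) exists_Bo_move refl_isMono

end Cfsg.Agent.Lib.Helper40.OpBN
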