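import Mathlib
import Cfsg.Prelude.Def_ClassicalGeometry
import Cfsg.Agent.Lib.Helper4.NdDefs

/-!
# Nd hive (S5956), leaf ND-A1 : `exists_split`

Split off the largest Jordan block(s) of a unipotent isometry of a nondegenerate alternating space
as a nondegenerate invariant subspace.
-/

set_option autoImplicit false
set_option linter.unusedVariables false
set_option linter.unusedSectionVars false

open Cfsg.Agent.Lib.Helper99 (Nd dker sympB)

namespace Cfsg.Agent.Lib.Helper4.NdH

universe u v

variable {F : Type u} [Field F] {V : Type v} [AddCommGroup V] [Module F V]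

/-- the family `T^j (w i)`, `i < m`, `j < e` -/
def a1_fam (T : Module.End F V) {m : ℕ} (e : ℕ) (w : Fin m → V) (p : Fin m × Fin e) : V :=
  (T ^ (p.2 : ℕ)) (w p.1)

/-- the span of the family -/
def a1_U (T : Module.End F V) {m : ℕ} (e : ℕ) (w : Fin m → V) : Submodule F V :=
  Submodule.span F (Set.range (a1_fam T e w))

theorem a1_fam_mem (T : Module.End F V) {m : ℕ} (e : ℕ) (w : Fin m → V) (p : Fin m × Fin e) :
    a1_fam T e w p ∈ a1_U T e w := Submodule.subset_span ⟨p, rfl⟩

theorem a1_pow_mem (f : Module.End F V) (U : Submodule F V) (hU : ∀ x ∈ U, f x ∈ U) :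
    ∀ (k : ℕ), ∀ x ∈ U, (f ^ k) x ∈ U := by
  intro k
  induction k with
  | zero => intro x hx; simpa using hx
  | succ k ih =>
    intro x hx
    rw [pow_succ', Module.End.mul_apply]
    exact hU _ (ih x hx)

theorem a1_T_mem (T : Module.End F V) {m e : ℕ} (hTe : T ^ e = 0) (w : Fin m → V) :
    ∀ x ∈ a1_U T e w, T x ∈ a1_U T e w := by
  intro x hx
  have h : (a1_U T e w).map T ≤ a1_U T e w := by
    unfold a1_U
    rw [Submodule.map_span_le]
    rintro _ ⟨⟨i, j⟩, rfl⟩
    by_cases h : (j : ℕ) + 1 < e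
    · have h1 : T (a1_fam T e w (i, j)) = a1_fam T e w (i, ⟨j + 1, h⟩) := by
        simp only [a1_fam]
        rw [pow_succ', Module.End.mul_apply]
      rw [h1]
      exact Submodule.subset_span ⟨_, rfl⟩
    · have h1 : T (a1_fam T e w (i, j)) = 0 := by
        simp only [a1_fam]
        have h2 : (j : ℕ) + 1 = e := by omega
        rw [← Module.End.mul_apply, ← pow_succ', h2, hTe]
        rfl
      rw [h1]
      exact Submodule.zero_mem _
  exact h (Submodule.mem_map_of_mem hx)

/-- `u = 1 + T` is surjective on a `T`-invariant subspace when `T` is nilpotent. -/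
theorem a1_exists_preimage (g : V →ₗ[F] V) {e : ℕ} (hTe : (g - 1 : Module.End F V) ^ e = 0)
    (U : Submodule F V) (hU : ∀ x ∈ U, (g - 1 : Module.End F V) x ∈ U) :
    ∀ y ∈ U, ∃ y' ∈ U, g y' = y := by
  intro y hy
  set T : Module.End F V := g - 1 with hT
  have hneg : ∀ x ∈ U, (-T) x ∈ U := by
    intro x hx
    rw [LinearMap.neg_apply]
    exact U.neg_mem (hU x hx)
  have hS : ∀ x ∈ U, (∑ i ∈ Finset.range e, (-T) ^ i) x ∈ U := by
    intro x hx
    rw [LinearMap.sum_apply]
    exact U.sum_mem (fun i _ => a1_pow_mem (-T) U hneg i x hx)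
  refine ⟨(∑ i ∈ Finset.range e, (-T) ^ i) y, hS y hy, ?_⟩
  have h1 : (1 - (-T)) * ∑ i ∈ Finset.range e, (-T) ^ i = 1 - (-T) ^ e := mul_neg_geom_sum (-T) e
  have h2 : (-T) ^ e = 0 := by rw [neg_pow, hTe, mul_zero]
  have h3 : (1 - (-T) : Module.End F V) = g := by rw [hT]; abel
  rw [h2, sub_zero, h3] at h1
  have := congrArg (fun f : Module.End F V => f y) h1
  simpa [Module.End.mul_apply] using this

/-- orthogonality to an invariant subspace propagates along `T = g - 1`. -/
theorem a1_perp_T (B : V →ₗ[F] V →ₗ[F] F) (g : V →ₗ[F] V) (hg : Isom B g) (U : Submodule F V)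
    (hsurj : ∀ y ∈ U, ∃ y' ∈ U, g y' = y) (x : V) (hx : ∀ y ∈ U, B x y = 0) :
    ∀ y ∈ U, B ((g - 1 : Module.End F V) x) y = 0 := by
  intro y hy
  obtain ⟨y', hy', rfl⟩ := hsurj y hy
  have h1 : (g - 1 : Module.End F V) x = g x - x := by
    rw [LinearMap.sub_apply, Module.End.one_apply]
  rw [h1, map_sub, LinearMap.sub_apply, hg, hx y' hy', hx _ hy, sub_zero]

theorem a1_perp_pow (B : V →ₗ[F] V →ₗ[F] F) (g : V →ₗ[F] V) (hg : Isom B g) (U : Submodule F V)
    (hsurj : ∀ y ∈ U, ∃ y' ∈ U, g y' = y) (x : V) (hx : ∀ y ∈ U, B x y = 0) (t : ℕ) :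
    ∀ y ∈ U, B (((g - 1 : Module.End F V) ^ t) x) y = 0 := by
  induction t with
  | zero => simpa using hx
  | succ t ih =>
    rw [pow_succ']
    intro y hy
    rw [Module.End.mul_apply]
    exact a1_perp_T B g hg U hsurj _ ih y hy

/-- the computation `T^(e-1-j) x = Σ_i c (i, j) T^(e-1) (w i)` when the lower coefficients vanish -/
theorem a1_pow_sum (T : Module.End F V) {m e : ℕ} (hTe : T ^ e = 0) (w : Fin m → V)
    (c : Fin m × Fin e → F) (j : Fin e) (hc : ∀ i (j' : Fin e), j' < j → c (i, j') = 0) :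
    (T ^ (e - 1 - (j : ℕ))) (∑ p, c p • a1_fam T e w p) =
      ∑ i, c (i, j) • (T ^ (e - 1)) (w i) := by
  rw [map_sum, Fintype.sum_prod_type]
  refine Finset.sum_congr rfl (fun i _ => ?_)
  rw [Finset.sum_eq_single j]
  · rw [map_smul]
    congr 1
    simp only [a1_fam]
    rw [← Module.End.mul_apply, ← pow_add]
    congr 2
    have := j.2
    omega
  · intro j' _ hne
    rcases lt_or_gt_of_ne hne with h | h
    · rw [hc i j' h, zero_smul, map_zero]
    · rw [map_smul]
      simp only [a1_fam]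
      rw [← Module.End.mul_apply, ← pow_add]
      have h1 : e ≤ e - 1 - (j : ℕ) + (j' : ℕ) := by
        have := j.2
        have h2 : (j : ℕ) < (j' : ℕ) := h
        omega
      rw [pow_eq_zero_of_le h1 hTe]
      simp
  · intro h
    exact absurd (Finset.mem_univ j) h

/-- core lemma: a linear combination of the family orthogonal to its span has zero coefficients -/
theorem a1_coeff_zero (B : V →ₗ[F] V →ₗ[F] F) (g : V →ₗ[F] V) (hg : Isom B g) {m e : ℕ}
    (he : 0 < e) (hTe : (g - 1 : Module.End F V) ^ e = 0) (w : Fin m → V)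
    (hG : ∀ a : Fin m → F,
      (∀ l, ∑ i, a i * B (((g - 1 : Module.End F V) ^ (e - 1)) (w i)) (w l) = 0) → a = 0)
    (c : Fin m × Fin e → F)
    (hperp : ∀ y ∈ a1_U (g - 1 : Module.End F V) e w,
      B (∑ p, c p • a1_fam (g - 1 : Module.End F V) e w p) y = 0) : c = 0 := by
  set T : Module.End F V := g - 1 with hT
  have hTU : ∀ x ∈ a1_U T e w, T x ∈ a1_U T e w := a1_T_mem T hTe w
  have hsurj : ∀ y ∈ a1_U T e w, ∃ y' ∈ a1_U T e w, g y' = y :=
    a1_exists_preimage g hTe (a1_U T e w) hTU
  have key : ∀ n : ℕ, ∀ j : Fin e, (j : ℕ) = n → ∀ i, c (i, j) = 0 := by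
    intro n
    induction n using Nat.strong_induction_on with
    | _ n ih =>
      intro j hj i
      have hc : ∀ i (j' : Fin e), j' < j → c (i, j') = 0 := by
        intro i j' hlt
        have h1 : (j' : ℕ) < n := by rw [← hj]; exact hlt
        exact ih (j' : ℕ) h1 j' rfl i
      have h1 := a1_pow_sum T hTe w c j hc
      have h2 : ∀ l, ∑ i, c (i, j) * B ((T ^ (e - 1)) (w i)) (w l) = 0 := by
        intro l
        have h3 := a1_perp_pow B g hg (a1_U T e w) hsurj _ hperp (e - 1 - (j : ℕ)) (w l)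
          (by
            have := a1_fam_mem T e w (l, ⟨0, he⟩)
            simpa [a1_fam] using this)
        rw [← hT, h1, map_sum, LinearMap.sum_apply] at h3
        simpa [map_smul, LinearMap.smul_apply, smul_eq_mul] using h3
      have h4 := hG (fun i => c (i, j)) h2
      exact congrFun h4 i
  funext p
  obtain ⟨i, j⟩ := p
  exact key (j : ℕ) j rfl i

theorem a1_linIndep (B : V →ₗ[F] V →ₗ[F] F) (g : V →ₗ[F] V) (hg : Isom B g) {m e : ℕ}
    (he : 0 < e) (hTe : (g - 1 : Module.End F V) ^ e = 0) (w : Fin m → V)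
    (hG : ∀ a : Fin m → F,
      (∀ l, ∑ i, a i * B (((g - 1 : Module.End F V) ^ (e - 1)) (w i)) (w l) = 0) → a = 0) :
    LinearIndependent F (a1_fam (g - 1 : Module.End F V) e w) := by
  rw [Fintype.linearIndependent_iff]
  intro c hc p
  have h := a1_coeff_zero B g hg he hTe w hG c (by
    intro y _
    rw [hc, map_zero, LinearMap.zero_apply])
  rw [h]
  rfl

theorem a1_nd (B : V →ₗ[F] V →ₗ[F] F) (g : V →ₗ[F] V) (hg : Isom B g) {m e : ℕ}
    (he : 0 < e) (hTe : (g - 1 : Module.End F V) ^ e = 0) (w : Fin m → V)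
    (hG : ∀ a : Fin m → F,
      (∀ l, ∑ i, a i * B (((g - 1 : Module.End F V) ^ (e - 1)) (w i)) (w l) = 0) → a = 0) :
    Nd B (a1_U (g - 1 : Module.End F V) e w) := by
  intro x hx hperp
  have hx' := hx
  unfold a1_U at hx'
  rw [Submodule.mem_span_range_iff_exists_fun] at hx'
  obtain ⟨c, rfl⟩ := hx'
  have h := a1_coeff_zero B g hg he hTe w hG c hperp
  rw [h]
  simp

theorem a1_inv (g : V →ₗ[F] V) {m e : ℕ} (hTe : (g - 1 : Module.End F V) ^ e = 0)
    (w : Fin m → V) : Inv g (a1_U (g - 1 : Module.End F V) e w) := by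
  intro x hx
  have h1 : g x = x + (g - 1 : Module.End F V) x := by
    rw [LinearMap.sub_apply, Module.End.one_apply]; abel
  rw [h1]
  exact Submodule.add_mem _ hx (a1_T_mem _ hTe w x hx)

/-- the dimensions of `U ⊓ ker T^k` -/
theorem a1_finrank [FiniteDimensional F V] (T : Module.End F V) {m e : ℕ} (hTe : T ^ e = 0)
    (w : Fin m → V) (hli : LinearIndependent F (a1_fam T e w)) (k : ℕ) :
    Module.finrank F ↥(a1_U T e w ⊓ LinearMap.ker (T ^ k)) = m * min e k := by
  have hU : Module.finrank F ↥(a1_U T e w) = m * e := by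
    unfold a1_U
    rw [finrank_span_eq_card hli, Fintype.card_prod, Fintype.card_fin, Fintype.card_fin]
  -- lower bound for the kernel part
  have hlow : m * min e k ≤ Module.finrank F ↥(a1_U T e w ⊓ LinearMap.ker (T ^ k)) := by
    let σ : Fin m × Fin (min e k) → Fin m × Fin e := fun p =>
      (p.1, ⟨e - min e k + (p.2 : ℕ), by have := p.2.2; omega⟩)
    have hσ : Function.Injective σ := by
      rintro ⟨i, j⟩ ⟨i', j'⟩ h
      simp only [σ, Prod.mk.injEq, Fin.mk.injEq] at h
      obtain ⟨h1, h2⟩ := h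
      have : (j : ℕ) = (j' : ℕ) := by omega
      exact Prod.ext h1 (Fin.ext this)
    have hli' : LinearIndependent F (a1_fam T e w ∘ σ) := hli.comp σ hσ
    have hle : Submodule.span F (Set.range (a1_fam T e w ∘ σ)) ≤
        a1_U T e w ⊓ LinearMap.ker (T ^ k) := by
      rw [Submodule.span_le]
      rintro _ ⟨p, rfl⟩
      refine ⟨a1_fam_mem T e w (σ p), ?_⟩
      change a1_fam T e w (σ p) ∈ LinearMap.ker (T ^ k)
      rw [LinearMap.mem_ker]
      simp only [a1_fam, σ]
      rw [← Module.End.mul_apply, ← pow_add]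
      have h1 : e ≤ k + (e - min e k + (p.2 : ℕ)) := by omega
      rw [pow_eq_zero_of_le h1 hTe]
      rfl
    have h1 := Submodule.finrank_mono hle
    rw [finrank_span_eq_card hli', Fintype.card_prod, Fintype.card_fin, Fintype.card_fin] at h1
    exact h1
  -- lower bound for the image part
  have himg : m * (e - min e k) ≤ Module.finrank F ↥((a1_U T e w).map (T ^ k)) := by
    let σ : Fin m × Fin (e - min e k) → Fin m × Fin e := fun p =>
      (p.1, ⟨k + (p.2 : ℕ), by have := p.2.2; omega⟩)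
    have hσ : Function.Injective σ := by
      rintro ⟨i, j⟩ ⟨i', j'⟩ h
      simp only [σ, Prod.mk.injEq, Fin.mk.injEq] at h
      obtain ⟨h1, h2⟩ := h
      have : (j : ℕ) = (j' : ℕ) := by omega
      exact Prod.ext h1 (Fin.ext this)
    have hli' : LinearIndependent F (a1_fam T e w ∘ σ) := hli.comp σ hσ
    have hle : Submodule.span F (Set.range (a1_fam T e w ∘ σ)) ≤ (a1_U T e w).map (T ^ k) := by
      rw [Submodule.span_le]
      rintro _ ⟨p, rfl⟩
      refine ⟨a1_fam T e w (p.1, ⟨(p.2 : ℕ), by have := p.2.2; omega⟩), a1_fam_mem T e w _, ?_⟩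
      simp only [a1_fam, σ, Function.comp]
      rw [← Module.End.mul_apply, ← pow_add]
    have h1 := Submodule.finrank_mono hle
    rw [finrank_span_eq_card hli', Fintype.card_prod, Fintype.card_fin, Fintype.card_fin] at h1
    exact h1
  have hrn := Cfsg.Agent.Lib.Helper99.finrank_eq_map_add_inf_ker (T ^ k) (a1_U T e w)
  rw [hU] at hrn
  have h3 : m * (e - min e k) + m * min e k = m * e := by
    rw [← Nat.mul_add]
    congr 1
    omega
  omega

theorem a1_skew (B : V →ₗ[F] V →ₗ[F] F) (hB : Alt B) (a b : V) : B a b = - B b a := by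
  have h := hB (a + b)
  simp only [map_add, LinearMap.add_apply] at h
  rw [hB a, hB b] at h
  linear_combination h

/-- `B (T x) y = - B (g x) (T y)` for `T = g - 1` -/
theorem a1_adj (B : V →ₗ[F] V →ₗ[F] F) (g : V →ₗ[F] V) (hg : Isom B g) (x y : V) :
    B ((g - 1 : Module.End F V) x) y = - B (g x) ((g - 1 : Module.End F V) y) := by
  have h1 : ∀ z, (g - 1 : Module.End F V) z = g z - z := fun z => by
    rw [LinearMap.sub_apply, Module.End.one_apply]
  rw [h1, h1, map_sub, LinearMap.sub_apply, map_sub, hg]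
  ring

theorem a1_adj_pow (B : V →ₗ[F] V →ₗ[F] F) (g : V →ₗ[F] V) (hg : Isom B g) (k : ℕ) :
    ∀ x y : V, B (((g - 1 : Module.End F V) ^ k) x) y =
      (-1) ^ k * B ((g ^ k) x) (((g - 1 : Module.End F V) ^ k) y) := by
  induction k with
  | zero => intro x y; simp
  | succ k ih =>
    intro x y
    have hcomm : Commute g ((g - 1 : Module.End F V) ^ k) :=
      ((Commute.refl g).sub_right (Commute.one_right g)).pow_right k
    have h1 : ((g - 1 : Module.End F V) ^ (k + 1)) x =
        (g - 1 : Module.End F V) (((g - 1 : Module.End F V) ^ k) x) := by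
      rw [pow_succ', Module.End.mul_apply]
    have h2 : g (((g - 1 : Module.End F V) ^ k) x) = ((g - 1 : Module.End F V) ^ k) (g x) := by
      have := congrArg (fun f : Module.End F V => f x) hcomm.eq
      simpa [Module.End.mul_apply] using this
    have h3 : ((g - 1 : Module.End F V) ^ (k + 1)) y =
        ((g - 1 : Module.End F V) ^ k) ((g - 1 : Module.End F V) y) := by
      rw [pow_succ, Module.End.mul_apply]
    have h4 : (g ^ (k + 1)) x = (g ^ k) (g x) := by
      rw [pow_succ, Module.End.mul_apply]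
    rw [h1, a1_adj B g hg, h2, ih, h3, h4]
    ring

theorem a1_iso_pow_fixed (B : V →ₗ[F] V →ₗ[F] F) (g : V →ₗ[F] V) (hg : Isom B g) (z : V)
    (hz : g z = z) (k : ℕ) : ∀ x : V, B ((g ^ k) x) z = B x z := by
  induction k with
  | zero => intro x; simp
  | succ k ih =>
    intro x
    rw [pow_succ', Module.End.mul_apply]
    conv_lhs => rw [← hz]
    rw [hg, ih]

/-- the form `B (T^(e-1) a) b` is `(-1)^e`-symmetric -/
theorem a1_sym (B : V →ₗ[F] V →ₗ[F] F) (hB : Alt B) (g : V →ₗ[F] V) (hg : Isom B g) {e : ℕ}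
    (he : 0 < e) (hTe : (g - 1 : Module.End F V) ^ e = 0) (a b : V) :
    B (((g - 1 : Module.End F V) ^ (e - 1)) a) b =
      (-1) ^ e * B (((g - 1 : Module.End F V) ^ (e - 1)) b) a := by
  set T : Module.End F V := g - 1 with hT
  have hker : T ((T ^ (e - 1)) b) = 0 := by
    rw [← Module.End.mul_apply, ← pow_succ']
    have : e - 1 + 1 = e := by omega
    rw [this, hTe]
    rfl
  have hfix : g ((T ^ (e - 1)) b) = (T ^ (e - 1)) b := by
    have h1 : g ((T ^ (e - 1)) b) = (T ^ (e - 1)) b + T ((T ^ (e - 1)) b) := by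
      rw [hT, LinearMap.sub_apply, Module.End.one_apply]; abel
    rw [h1, hker, add_zero]
  rw [a1_adj_pow B g hg (e - 1) a b, ← hT, a1_iso_pow_fixed B g hg _ hfix (e - 1) a,
    a1_skew B hB a]
  have h2 : (-1 : F) ^ e = (-1) ^ (e - 1) * (-1) := by
    rw [← pow_succ]
    congr 1
    omega
  rw [h2]
  ring

/-- ND-A1 (SPLIT). -/
theorem exists_split [FiniteDimensional F V] (h2 : (2 : F) ≠ 0) (B : V →ₗ[F] V →ₗ[F] F)
    (hB : Alt B) (hV : Nd B ⊤) (u : V →ₗ[F] V) (hu : Isom B u) (K : ℕ)
    (hK : (u - 1 : Module.End F V) ^ K = 0) (hne : Nontrivial V) :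
    ∃ (U : Submodule F V) (e : ℕ), 0 < e ∧ e ≤ K ∧ U ≠ ⊥ ∧ Inv u U ∧ Nd B U ∧
      ∀ k, Module.finrank F ↥(U ⊓ LinearMap.ker ((u - 1 : Module.End F V) ^ k)) =
        if Even e then min e k else 2 * min e k := by
  classical
  have hex : ∃ n, (u - 1 : Module.End F V) ^ n = 0 := ⟨K, hK⟩
  obtain ⟨e, hTe, hmin⟩ : ∃ e, (u - 1 : Module.End F V) ^ e = 0 ∧
      ∀ n, n < e → (u - 1 : Module.End F V) ^ n ≠ 0 :=
    ⟨Nat.find hex, Nat.find_spec hex, fun n hn => Nat.find_min hex hn⟩
  have heK : e ≤ K := by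
    by_contra h
    exact hmin K (by omega) hK
  have he : 0 < e := by
    rcases Nat.eq_zero_or_pos e with h | h
    · exfalso
      rw [h, pow_zero] at hTe
      obtain ⟨x, hx⟩ := exists_ne (0 : V)
      have := congrArg (fun f : Module.End F V => f x) hTe
      simp at this
      exact hx this
    · exact h
  have hTe1 : (u - 1 : Module.End F V) ^ (e - 1) ≠ 0 := hmin (e - 1) (by omega)
  obtain ⟨x, hx⟩ : ∃ x, ((u - 1 : Module.End F V) ^ (e - 1)) x ≠ 0 := by
    by_contra h
    push Not at h
    exact hTe1 (LinearMap.ext h)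
  obtain ⟨y, hxy⟩ : ∃ y, B (((u - 1 : Module.End F V) ^ (e - 1)) x) y ≠ 0 := by
    by_contra h
    push Not at h
    exact hx (hV _ Submodule.mem_top (fun v _ => h v))
  have hsym := a1_sym B hB u hu he hTe
  -- the final packaging, given a family with nondegenerate Gram matrix
  have pack : ∀ (m : ℕ) (hm : 0 < m) (w : Fin m → V),
      (∀ a : Fin m → F,
        (∀ l, ∑ i, a i * B (((u - 1 : Module.End F V) ^ (e - 1)) (w i)) (w l) = 0) → a = 0) →
      ∃ U : Submodule F V, U ≠ ⊥ ∧ Inv u U ∧ Nd B U ∧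
        ∀ k, Module.finrank F ↥(U ⊓ LinearMap.ker ((u - 1 : Module.End F V) ^ k)) =
          m * min e k := by
    intro m hm w hG
    have hli := a1_linIndep B u hu he hTe w hG
    refine ⟨a1_U (u - 1 : Module.End F V) e w, ?_, a1_inv u hTe w, a1_nd B u hu he hTe w hG,
      a1_finrank _ hTe w hli⟩
    intro hbot
    have h1 := a1_finrank (u - 1 : Module.End F V) hTe w hli e
    rw [hbot, bot_inf_eq, finrank_bot, min_self] at h1
    have : 0 < m * e := Nat.mul_pos hm he
    omega
  by_cases hev : Even e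
  · -- symmetric case: find `v` with `γ v v ≠ 0`
    have hsym' : ∀ a b, B (((u - 1 : Module.End F V) ^ (e - 1)) a) b =
        B (((u - 1 : Module.End F V) ^ (e - 1)) b) a := by
      intro a b
      rw [hsym a b, hev.neg_one_pow, one_mul]
    obtain ⟨v, hv⟩ : ∃ v, B (((u - 1 : Module.End F V) ^ (e - 1)) v) v ≠ 0 := by
      by_contra h
      push Not at h
      have h1 := h (x + y)
      simp only [map_add, LinearMap.add_apply] at h1
      rw [h x, h y, hsym' y x] at h1
      apply hxy
      have h3 : (2 : F) * B (((u - 1 : Module.End F V) ^ (e - 1)) x) y = 0 := by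
        linear_combination h1
      rcases mul_eq_zero.mp h3 with h4 | h4
      · exact absurd h4 h2
      · exact h4
    obtain ⟨U, hU1, hU2, hU3, hU4⟩ := pack 1 Nat.one_pos (fun _ => v) (by
      intro a ha
      have h1 := ha 0
      simp only [Fin.sum_univ_one] at h1
      funext i
      have hi : i = 0 := Subsingleton.elim _ _
      rw [hi]
      rcases mul_eq_zero.mp h1 with h4 | h4
      · exact h4
      · exact absurd h4 hv)
    refine ⟨U, e, he, heK, hU1, hU2, hU3, ?_⟩
    intro k
    rw [hU4 k, if_pos hev, one_mul]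
  · -- alternating case
    have hodd : Odd e := Nat.not_even_iff_odd.mp hev
    have hsym' : ∀ a b, B (((u - 1 : Module.End F V) ^ (e - 1)) a) b =
        - B (((u - 1 : Module.End F V) ^ (e - 1)) b) a := by
      intro a b
      rw [hsym a b, hodd.neg_one_pow, neg_one_mul]
    have hself : ∀ a, B (((u - 1 : Module.End F V) ^ (e - 1)) a) a = 0 := by
      intro a
      have h1 := hsym' a a
      have h3 : (2 : F) * B (((u - 1 : Module.End F V) ^ (e - 1)) a) a = 0 := by
        linear_combination h1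
      rcases mul_eq_zero.mp h3 with h4 | h4
      · exact absurd h4 h2
      · exact h4
    obtain ⟨U, hU1, hU2, hU3, hU4⟩ := pack 2 (by norm_num) (fun i => if i = 0 then x else y) (by
      intro a ha
      have h0 := ha 0
      have h1 := ha 1
      simp only [Fin.sum_univ_two, if_true, Fin.one_eq_zero_iff, OfNat.ofNat_ne_one,
        if_false, hself, mul_zero, add_zero, zero_add] at h0 h1
      rw [hsym' y x] at h0
      have ha1 : a 1 = 0 := by
        rcases mul_eq_zero.mp h0 with h4 | h4
        · exact h4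
        · exact absurd (neg_eq_zero.mp h4) hxy
      have ha0 : a 0 = 0 := by
        rcases mul_eq_zero.mp h1 with h4 | h4
        · exact h4
        · exact absurd h4 hxy
      funext i
      fin_cases i
      · exact ha0
      · exact ha1)
    refine ⟨U, e, he, heK, hU1, hU2, hU3, ?_⟩
    intro k
    rw [hU4 k, if_neg hev]

end Cfsg.Agent.Lib.Helper4.NdH
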