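import Mathlib
import Cfsg.Agent.Lib.Helper67.OgDefs

/-!
# Og hive (helper67; S2413 / S2414 / S2415), leaf OG-DEC (helper82):
decomposition along the hyperbolic family
-/

set_option autoImplicit false
set_option linter.unusedSectionVars false
set_option linter.unusedVariables false

namespace Cfsg.Agent.Lib.Helper67.Og

open Matrix Module QuadraticMap
open Cfsg.Agent.Lib.Helper37 Cfsg.Agent.Lib.Helper8
open scoped commutatorElement

section abstract

variable {ι : Type} [Fintype ι] [DecidableEq ι] {F : Type*} [Field F]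
variable (Q : QuadraticForm F (ι → F)) (hQ : (QuadraticMap.polarBilin Q).Nondegenerate)
variable {k : ℕ} {e f : Fin k → ι → F}
variable {L : Matrix.SpecialLinearGroup (Fin k) F →* ↥(Cfsg.isometryGroup F ⇑Q)}

/-! ### OG-DEC : decomposition along the hyperbolic family -/

theorem dec_polar_wpart (a x : ι → F) :
    polar ⇑Q a (Wpart Q e f x)
      = polar ⇑Q a x - ∑ i, (polar ⇑Q (f i) x * polar ⇑Q a (e i)
          + polar ⇑Q (e i) x * polar ⇑Q a (f i)) := by
  unfold Wpart
  simp only [← QuadraticMap.polarBilin_apply_apply, map_sub, map_sum, map_add, map_smul,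
    smul_eq_mul]

theorem wpart_inW (h : HypFam Q k e f) (x : ι → F) : InW Q e f (Wpart Q e f x) := by
  intro i
  constructor
  · rw [dec_polar_wpart]
    simp only [h.ee, h.ef, mul_zero, zero_add, mul_ite, mul_one]
    rw [Finset.sum_ite_eq Finset.univ i]
    simp
  · rw [dec_polar_wpart]
    have hfe : ∀ j, polar ⇑Q (f i) (e j) = if j = i then 1 else 0 := by
      intro j
      rw [polar_comm, h.ef]
    simp only [h.ff, hfe, mul_zero, add_zero, mul_ite, mul_one]
    rw [Finset.sum_ite_eq' Finset.univ i]
    simp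

theorem wpart_of_inW (h : HypFam Q k e f) {w : ι → F} (hw : InW Q e f w) :
    Wpart Q e f w = w := by
  unfold Wpart
  have : ∀ i, polar ⇑Q (f i) w • e i + polar ⇑Q (e i) w • f i = 0 := by
    intro i
    rw [(hw i).1, (hw i).2, zero_smul, zero_smul, add_zero]
  simp only [this, Finset.sum_const_zero, sub_zero]

theorem act_add' (g : ↥(Cfsg.isometryGroup F ⇑Q)) (x y : ι → F) :
    act Q g (x + y) = act Q g x + act Q g y := by
  unfold act
  rw [Matrix.mulVec_add]

theorem act_smul' (g : ↥(Cfsg.isometryGroup F ⇑Q)) (c : F) (x : ι → F) :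
    act Q g (c • x) = c • act Q g x := by
  unfold act
  rw [Matrix.mulVec_smul]

theorem act_sum' {κ : Type*} (s : Finset κ) (g : ↥(Cfsg.isometryGroup F ⇑Q)) (x : κ → ι → F) :
    act Q g (∑ i ∈ s, x i) = ∑ i ∈ s, act Q g (x i) := by
  classical
  induction s using Finset.induction_on with
  | empty =>
    unfold act
    simp
  | insert a s ha ih =>
    rw [Finset.sum_insert ha, Finset.sum_insert ha, act_add', ih]

theorem dec_act_sub (g : ↥(Cfsg.isometryGroup F ⇑Q)) (x y : ι → F) :
    act Q g (x - y) = act Q g x - act Q g y := by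
  unfold act
  rw [Matrix.mulVec_sub]

theorem dec_polar_act (g : ↥(Cfsg.isometryGroup F ⇑Q)) (x y : ι → F) :
    polar ⇑Q (act Q g x) (act Q g y) = polar ⇑Q x y := iso_polar Q g x y

/-- an isometry fixing all `e i`, `f i` commutes with `Wpart` and preserves `InW` -/
theorem wpart_act (h : HypFam Q k e f) (g : ↥(Cfsg.isometryGroup F ⇑Q))
    (hge : ∀ i, act Q g (e i) = e i) (hgf : ∀ i, act Q g (f i) = f i) (x : ι → F) :
    Wpart Q e f (act Q g x) = act Q g (Wpart Q e f x) := by
  unfold Wpart
  rw [dec_act_sub, act_sum']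
  congr 1
  apply Finset.sum_congr rfl
  intro i _
  rw [act_add', act_smul', act_smul', hge, hgf]
  have h1 : polar ⇑Q (f i) (act Q g x) = polar ⇑Q (f i) x := by
    conv_lhs => rw [← hgf i]
    exact dec_polar_act Q g _ _
  have h2 : polar ⇑Q (e i) (act Q g x) = polar ⇑Q (e i) x := by
    conv_lhs => rw [← hge i]
    exact dec_polar_act Q g _ _
  rw [h1, h2]

theorem dec_decomp (x : ι → F) :
    x = Wpart Q e f x + ∑ i, (polar ⇑Q (f i) x • e i + polar ⇑Q (e i) x • f i) := by
  unfold Wpart
  rw [sub_add_cancel]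

/-- two isometries agreeing on the `e i`, the `f i` and on `W` are equal -/
theorem iso_ext_fam (h : HypFam Q k e f) (g g' : ↥(Cfsg.isometryGroup F ⇑Q))
    (he : ∀ i, act Q g (e i) = act Q g' (e i)) (hf : ∀ i, act Q g (f i) = act Q g' (f i))
    (hw : ∀ w, InW Q e f w → act Q g w = act Q g' w) : g = g' := by
  apply reflElt_ext
  intro x
  rw [dec_decomp Q (e := e) (f := f) x, act_add', act_add', act_sum', act_sum',
    hw _ (wpart_inW Q h x)]
  congr 1
  apply Finset.sum_congr rfl
  intro i _
  rw [act_add', act_add', act_smul', act_smul', act_smul', act_smul', he, hf]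

end abstract

end Cfsg.Agent.Lib.Helper67.Og
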