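import Mathlib
import Cfsg.Prelude.Def_GeometricClasses
import Cfsg.Agent.Lib.Helper44.UfDefs

/-! S5982 hive (helper44), leaf UF-BADB: `x = diag(1, …, 1, ζ, ζ, ζ⁻²)` is not spectrally symmetric. -/

set_option autoImplicit false
open scoped MatrixGroups
open Matrix

namespace Cfsg.Agent.Lib.Helper44.Uf

universe v

variable {F : Type v} [Field F]

/-- a nontrivial `r`-th root of unity -/
theorem badb_exists_root [Fintype F] (r : ℕ) (hr : r.Prime) (hr1 : r ∣ Fintype.card F - 1) :
    ∃ ω : F, ω ^ r = 1 ∧ ω ≠ 1 := by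
  classical
  haveI : Fact r.Prime := ⟨hr⟩
  have hcard : Fintype.card Fˣ = Fintype.card F - 1 := Fintype.card_units F
  have hdvd : r ∣ Fintype.card Fˣ := by rw [hcard]; exact hr1
  obtain ⟨u, hu⟩ := exists_prime_orderOf_dvd_card r hdvd
  refine ⟨(u : F), ?_, ?_⟩
  · have : u ^ r = 1 := by rw [← hu]; exact pow_orderOf_eq_one u
    rw [← Units.val_pow_eq_pow_val, this, Units.val_one]
  · intro h
    have h1 : u = 1 := Units.ext (by rw [h, Units.val_one])
    rw [h1, orderOf_one] at hu
    exact hr.one_lt.ne hu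

open Classical in
/-- rank of a diagonal matrix as the cardinality of a filter -/
theorem badb_rank_diagonal {n : ℕ} (v : Fin n → F) :
    (Matrix.diagonal v).rank = (Finset.univ.filter (fun i => v i ≠ 0)).card := by
  classical
  rw [Matrix.rank_diagonal, Fintype.card_subtype]

open Classical in
/-- rank of `diag d - μ` -/
theorem badb_rank_sub {n : ℕ} (d : Fin n → F) (μ : F) :
    (Matrix.diagonal d - μ • (1 : Matrix (Fin n) (Fin n) F)).rank
      = (Finset.univ.filter (fun i => d i ≠ μ)).card := by
  classical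
  have h : Matrix.diagonal d - μ • (1 : Matrix (Fin n) (Fin n) F)
      = Matrix.diagonal (fun i => d i - μ) := by
    ext i j
    by_cases hij : i = j
    · subst hij
      simp
    · simp [hij]
  rw [h, badb_rank_diagonal]
  congr 1
  ext i
  simp only [Finset.mem_filter, Finset.mem_univ, true_and, ne_eq, sub_eq_zero]

/-- UF-BADB : `x = diag(1, …, 1, ζ, ζ, ζ⁻²)` with `ζ` of order `r` -/
theorem exists_bad_B [Fintype F] {n q₀ : ℕ} (hF : Fintype.card F = q₀ ^ 2) (hn : 7 ≤ n) (r : ℕ)
    [Fact r.Prime] (hr2 : r ≠ 2) (hr1 : r ∣ q₀ - 1) :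
    ∃ x : GL (Fin n) F, x ∈ Cfsg.Geo.specialLinear (Fin n) F ∧
      (∃ z : F, ((x ^ r : GL (Fin n) F) : Matrix (Fin n) (Fin n) F) = z • (1 : Matrix (Fin n) (Fin n) F)) ∧
      (∀ z : F, (x : Matrix (Fin n) (Fin n) F) ≠ z • (1 : Matrix (Fin n) (Fin n) F)) ∧
      ¬ SpecSym q₀ (x : Matrix (Fin n) (Fin n) F) := by
  classical
  have hr : r.Prime := Fact.out
  -- q₀ ≥ 2
  have hq2 : 2 ≤ q₀ := by
    by_contra hcon
    have hq : q₀ ≤ 1 := by omega
    have h1 : 1 < Fintype.card F := Fintype.one_lt_card
    have h3 : q₀ ^ 2 ≤ 1 ^ 2 := Nat.pow_le_pow_left hq 2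
    rw [hF] at h1
    omega
  have hdvd : r ∣ Fintype.card F - 1 := by
    rw [hF]
    have : q₀ ^ 2 - 1 = (q₀ - 1) * (q₀ + 1) := by
      obtain ⟨k, rfl⟩ : ∃ k, q₀ = k + 1 := ⟨q₀ - 1, by omega⟩
      simp only [Nat.add_sub_cancel]
      have : (k + 1) ^ 2 = k * (k + 1 + 1) + 1 := by ring
      rw [this, Nat.add_sub_cancel]
    rw [this]
    exact Dvd.dvd.mul_right hr1 _
  obtain ⟨ζ, hζr, hζ1⟩ := badb_exists_root r hr hdvd
  have hζ0 : ζ ≠ 0 := by
    intro h
    rw [h, zero_pow hr.ne_zero] at hζr
    exact zero_ne_one hζr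
  -- ζ ^ q₀ = ζ
  have hζq : ζ ^ q₀ = ζ := by
    obtain ⟨k, hk⟩ := hr1
    have : q₀ = r * k + 1 := by omega
    rw [this, pow_succ, pow_mul, hζr, one_pow, one_mul]
  -- ζ² ≠ 1
  have hζ2 : ζ ^ 2 ≠ 1 := by
    intro h
    have hord : orderOf ζ = r := orderOf_eq_prime hζr hζ1
    have h2 : orderOf ζ ∣ 2 := orderOf_dvd_of_pow_eq_one h
    rw [hord] at h2
    have := (Nat.prime_dvd_prime_iff_eq hr Nat.prime_two).mp h2
    exact hr2 this
  -- indices
  let p1 : Fin n := ⟨n - 1, by omega⟩
  let p2 : Fin n := ⟨n - 2, by omega⟩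
  let p3 : Fin n := ⟨n - 3, by omega⟩
  let i0 : Fin n := ⟨0, by omega⟩
  have h12 : p1 ≠ p2 := by intro h; have := congrArg Fin.val h; simp [p1, p2] at this; omega
  have h13 : p1 ≠ p3 := by intro h; have := congrArg Fin.val h; simp [p1, p3] at this; omega
  have h23 : p2 ≠ p3 := by intro h; have := congrArg Fin.val h; simp [p2, p3] at this; omega
  have h01 : i0 ≠ p1 := by intro h; have := congrArg Fin.val h; simp [i0, p1] at this; omega
  have h02 : i0 ≠ p2 := by intro h; have := congrArg Fin.val h; simp [i0, p2] at this; omega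
  have h03 : i0 ≠ p3 := by intro h; have := congrArg Fin.val h; simp [i0, p3] at this; omega
  let d : Fin n → F := fun i =>
    (if i = p1 then (ζ⁻¹) ^ 2 else 1) * (if i = p2 then ζ else 1) * (if i = p3 then ζ else 1)
  have hd1 : d p1 = (ζ⁻¹) ^ 2 := by
    simp only [d, if_true, if_neg h12, if_neg h13, mul_one]
  have hd2 : d p2 = ζ := by
    simp only [d, if_true, if_neg h12.symm, if_neg h23, mul_one, one_mul]
  have hd3 : d p3 = ζ := by
    simp only [d, if_true, if_neg h13.symm, if_neg h23.symm, mul_one, one_mul]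
  have hdo : ∀ i, i ≠ p1 → i ≠ p2 → i ≠ p3 → d i = 1 := by
    intro i a b c
    simp only [d, if_neg a, if_neg b, if_neg c, mul_one]
  have hdcases : ∀ i, d i = 1 ∨ d i = ζ ∨ d i = (ζ⁻¹) ^ 2 := by
    intro i
    by_cases a : i = p1
    · right; right; rw [a, hd1]
    · by_cases b : i = p2
      · right; left; rw [b, hd2]
      · by_cases c : i = p3
        · right; left; rw [c, hd3]
        · left; exact hdo i a b c
  have hdne : ∀ i, d i ≠ 0 := by
    intro i
    rcases hdcases i with h | h | h
    · rw [h]; exact one_ne_zero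
    · rw [h]; exact hζ0
    · rw [h]; exact pow_ne_zero 2 (inv_ne_zero hζ0)
  have hdr : ∀ i, d i ^ r = 1 := by
    intro i
    rcases hdcases i with h | h | h
    · rw [h, one_pow]
    · rw [h, hζr]
    · rw [h, ← pow_mul, mul_comm, pow_mul, inv_pow, hζr, inv_one, one_pow]
  have hprod : ∏ i, d i = 1 := by
    simp only [d, Finset.prod_mul_distrib, Finset.prod_ite_eq', Finset.mem_univ, if_true]
    field_simp
  -- the element
  let x : GL (Fin n) F :=
    ⟨Matrix.diagonal d, Matrix.diagonal (fun i => (d i)⁻¹),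
      by
        rw [Matrix.diagonal_mul_diagonal]
        have : (fun i => d i * (d i)⁻¹) = fun _ => (1 : F) := by
          funext i; exact mul_inv_cancel₀ (hdne i)
        rw [this, Matrix.diagonal_one],
      by
        rw [Matrix.diagonal_mul_diagonal]
        have : (fun i => (d i)⁻¹ * d i) = fun _ => (1 : F) := by
          funext i; exact inv_mul_cancel₀ (hdne i)
        rw [this, Matrix.diagonal_one]⟩
  have hxv : (x : Matrix (Fin n) (Fin n) F) = Matrix.diagonal d := rfl
  refine ⟨x, ?_, ⟨1, ?_⟩, ?_, ?_⟩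
  · -- det = 1
    show x ∈ (Matrix.GeneralLinearGroup.det : GL (Fin n) F →* Fˣ).ker
    rw [MonoidHom.mem_ker]
    apply Units.ext
    rw [Matrix.GeneralLinearGroup.val_det_apply, hxv, Matrix.det_diagonal, hprod, Units.val_one]
  · rw [Units.val_pow_eq_pow_val, hxv, Matrix.diagonal_pow, one_smul]
    have : (d ^ r) = fun _ => (1 : F) := by
      funext i; exact hdr i
    rw [this, Matrix.diagonal_one]
  · intro z hz
    rw [hxv] at hz
    have ha := congrFun (congrFun hz i0) i0
    have hb := congrFun (congrFun hz p2) p2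
    rw [Matrix.diagonal_apply_eq, Matrix.smul_apply, Matrix.one_apply_eq, smul_eq_mul, mul_one] at ha hb
    rw [hdo i0 h01 h02 h03] at ha
    rw [hd2] at hb
    exact hζ1 (hb.trans ha.symm)
  · rintro ⟨c, hc0, hcq, hsym⟩
    rw [hxv] at hsym
    -- step 1 : c = 1
    have hc1 : c = 1 := by
      by_contra hcne
      have h := hsym 1 one_ne_zero
      rw [one_pow, div_one, badb_rank_sub, badb_rank_sub] at h
      have hle : (Finset.univ.filter (fun i => d i ≠ 1)).card ≤ 3 := by
        have hsub : Finset.univ.filter (fun i => d i ≠ 1) ⊆ {p1, p2, p3} := by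
          intro i hi
          rw [Finset.mem_filter] at hi
          by_contra hcon
          simp only [Finset.mem_insert, Finset.mem_singleton, not_or] at hcon
          exact hi.2 (hdo i hcon.1 hcon.2.1 hcon.2.2)
        exact (Finset.card_le_card hsub).trans Finset.card_le_three
      have hge : n - 3 ≤ (Finset.univ.filter (fun i => d i ≠ c)).card := by
        have hsub : Finset.univ \ {p1, p2, p3} ⊆ Finset.univ.filter (fun i => d i ≠ c) := by
          intro i hi
          rw [Finset.mem_sdiff] at hi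
          simp only [Finset.mem_insert, Finset.mem_singleton, not_or] at hi
          rw [Finset.mem_filter]
          refine ⟨Finset.mem_univ _, ?_⟩
          rw [hdo i hi.2.1 hi.2.2.1 hi.2.2.2]
          exact fun h => hcne h.symm
        have h1 := Finset.card_le_card hsub
        have h2 := Finset.le_card_sdiff ({p1, p2, p3} : Finset (Fin n)) Finset.univ
        have h3 : ({p1, p2, p3} : Finset (Fin n)).card ≤ 3 := Finset.card_le_three
        rw [Finset.card_univ, Fintype.card_fin] at h2
        omega
      omega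
    -- step 2
    have h := hsym ζ hζ0
    rw [hζq, hc1, one_div, badb_rank_sub, badb_rank_sub] at h
    have hle : (Finset.univ.filter (fun i => d i ≠ ζ)).card ≤ n - 2 := by
      have hsub : Finset.univ.filter (fun i => d i ≠ ζ) ⊆ Finset.univ \ {p2, p3} := by
        intro i hi
        rw [Finset.mem_filter] at hi
        rw [Finset.mem_sdiff]
        refine ⟨Finset.mem_univ _, ?_⟩
        simp only [Finset.mem_insert, Finset.mem_singleton, not_or]
        constructor
        · intro h; exact hi.2 (by rw [h, hd2])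
        · intro h; exact hi.2 (by rw [h, hd3])
      have h1 := Finset.card_le_card hsub
      have h2 : (Finset.univ \ ({p2, p3} : Finset (Fin n))).card = n - 2 := by
        rw [Finset.card_univ_sdiff, Fintype.card_fin, Finset.card_pair h23]
      omega
    have hall : (Finset.univ.filter (fun i => d i ≠ ζ⁻¹)).card = n := by
      have : Finset.univ.filter (fun i => d i ≠ ζ⁻¹) = Finset.univ := by
        apply Finset.filter_true_of_mem
        intro i _
        rcases hdcases i with h | h | h
        · rw [h]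
          intro h1
          apply hζ1
          rw [← inv_inv ζ, ← h1, inv_one]
        · rw [h]
          intro h1
          apply hζ2
          rw [pow_two]
          nth_rewrite 2 [h1]
          exact mul_inv_cancel₀ hζ0
        · rw [h]
          intro h1
          apply hζ1
          have h3 : ζ⁻¹ = 1 := by
            have h4 : ζ⁻¹ * ζ⁻¹ = ζ⁻¹ := by rw [← pow_two]; exact h1
            have h5 : ζ⁻¹ ≠ 0 := inv_ne_zero hζ0
            exact mul_left_cancel₀ h5 (by rw [h4, mul_one])
          rw [← inv_inv ζ, h3, inv_one]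
      rw [this, Finset.card_univ, Fintype.card_fin]
    omega

end Cfsg.Agent.Lib.Helper44.Uf
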