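import Mathlib
import Cfsg.Prelude.Def_GeometricClasses
import Cfsg.Agent.Lib.Helper44.UfDefs

/-! S5982 hive (helper44), leaf UF-DETD. -/

set_option autoImplicit false
open scoped MatrixGroups
open Matrix

namespace Cfsg.Agent.Lib.Helper44.Uf

universe v

variable {F : Type v} [Field F]

/-- UF-DETD : the determinant is the product of the eigenvalues along an eigenbasis -/
theorem det_eq_prod_of_eigenbasis {n : ℕ} {I : Type} [Fintype I] [DecidableEq I]
    (x : Matrix (Fin n) (Fin n) F) (b : Module.Basis I F (Fin n → F)) (d : I → F)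
    (hx : ∀ i, x *ᵥ b i = d i • b i) : x.det = ∏ i, d i := by
  rw [← LinearMap.det_toLin' x, ← LinearMap.det_toMatrix b]
  have h1 : LinearMap.toMatrix b b (Matrix.toLin' x) = Matrix.diagonal d := by
    ext i j
    rw [LinearMap.toMatrix_apply, Matrix.toLin'_apply, hx, map_smul, Finsupp.smul_apply,
      Module.Basis.repr_self_apply, Matrix.diagonal_apply, smul_eq_mul]
    by_cases hij : i = j
    · subst hij
      rw [if_pos rfl, if_pos rfl, mul_one]
    · rw [if_neg hij, if_neg (fun h => hij h.symm), mul_zero]
  rw [h1, Matrix.det_diagonal]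

end Cfsg.Agent.Lib.Helper44.Uf
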