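import Mathlib
import Cfsg.Prelude.Def_GeometricClasses
import Cfsg.Agent.Lib.Helper44.UfDefs
import Cfsg.Agent.Lib.Helper42.SfrFb

/-! S5982 hive (helper44), leaf UF-DIAG. -/

set_option autoImplicit false
open scoped MatrixGroups
open Matrix

namespace Cfsg.Agent.Lib.Helper44.Uf

universe v

variable {F : Type v} [Field F]

/-- a finite field whose multiplicative group has order divisible by the prime `r` contains a
nontrivial `r`-th root of unity -/
theorem diag_exists_root [Fintype F] (r : ℕ) (hr : r.Prime) (hr1 : r ∣ Fintype.card F - 1) :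
    ∃ ω : F, ω ^ r = 1 ∧ ω ≠ 1 := by
  classical
  haveI : Fact r.Prime := ⟨hr⟩
  have hcard : Fintype.card Fˣ = Fintype.card F - 1 := Fintype.card_units F
  have hdvd : r ∣ Fintype.card Fˣ := by rw [hcard]; exact hr1
  obtain ⟨u, hu⟩ := exists_prime_orderOf_dvd_card r hdvd
  refine ⟨(u : F), ?_, ?_⟩
  · have : u ^ r = 1 := by rw [← hu]; exact pow_orderOf_eq_one u
    rw [← Units.val_pow_eq_pow_val, this, Units.val_one]
  · intro h
    have h1 : u = 1 := Units.ext (by rw [h, Units.val_one])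
    rw [h1, orderOf_one] at hu
    exact hr.one_lt.ne hu

/-- UF-DIAG : a matrix with `x ^ r = w ^ r`, `r` a prime dividing `|F| - 1`, has an eigenbasis -/
theorem exists_eigenbasis [Fintype F] {n : ℕ} (r : ℕ) (hr : r.Prime) (hr1 : r ∣ Fintype.card F - 1)
    (x : Matrix (Fin n) (Fin n) F) (w : F) (hw : w ≠ 0)
    (hx : x ^ r = (w ^ r) • (1 : Matrix (Fin n) (Fin n) F)) :
    ∃ (b : Module.Basis (Fin n) F (Fin n → F)) (d : Fin n → F),
      (∀ i, x *ᵥ b i = d i • b i) ∧ ∀ i, d i ^ r = w ^ r := by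
  haveI : Fact r.Prime := ⟨hr⟩
  obtain ⟨ω, hω, hω1⟩ := diag_exists_root r hr hr1
  have hy : (w⁻¹ • x) ^ r = 1 := by
    rw [smul_pow, hx, smul_smul, inv_pow, inv_mul_cancel₀ (pow_ne_zero r hw), one_smul]
  obtain ⟨b, e, hbe⟩ := Cfsg.Agent.Lib.Helper44.Sfr.exists_eigenbasis r ω hω hω1 (w⁻¹ • x) hy
  refine ⟨b, fun i => w * ω ^ (e i).val, ?_, ?_⟩
  · intro i
    have h := hbe i
    rw [Matrix.smul_mulVec] at h
    have h2 : x *ᵥ b i = w • (w⁻¹ • x *ᵥ b i) := by
      rw [smul_smul, mul_inv_cancel₀ hw, one_smul]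
    rw [h2, h, smul_smul]
  · intro i
    rw [mul_pow, ← pow_mul, mul_comm (e i).val r, pow_mul, hω, one_pow, mul_one]

end Cfsg.Agent.Lib.Helper44.Uf
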