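import Mathlib
import Cfsg.Agent.Lib.Helper47.G42Defs

/-! # G42 hive (helper47, S2553), sub-hive G42-F56 (architect helper82): sub-leaf F56-RES `f56_res`

Restriction `ρ : H →* Perm ↥Δ` of `H ≤ Perm (Fin 8)` to an invariant 6-set `Δ`; injective (the kernel is
killed by `f56_ker`, taken here as the hypothesis `hker`), transitive, and `ρ g` has cycle type `{5}`. -/

set_option autoImplicit false

namespace Cfsg.Agent.Lib.Helper47.G42

open Equiv

/-- `h x ∈ Δ ↔ x ∈ Δ` for `h` in a subgroup leaving `Δ` invariant -/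
theorem f56res_iff (H : Subgroup (Perm (Fin 8))) (Δ : Finset (Fin 8))
    (hinv : ∀ h ∈ H, ∀ x ∈ Δ, h x ∈ Δ) (h : Perm (Fin 8)) (hh : h ∈ H) (x : Fin 8) :
    h x ∈ Δ ↔ x ∈ Δ := by
  constructor
  · intro hx
    have := hinv h⁻¹ (H.inv_mem hh) (h x) hx
    simpa using this
  · exact hinv h hh x

/-- the restriction homomorphism -/
noncomputable def f56res_hom (H : Subgroup (Perm (Fin 8))) (Δ : Finset (Fin 8))
    (hinv : ∀ h ∈ H, ∀ x ∈ Δ, h x ∈ Δ) : H →* Perm {x // x ∈ Δ} where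
  toFun h := Perm.subtypePerm (h : Perm (Fin 8)) (fun x => f56res_iff H Δ hinv h.1 h.2 x)
  map_one' := by
    ext x
    rfl
  map_mul' a b := by
    ext x
    rfl

theorem f56res_hom_apply (H : Subgroup (Perm (Fin 8))) (Δ : Finset (Fin 8))
    (hinv : ∀ h ∈ H, ∀ x ∈ Δ, h x ∈ Δ) (h : H) (x : {x // x ∈ Δ}) :
    ((f56res_hom H Δ hinv h x : {x // x ∈ Δ}) : Fin 8) = (h : Perm (Fin 8)) x := rfl

/-- F56-RES with the kernel statement `f56_ker` as a hypothesis. -/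
theorem f56res_core (H : Subgroup (Perm (Fin 8))) (Δ : Finset (Fin 8))
    (hker : ∀ k : Perm (Fin 8), k ∈ H → (∀ x ∈ Δ, k x = x) → k = 1)
    (g : Perm (Fin 8)) (hg : g ∈ H) (hc : g.IsCycle) (h5 : g.support.card = 5)
    (hgΔ : g.support ⊆ Δ) (hinv : ∀ h ∈ H, ∀ x ∈ Δ, h x ∈ Δ)
    (htr : ∀ x ∈ Δ, ∀ y ∈ Δ, ∃ h ∈ H, h x = y) :
    ∃ ρ : H →* Perm {x // x ∈ Δ}, Function.Injective ρ ∧
      (∀ x y : {x // x ∈ Δ}, ∃ h : H, ρ h x = y) ∧ ∃ h : H, (ρ h).cycleType = {5} := by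
  refine ⟨f56res_hom H Δ hinv, ?_, ?_, ?_⟩
  · rw [injective_iff_map_eq_one]
    intro k hk
    have h1 : (k : Perm (Fin 8)) = 1 := by
      apply hker k.1 k.2
      intro x hx
      have := congrArg (fun σ : Perm {x // x ∈ Δ} => ((σ ⟨x, hx⟩ : {x // x ∈ Δ}) : Fin 8)) hk
      simpa [f56res_hom_apply] using this
    exact Subtype.ext h1
  · intro x y
    obtain ⟨h, hh, hxy⟩ := htr x.1 x.2 y.1 y.2
    refine ⟨⟨h, hh⟩, ?_⟩
    apply Subtype.ext
    rw [f56res_hom_apply]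
    exact hxy
  · refine ⟨⟨g, hg⟩, ?_⟩
    have hof : Perm.ofSubtype (f56res_hom H Δ hinv ⟨g, hg⟩) = g := by
      exact Perm.ofSubtype_subtypePerm (fun x => f56res_iff H Δ hinv g hg x)
        (fun x hx => hgΔ (Perm.mem_support.2 hx))
    rw [← Perm.cycleType_ofSubtype, hof, hc.cycleType, h5]

end Cfsg.Agent.Lib.Helper47.G42
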