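import Mathlib
import Cfsg.Agent.Lib.Helper47.G42Defs
import Cfsg.Agent.Lib.Helper48.G42O60
import Cfsg.Agent.Lib.Helper48.G42O120
import Cfsg.Agent.Lib.Helper82.G42F56RES
import Cfsg.Agent.Lib.Helper94.G42F56P9
import Cfsg.Agent.Lib.Helper54.G42F56KER
import Cfsg.Agent.Lib.Helper54.G42F56ARITH
import Cfsg.Agent.Lib.Helper54.G42F56SOLV30
import Cfsg.Agent.Lib.Helper33.G42F56N240
import Cfsg.Agent.Lib.Helper33.G42F56ALT
import Cfsg.Agent.Lib.Helper69.G42F56PRIM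
import Cfsg.Agent.Lib.Helper60.G42F56TRANSP

/-! # G42 hive (helper47, S2553): leaf G42-F56 `case_orbit_six` — assembly (architect helper82)

Sub-leaves: F56-KER/ARITH/SOLV30 (helper54), F56-N240/ALT (helper33), F56-P9 (helper94), F56-PRIM (helper69),
F56-TRANSP (helper60), F56-RES (helper82); sibling leaves G42-O60 / G42-O120 (helper48). -/

set_option autoImplicit false

namespace Cfsg.Agent.Lib.Helper47.G42

open Equiv

/-- SUB-LEAF F56-RES (exact sub-skeleton statement). -/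
theorem f56_res (H : Subgroup (Perm (Fin 8))) (hR : RadFree H) (Δ : Finset (Fin 8))
    (hΔ : Δ.card = 6) (g : Perm (Fin 8)) (hg : g ∈ H) (hc : g.IsCycle) (h5 : g.support.card = 5)
    (hgΔ : g.support ⊆ Δ) (hinv : ∀ h ∈ H, ∀ x ∈ Δ, h x ∈ Δ)
    (htr : ∀ x ∈ Δ, ∀ y ∈ Δ, ∃ h ∈ H, h x = y) :
    ∃ ρ : H →* Perm {x // x ∈ Δ}, Function.Injective ρ ∧
      (∀ x y : {x // x ∈ Δ}, ∃ h : H, ρ h x = y) ∧ ∃ h : H, (ρ h).cycleType = {5} :=
  f56res_core H Δ (fun k hk hfix => f56_ker H hR Δ hΔ hinv k hk hfix) g hg hc h5 hgΔ hinv htr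

/-- the subgroup case: `G ≤ S6`, transitive, containing an element of cycle type `{5}`, `RadFree`. -/
theorem f56_six (G : Subgroup (Perm (Fin 6))) (hR : RadFree G)
    (htr : ∀ x y : Fin 6, ∃ h ∈ G, h x = y) (c : Perm (Fin 6)) (hc : c ∈ G)
    (h5 : c.cycleType = {5}) :
    Nonempty (G ≃* alternatingGroup (Fin 5)) ∨ Nonempty (G ≃* Perm (Fin 5)) ∨
      Nonempty (G ≃* alternatingGroup (Fin 6)) ∨ Nonempty (G ≃* Perm (Fin 6)) := by
  obtain ⟨h30, hprim⟩ := f56_prim G htr c hc h5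
  have h720 : Nat.card G ∣ 720 := by
    have h := Subgroup.card_subgroup_dvd_card G
    rw [Nat.card_perm, Nat.card_fin] at h
    exact h
  have hns : Nat.card G ≠ 1 → ¬ Group.IsSolvable G := by
    intro h1 hsol
    have htop : (⊤ : Subgroup G) = ⊥ := hR ⊤ inferInstance
      (Group.isSolvable_of_isSolvable_injective (f := (⊤ : Subgroup G).subtype)
        (Subgroup.subtype_injective _))
    apply h1
    rw [← Subgroup.card_top (G := G), htop, Subgroup.card_bot]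
  by_cases h9 : 9 ∣ Nat.card G
  · obtain ⟨t, ht, h3⟩ := f56_three_cycle G h9
    have hle : alternatingGroup (Fin 6) ≤ G :=
      Equiv.Perm.alternatingGroup_le_of_isPreprimitive_of_isThreeCycle_mem hprim h3 ht
    rcases f56_iso_of_alt_le G hle with h | h
    · exact Or.inr (Or.inr (Or.inl h))
    · exact Or.inr (Or.inr (Or.inr h))
  · rcases f56_arith _ h30 h720 h9 with h | h | h | h
    · exact absurd (f56_solvable_30 h) (hns (by omega))
    · exact Or.inl (equiv_alt5_of_card_60 h (hns (by omega)))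
    · exact Or.inr (Or.inl (equiv_perm5_of_card_120 h hR))
    · exact absurd h (f56_not_240 G)

/-- LEAF G42-F56 (orbit of size 6). -/
theorem case_orbit_six (H : Subgroup (Perm (Fin 8))) (hR : RadFree H) (Δ : Finset (Fin 8))
    (hΔ : Δ.card = 6) (g : Perm (Fin 8)) (hg : g ∈ H) (hc : g.IsCycle) (h5 : g.support.card = 5)
    (hgΔ : g.support ⊆ Δ) (hinv : ∀ h ∈ H, ∀ x ∈ Δ, h x ∈ Δ)
    (htr : ∀ x ∈ Δ, ∀ y ∈ Δ, ∃ h ∈ H, h x = y) :
    Nonempty (H ≃* alternatingGroup (Fin 5)) ∨ Nonempty (H ≃* Perm (Fin 5)) ∨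
      Nonempty (H ≃* alternatingGroup (Fin 6)) ∨ Nonempty (H ≃* Perm (Fin 6)) := by
  obtain ⟨ρ, hρ, hρtr, hρ5⟩ := f56_res H hR Δ hΔ g hg hc h5 hgΔ hinv htr
  obtain ⟨φ, hφ, hφtr, ⟨h0, hφ5⟩⟩ :=
    f56_transp (by rw [Fintype.card_coe, hΔ]) ρ hρ hρtr hρ5
  let e : H ≃* φ.range := MonoidHom.ofInjective hφ
  have hRG : RadFree φ.range := RadFree.of_mulEquiv e hR
  have htrG : ∀ x y : Fin 6, ∃ h ∈ φ.range, h x = y := by
    intro x y
    obtain ⟨h, hh⟩ := hφtr x y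
    exact ⟨φ h, ⟨h, rfl⟩, hh⟩
  have key := f56_six φ.range hRG htrG (φ h0) ⟨h0, rfl⟩ hφ5
  rcases key with ⟨⟨f⟩⟩ | ⟨⟨f⟩⟩ | ⟨⟨f⟩⟩ | ⟨⟨f⟩⟩
  · exact Or.inl ⟨e.trans f⟩
  · exact Or.inr (Or.inl ⟨e.trans f⟩)
  · exact Or.inr (Or.inr (Or.inl ⟨e.trans f⟩))
  · exact Or.inr (Or.inr (Or.inr ⟨e.trans f⟩))

end Cfsg.Agent.Lib.Helper47.G42
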