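import Mathlib
import Cfsg.Prelude.Def_ClassicalGeometry
import Cfsg.Prelude.Def_GeometricClasses
import Cfsg.Agent.Lib.Helper99.SympForm
import Cfsg.Agent.Lib.Helper59.TqDefs
import Cfsg.Agent.Lib.Helper5.TwoSubspaces
import Cfsg.Agent.Lib.Helper80.TiCOUNT1
import Cfsg.Agent.Lib.Helper25.TqCNTzeros

/-! TQ-CNT of the Tq hive (helper59), by helper82: the totally singular frame count of a
nondegenerate quadratic space of dimension `2 d` and type `e` over a finite field (any
characteristic).  This file: the double count of totally singular frames (any quadratic form). -/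

set_option autoImplicit false
set_option linter.unusedSectionVars false
set_option linter.unusedVariables false

namespace Cfsg.Agent.Lib.Helper59.Tq

open Module

section cntframes

universe u v

variable {F : Type u} [Field F] [Fintype F] {V : Type v} [AddCommGroup V] [Module F V] [Finite V]
variable (Q : QuadraticForm F V)

/-- totally singular frames of length `k` -/
abbrev cnt_Fr (k : ℕ) : Type v :=
  {w : Fin k → V // (∀ a, Q (w a) = 0) ∧ (∀ a b, QuadraticMap.polar Q (w a) (w b) = 0) ∧
    LinearIndependent F w}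

/-- the extensions of a totally singular frame by one more vector -/
abbrev cnt_Ext {k : ℕ} (w : Fin k → V) : Type v :=
  {v : V // Q v = 0 ∧ (∀ a, QuadraticMap.polar Q (w a) v = 0) ∧
    v ∉ Submodule.span F (Set.range w)}

theorem cnt_polar_self_of_sing (v : V) (hv : Q v = 0) : QuadraticMap.polar Q v v = 0 := by
  rw [QuadraticMap.polar_self, hv, smul_zero]

/-- the frames with a given tail are the extensions of the tail -/
theorem cnt_fr_fiber (k : ℕ) (w : cnt_Fr Q k) :
    Nat.card {w' : cnt_Fr Q (k + 1) // Fin.tail w'.1 = w.1} = Nat.card (cnt_Ext Q w.1) := by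
  apply Nat.card_congr
  refine
    { toFun := fun w' => ⟨w'.1.1 0, w'.1.2.1 0, ?_, ?_⟩
      invFun := fun v => ⟨⟨Fin.cons v.1 w.1, ?_, ?_, ?_⟩, ?_⟩
      left_inv := ?_
      right_inv := ?_ }
  · intro a
    have h := w'.1.2.2.1 a.succ 0
    have ht : w'.1.1 a.succ = w.1 a := congrFun w'.2 a
    rw [ht] at h
    exact h
  · have h := w'.1.2.2.2
    rw [← Fin.cons_self_tail w'.1.1, linearIndependent_finCons, w'.2] at h
    exact h.2
  · intro a
    refine Fin.cases ?_ (fun a' => ?_) a
    · rw [Fin.cons_zero]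
      exact v.2.1
    · rw [Fin.cons_succ]
      exact w.2.1 a'
  · intro a b
    refine Fin.cases ?_ (fun a' => ?_) a <;> refine Fin.cases ?_ (fun b' => ?_) b
    · rw [Fin.cons_zero]
      exact cnt_polar_self_of_sing Q _ v.2.1
    · rw [Fin.cons_zero, Fin.cons_succ, QuadraticMap.polar_comm]
      exact v.2.2.1 b'
    · rw [Fin.cons_zero, Fin.cons_succ]
      exact v.2.2.1 a'
    · rw [Fin.cons_succ, Fin.cons_succ]
      exact w.2.2.1 a' b'
  · rw [linearIndependent_finCons]
    exact ⟨w.2.2.2, v.2.2.2⟩
  · funext a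
    rfl
  · intro w'
    apply Subtype.ext
    apply Subtype.ext
    show Fin.cons (w'.1.1 0) w.1 = w'.1.1
    funext a
    refine Fin.cases ?_ (fun a' => ?_) a
    · rfl
    · rw [Fin.cons_succ]
      exact (congrFun w'.2 a').symm
  · intro v
    apply Subtype.ext
    rfl

/-- the tail of a frame -/
def cnt_tail (k : ℕ) (w' : cnt_Fr Q (k + 1)) : cnt_Fr Q k :=
  ⟨Fin.tail w'.1, fun a => w'.2.1 a.succ, fun a b => w'.2.2.1 a.succ b.succ, by
    have h := w'.2.2.2
    rw [← Fin.cons_self_tail w'.1, linearIndependent_finCons] at h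
    exact h.1⟩

/-- the recursion for the number of frames -/
theorem cnt_fr_succ (k c : ℕ) (hc : ∀ w : cnt_Fr Q k, Nat.card (cnt_Ext Q w.1) = c) :
    Nat.card (cnt_Fr Q (k + 1)) = Nat.card (cnt_Fr Q k) * c := by
  classical
  have hfin1 : Finite (cnt_Fr Q k) := inferInstance
  have hfin2 : Finite (cnt_Fr Q (k + 1)) := inferInstance
  have : Fintype (cnt_Fr Q k) := Fintype.ofFinite _
  have e := Equiv.sigmaFiberEquiv (cnt_tail Q k)
  rw [← Nat.card_congr e, Nat.card_sigma]
  have hfib : ∀ w : cnt_Fr Q k, Nat.card {w' : cnt_Fr Q (k + 1) // cnt_tail Q k w' = w} = c := by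
    intro w
    rw [← hc w, ← cnt_fr_fiber Q k w]
    apply Nat.card_congr
    apply Equiv.subtypeEquivRight
    intro w'
    constructor
    · intro h
      exact congrArg Subtype.val h
    · intro h
      exact Subtype.ext h
  simp only [hfib]
  rw [Finset.sum_const, smul_eq_mul, Finset.card_univ, Nat.card_eq_fintype_card]

theorem cnt_fr_zero : Nat.card (cnt_Fr Q 0) = 1 := by
  have : Unique (cnt_Fr Q 0) :=
    { default := ⟨Fin.elim0, fun a => a.elim0, fun a => a.elim0, linearIndependent_empty_type⟩
      uniq := fun e => Subtype.ext (funext fun i => i.elim0) }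
  exact Nat.card_unique

/-- the span of a totally singular frame is totally singular -/
theorem cnt_ts_span {k : ℕ} (s : cnt_Fr Q k) :
    ∀ u ∈ Submodule.span F (Set.range s.1), Q u = 0 := by
  have h1 : ∀ u ∈ Submodule.span F (Set.range s.1),
      Q u = 0 ∧ ∀ a, QuadraticMap.polar Q u (s.1 a) = 0 := by
    intro u hu
    induction hu using Submodule.span_induction with
    | mem x hx =>
      obtain ⟨b, rfl⟩ := hx
      exact ⟨s.2.1 b, fun a => s.2.2.1 b a⟩
    | zero => exact ⟨by simp, fun a => by simp⟩
    | add x y hx' hy' hx hy =>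
      have hxy : QuadraticMap.polar Q x y = 0 := by
        clear hy
        induction hy' using Submodule.span_induction with
        | mem z hz =>
          obtain ⟨b, rfl⟩ := hz
          exact hx.2 b
        | zero => simp
        | add z z' _ _ hz hz' => rw [QuadraticMap.polar_add_right, hz, hz', add_zero]
        | smul c z _ hz => rw [QuadraticMap.polar_smul_right, hz, smul_zero]
      refine ⟨?_, fun a => ?_⟩
      · have := hxy
        unfold QuadraticMap.polar at this
        rw [hx.1, hy.1] at this
        simpa using this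
      · rw [QuadraticMap.polar_add_left, hx.2 a, hy.2 a, add_zero]
    | smul c x _ hx =>
      refine ⟨?_, fun a => ?_⟩
      · rw [QuadraticMap.map_smul, hx.1, smul_zero]
      · rw [QuadraticMap.polar_smul_left, hx.2 a, smul_zero]
  exact fun u hu => (h1 u hu).1

/-- frames counted through the subspace they span -/
theorem cnt_card_fr_eq (m : ℕ) :
    Nat.card (cnt_Fr Q m) =
      Nat.card {W : Submodule F V // finrank F W = m ∧ ∀ w ∈ W, Q w = 0} *
        ∏ j ∈ Finset.range m, (Fintype.card F ^ m - Fintype.card F ^ j) := by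
  classical
  have : Module.Finite F V := Module.Finite.of_finite
  have : Finite (Submodule F V) := Finite.of_injective (fun W => (W : Set V)) SetLike.coe_injective
  let f : cnt_Fr Q m → {W : Submodule F V // finrank F W = m ∧ ∀ w ∈ W, Q w = 0} := fun s =>
    ⟨Submodule.span F (Set.range s.1), by
      rw [finrank_span_eq_card s.2.2.2, Fintype.card_fin], cnt_ts_span Q s⟩
  have e := Equiv.sigmaFiberEquiv f
  rw [← Nat.card_congr e]
  have : Fintype {W : Submodule F V // finrank F W = m ∧ ∀ w ∈ W, Q w = 0} :=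
    Fintype.ofFinite _
  rw [Nat.card_sigma]
  have hfib : ∀ W : {W : Submodule F V // finrank F W = m ∧ ∀ w ∈ W, Q w = 0},
      Nat.card {s // f s = W} =
        ∏ j ∈ Finset.range m, (Fintype.card F ^ m - Fintype.card F ^ j) := by
    intro W
    rw [← Cfsg.Agent.Lib.Helper48.Ti.count1_card_fiber m W.1 W.2.1]
    apply Nat.card_congr
    refine
      { toFun := fun s => ⟨s.1.1, s.1.2.2.2, congrArg Subtype.val s.2⟩
        invFun := fun s => ⟨⟨s.1, ?_, ?_, s.2.1⟩, Subtype.ext s.2.2⟩
        left_inv := fun s => rfl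
        right_inv := fun s => rfl }
    · intro a
      have hs := s.2.2
      have ha : s.1 a ∈ Submodule.span F (Set.range s.1) :=
        Submodule.subset_span (Set.mem_range_self a)
      rw [hs] at ha
      exact W.2.2 _ ha
    · intro a b
      have hs := s.2.2
      have ha : s.1 a ∈ Submodule.span F (Set.range s.1) :=
        Submodule.subset_span (Set.mem_range_self a)
      have hb : s.1 b ∈ Submodule.span F (Set.range s.1) :=
        Submodule.subset_span (Set.mem_range_self b)
      rw [hs] at ha hb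
      unfold QuadraticMap.polar
      rw [W.2.2 _ (W.1.add_mem ha hb), W.2.2 _ ha, W.2.2 _ hb]
      simp
  simp only [hfib, Finset.sum_const, Finset.card_univ, smul_eq_mul, Nat.card_eq_fintype_card]

/-- the extensions of a frame in terms of its span -/
theorem cnt_ext_eq {k : ℕ} (w : cnt_Fr Q k) :
    Nat.card (cnt_Ext Q w.1) =
      Nat.card {v : V // Q v = 0 ∧
        (∀ u ∈ Submodule.span F (Set.range w.1), QuadraticMap.polar Q u v = 0) ∧
        v ∉ Submodule.span F (Set.range w.1)} := by
  apply Nat.card_congr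
  apply Equiv.subtypeEquivRight
  intro v
  constructor
  · rintro ⟨h1, h2, h3⟩
    refine ⟨h1, ?_, h3⟩
    intro u hu
    induction hu using Submodule.span_induction with
    | mem x hx =>
      obtain ⟨a, rfl⟩ := hx
      exact h2 a
    | zero => simp
    | add x y _ _ hx hy => rw [QuadraticMap.polar_add_left, hx, hy, add_zero]
    | smul c x _ hx => rw [QuadraticMap.polar_smul_left, hx, smul_zero]
  · rintro ⟨h1, h2, h3⟩
    exact ⟨h1, fun a => h2 _ (Submodule.subset_span ⟨a, rfl⟩), h3⟩

/-- the double count, with the extension numbers `c k` as a hypothesis -/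
theorem cnt_card_ts_mul_of_ext (m : ℕ) (c : ℕ → ℕ)
    (hc : ∀ k, k < m → ∀ U : Submodule F V, finrank F U = k → (∀ w ∈ U, Q w = 0) →
      Nat.card {v : V // Q v = 0 ∧ (∀ u ∈ U, QuadraticMap.polar Q u v = 0) ∧ v ∉ U} = c k) :
    Nat.card {W : Submodule F V // finrank F W = m ∧ ∀ w ∈ W, Q w = 0}
      * ∏ j ∈ Finset.range m, (Fintype.card F ^ m - Fintype.card F ^ j)
    = ∏ j ∈ Finset.range m, c j := by
  have : Module.Finite F V := Module.Finite.of_finite
  rw [← cnt_card_fr_eq Q m]
  have key : ∀ k, k ≤ m → Nat.card (cnt_Fr Q k) = ∏ j ∈ Finset.range k, c j := by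
    intro k
    induction k with
    | zero =>
      intro _
      rw [cnt_fr_zero, Finset.prod_range_zero]
    | succ k ih =>
      intro hk
      rw [cnt_fr_succ Q k (c k), ih (by omega), Finset.prod_range_succ]
      intro w
      rw [cnt_ext_eq Q w]
      exact hc k (by omega) _ (by rw [finrank_span_eq_card w.2.2.2, Fintype.card_fin])
        (cnt_ts_span Q w)
  exact key m le_rfl

end cntframes

section cntconcrete

variable {ι : Type} [Fintype ι] [DecidableEq ι] {F : Type*} [Field F] [Fintype F]

/-- TQ-CNT with the extension count as a hypothesis -/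
theorem cnt_core (Q : (ι → F) → F) (d e m : ℕ) (hS : Std Q d) (hmd : m + 1 ≤ d)
    (hext : ∀ QF : QuadraticForm F (ι → F), (⇑QF = Q) →
      (QuadraticMap.polarBilin QF).Nondegenerate → ∀ k, k + 1 ≤ d →
      ∀ U : Submodule F (ι → F), finrank F U = k → (∀ w ∈ U, QF w = 0) →
      Nat.card {v : ι → F // QF v = 0 ∧ (∀ u ∈ U, QuadraticMap.polar QF u v = 0) ∧ v ∉ U}
        = Fintype.card F ^ k *
        (if e = 0 then (Fintype.card F ^ (d - k) - 1) * (Fintype.card F ^ (d - k - 1) + 1)
          else (Fintype.card F ^ (d - k) + 1) * (Fintype.card F ^ (d - k - 1) - 1))) :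
    Nat.card {W : Submodule F (ι → F) // finrank F W = m ∧ ∀ w ∈ W, Q w = 0}
      * ∏ j ∈ Finset.range m, (Fintype.card F ^ m - Fintype.card F ^ j)
    = ∏ j ∈ Finset.range m, (Fintype.card F ^ j *
        (if e = 0 then (Fintype.card F ^ (d - j) - 1) * (Fintype.card F ^ (d - j - 1) + 1)
          else (Fintype.card F ^ (d - j) + 1) * (Fintype.card F ^ (d - j - 1) - 1))) := by
  obtain ⟨QF, hQF, hnd⟩ := hS.exists_form
  subst hQF
  exact cnt_card_ts_mul_of_ext QF m _
    (fun k hk U hUk hU => hext QF rfl hnd k (by omega) U hUk hU)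

/-- TQ-CNT: the totally singular frame count -/
theorem card_ts_mul (Q : (ι → F) → F) (d e m : ℕ) (hS : Std Q d) (he : TypeE Q e)
    (hmd : m + 1 ≤ d) :
    Nat.card {W : Submodule F (ι → F) // finrank F W = m ∧ ∀ w ∈ W, Q w = 0}
      * ∏ j ∈ Finset.range m, (Fintype.card F ^ m - Fintype.card F ^ j)
    = ∏ j ∈ Finset.range m, (Fintype.card F ^ j *
        (if e = 0 then (Fintype.card F ^ (d - j) - 1) * (Fintype.card F ^ (d - j - 1) + 1)
          else (Fintype.card F ^ (d - j) + 1) * (Fintype.card F ^ (d - j - 1) - 1))) := by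
  apply cnt_core Q d e m hS hmd
  intro QF hQF hnd k hk U hUk hU
  have hdim : finrank F (ι → F) = 2 * d := by
    rw [Module.finrank_fintype_fun_eq_card, hS.card]
  have hd1 : 1 ≤ d := by omega
  obtain ⟨h1, h2⟩ := cntzeros_ext QF hnd d k hdim U hU hUk hk
  rcases he with ⟨rfl, hplus⟩ | ⟨rfl, hminus⟩
  · rw [if_pos rfl]
    apply h1
    obtain ⟨L, hL, hLd⟩ := hplus
    subst hQF
    exact cntzeros_of_lagrangian QF hnd d hd1 hdim L hL (by rw [hS.card] at hLd; omega)
  · rw [if_neg one_ne_zero]
    apply h2
    refine (cntzeros_of_not_plus QF hnd d hdim ?_).2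
    rintro ⟨L, hL, hLd⟩
    apply hminus
    subst hQF
    exact ⟨L, hL, by rw [hS.card, hLd]⟩

end cntconcrete

end Cfsg.Agent.Lib.Helper59.Tq
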