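import Cfsg.Agent.Lib.Helper6.FH.BDefs
import Cfsg.Agent.Lib.Helper80.Conv
import Cfsg.Agent.Lib.Helper3.CharOps

/-! S1142 Feit-Higman hive (helper6), leaf FH-B8: multiplicities in the permutation character on
`G/B`: `fz P χ 1 = ⟨χ, 1_B^G⟩` and `∑_χ (fz P χ 1)^2 = |W|`. -/

set_option autoImplicit false

namespace Cfsg.Agent.Lib.Helper6.FH

open Cfsg Cfsg.Agent.Lib.Helper6 Cfsg.Agent.Lib.Helper6.St Cfsg.Agent.S0320 Cfsg.Agent.Lib.Helper6.Exch
open scoped ComplexConjugate

section B
variable {G : Type*} [Group G] [Fintype G] (P : Cfsg.BNPair G)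

open Classical in
/-- the permutation character as a sum of indicator functions over the cosets -/
theorem b8_fpc_eq_sum (H : Subgroup G) (g : G) :
    fixedPointCharacter H g =
      ∑ c : G ⧸ H, if g • c = c then (1 : ℂ) else 0 := by
  classical
  unfold fixedPointCharacter
  rw [Finset.sum_boole, Nat.card_eq_fintype_card]
  congr 1
  rw [← Fintype.card_subtype]
  rfl

open Classical in
/-- Frobenius reciprocity for the permutation character on `G/H`, elementary form. -/
theorem b8_frobenius (H : Subgroup G) (χ : G → ℂ) (hχ : IsClassFunction G χ) :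
    classInner χ (fixedPointCharacter H) =
      (Nat.card H : ℂ)⁻¹ * ∑ g : G, if g ∈ H then χ g else 0 := by
  classical
  have hconj : ∀ g, conj (fixedPointCharacter H g) = fixedPointCharacter H g := by
    intro g
    unfold fixedPointCharacter
    exact Complex.conj_natCast _
  unfold classInner
  simp only [hconj]
  -- the inner sum for a fixed coset
  have hc : ∀ c : G ⧸ H, (∑ g : G, χ g * (if g • c = c then (1 : ℂ) else 0))
      = ∑ g : G, if g ∈ H then χ g else 0 := by
    intro c
    obtain ⟨x, rfl⟩ := QuotientGroup.mk_surjective c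
    rw [← Equiv.sum_comp (MulAut.conj x).toEquiv]
    apply Finset.sum_congr rfl
    intro g _
    have h1 : (MulAut.conj x).toEquiv g = x * g * x⁻¹ := rfl
    rw [h1, hχ g x]
    have h2 : ((x * g * x⁻¹) • (QuotientGroup.mk x : G ⧸ H) = (QuotientGroup.mk x : G ⧸ H)) ↔ g ∈ H := by
      rw [MulAction.Quotient.smul_mk, QuotientGroup.eq, smul_eq_mul]
      have : (x * g * x⁻¹ * x)⁻¹ * x = g⁻¹ := by group
      rw [this, inv_mem_iff]
    by_cases hg : g ∈ H
    · rw [if_pos hg, if_pos (h2.mpr hg), mul_one]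
    · rw [if_neg hg, if_neg (fun h => hg (h2.mp h)), mul_zero]
  have hsum : (∑ g : G, χ g * fixedPointCharacter H g)
      = (Nat.card (G ⧸ H) : ℂ) * ∑ g : G, if g ∈ H then χ g else 0 := by
    simp only [b8_fpc_eq_sum, Finset.mul_sum]
    rw [Finset.sum_comm]
    simp only [hc]
    rw [Finset.sum_const, Finset.card_univ, nsmul_eq_mul, Nat.card_eq_fintype_card, Finset.mul_sum]
  rw [hsum, Subgroup.card_eq_card_quotient_mul_card_subgroup H]
  have hH : (Nat.card H : ℂ) ≠ 0 := by
    exact_mod_cast (Nat.card_pos (α := H)).ne'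
  have hQ : (Nat.card (G ⧸ H) : ℂ) ≠ 0 := by
    exact_mod_cast (Nat.card_pos (α := G ⧸ H)).ne'
  push_cast
  field_simp

/-! ### FH-B8 (multiplicities in the permutation character on `G/B`) -/
theorem fz_one_eq_classInner (χ : G → ℂ) (hχ : IsClassFunction G χ) :
    fz P χ 1 = classInner χ (fixedPointCharacter P.B) := by
  classical
  rw [b8_frobenius P.B χ hχ]
  unfold fz
  congr 1
  apply Finset.sum_congr rfl
  intro g _
  rw [Cw_one]
  rfl

/-- double cosets of the trivial subgroup -/
theorem b8_card_doubleCoset_bot (W : Type*) [Group W] :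
    Nat.card (DoubleCoset.Quotient ((⊥ : Subgroup W) : Set W) ((⊥ : Subgroup W) : Set W)) = Nat.card W := by
  symm
  apply Nat.card_congr
  refine Equiv.ofBijective (fun w => DoubleCoset.mk (⊥ : Subgroup W) (⊥ : Subgroup W) w) ⟨?_, ?_⟩
  · intro a b hab
    have hab' : DoubleCoset.mk (⊥ : Subgroup W) (⊥ : Subgroup W) a
        = DoubleCoset.mk (⊥ : Subgroup W) (⊥ : Subgroup W) b := hab
    rw [DoubleCoset.eq] at hab'
    obtain ⟨u, hu, v, hv, he⟩ := hab'
    rw [Subgroup.mem_bot] at hu hv
    rw [he, hu, hv, one_mul, mul_one]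
  · intro q
    exact ⟨q.out, DoubleCoset.out_eq' _ _ q⟩

theorem b8_card_doubleCoset_B :
    Nat.card (DoubleCoset.Quotient (P.B : Set G) (P.B : Set G)) = Nat.card (Wg P) := by
  have h := card_doubleCoset_parabolic P (∅ : Set P.S) (∅ : Set P.S)
  have h1 : P.parabolic (Subtype.val '' (∅ : Set P.S)) = P.B := by
    unfold Cfsg.BNPair.parabolic
    rw [Set.image_empty, Subgroup.closure_empty, sup_bot_eq]
  have h2 : WJ (S0320.sig P) (∅ : Set P.S) = ⊥ := by
    unfold WJ
    rw [Set.image_empty, Subgroup.closure_empty]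
  rw [h1, h2, b8_card_doubleCoset_bot] at h
  exact h

theorem sum_mult_sq [Fintype (Wg P)] [Fintype (Cfsg.IrrCharacter G)] :
    ∑ χ : Cfsg.IrrCharacter G, fz P (χ : G → ℂ) 1 ^ 2 = (Nat.card (Wg P) : ℂ) := by
  classical
  have hπ : IsCharacter G (fixedPointCharacter P.B) := isCharacter_fixedPointCharacter P.B
  obtain ⟨m, hm, hsum⟩ := Cfsg.Agent.Lib.Helper3.IsCharacter.exists_mult hπ
  have hconj : ∀ g, conj (fixedPointCharacter P.B g) = fixedPointCharacter P.B g := by
    intro g
    unfold fixedPointCharacter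
    exact Complex.conj_natCast _
  have hfz : ∀ ψ : Cfsg.IrrCharacter G, fz P (ψ : G → ℂ) 1 = (m ψ : ℂ) := by
    intro ψ
    have hcl : IsClassFunction G (ψ : G → ℂ) := by
      obtain ⟨k, τ, _, hτ⟩ := ψ.2
      rw [← hτ]
      intro g h
      exact τ.char_conj g h
    rw [fz_one_eq_classInner P _ hcl]
    have h1 := hm ψ
    have h2 : conj (classInner (fixedPointCharacter P.B) (ψ : G → ℂ))
        = classInner (ψ : G → ℂ) (fixedPointCharacter P.B) := by
      unfold classInner
      rw [map_mul, map_inv₀, Complex.conj_natCast, map_sum]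
      congr 1
      apply Finset.sum_congr rfl
      intro g _
      rw [map_mul, Complex.conj_conj, mul_comm]
    rw [← h2, h1, Complex.conj_natCast]
  have h3 : classInner (fixedPointCharacter P.B) (fixedPointCharacter P.B)
      = ∑ ψ : Cfsg.IrrCharacter G, (m ψ : ℂ) * conj ((m ψ : ℂ)) := by
    conv_lhs => rw [hsum]
    exact Cfsg.Agent.Lib.Helper3.classInner_sum_sum _ _
  rw [classInner_fixedPointCharacter, b8_card_doubleCoset_B] at h3
  rw [h3]
  apply Finset.sum_congr rfl
  intro ψ _
  rw [hfz ψ, Complex.conj_natCast, sq]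

end B

end Cfsg.Agent.Lib.Helper6.FH
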