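import Cfsg.Agent.Lib.Helper65.SF.Defs
import Cfsg.Agent.Lib.Helper97.RUL3

/-! # SF-DS (S2459 hive, helper65): determinant of the general Schur complement -/

set_option autoImplicit false
set_option linter.unusedSimpArgs false

namespace Cfsg.Agent.Lib.Helper65.SF

open Matrix
open Cfsg.Agent.Lib.Helper65.RU (l3_blk l3_blk_mul l3_eq_blk l3_det_row col0 row0)

variable {K : Type*} [Field K]

theorem ds_det_col {n : ℕ} (a : K) (r : Fin n → K) (D : Matrix (Fin n) (Fin n) K) :
    (l3_blk a r 0 D).det = a * D.det := by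
  rw [Matrix.det_succ_column_zero, Finset.sum_eq_single 0]
  · have : (l3_blk a r 0 D).submatrix (Fin.succAbove 0) Fin.succ = D := by
      ext i j
      simp [Matrix.submatrix_apply]
    rw [this]
    simp
  · intro j _ hj
    obtain ⟨j', rfl⟩ := Fin.exists_succ_eq.mpr hj
    simp
  · intro h; exact absurd (Finset.mem_univ _) h

/-- (SF-DS) determinant of the Schur complement: `det A = A 0 0 * det (schurG A)`. -/
theorem det_schurG {m : ℕ} (A : Matrix (Fin (m + 1)) (Fin (m + 1)) K) (h00 : A 0 0 ≠ 0) :
    A.det = A 0 0 * (schurG A).det := by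
  have hA : A = l3_blk 1 0 ((A 0 0)⁻¹ • col0 A) 1 * l3_blk (A 0 0) (row0 A) 0 (schurG A) := by
    rw [l3_blk_mul]
    conv_lhs => rw [l3_eq_blk A]
    congr 1
    · simp
    · simp
    · ext i
      simp [smul_smul, h00]
    · ext i j
      simp [schurG, col0, row0, Matrix.vecMulVec_apply]
      ring
  conv_lhs => rw [hA]
  rw [Matrix.det_mul, l3_det_row, ds_det_col, Matrix.det_one, one_mul]

end Cfsg.Agent.Lib.Helper65.SF
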