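import Cfsg.Agent.Lib.Helper65.SF.Defs

/-! # SF-T2 (S2459 hive, helper65): Sourour's LU factorization in dimension 2 -/

set_option autoImplicit false

namespace Cfsg.Agent.Lib.Helper65.SF

open Matrix

variable {K : Type*} [Field K]

/-- a non-scalar `2 × 2` matrix has a cyclic vector, in explicit form -/
theorem t2_exists_cyclic (a b c d : K) (hns : ¬ (b = 0 ∧ c = 0 ∧ a = d)) :
    ∃ x0 x1 : K, c * x0 ^ 2 + (d - a) * x0 * x1 - b * x1 ^ 2 ≠ 0 := by
  by_cases hc : c = 0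
  · by_cases hb : b = 0
    · refine ⟨1, 1, ?_⟩
      subst hc hb
      intro h
      apply hns
      refine ⟨rfl, rfl, ?_⟩
      have : d - a = 0 := by linear_combination h
      exact (sub_eq_zero.mp this).symm
    · refine ⟨0, 1, ?_⟩
      simpa using hb
  · refine ⟨1, 0, ?_⟩
    simpa using hc

/-- the conjugation identity `S * P = P * M` (Cayley-Hamilton in explicit form) -/
theorem t2_conj_identity (a b c d δ x0 x1 : K) :
    !![a, b; c, d] * !![x0, a * x0 + b * x1 - δ * x0; x1, c * x0 + d * x1 - δ * x1] =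
      !![x0, a * x0 + b * x1 - δ * x0; x1, c * x0 + d * x1 - δ * x1] *
        !![δ, (a + d - δ) * δ - (a * d - b * c); 1, a + d - δ] := by
  ext i j
  fin_cases i <;> fin_cases j <;> simp [Matrix.mul_apply, Fin.sum_univ_two] <;> ring

/-- (SF-T2) Sourour in dimension 2. -/
theorem sourour_two (S : Matrix (Fin 2) (Fin 2) K) (hns : ¬ ∃ c : K, S = c • 1) (β γ : Fin 2 → K)
    (hβ : ∀ i, β i ≠ 0) (hγ : ∀ i, γ i ≠ 0) (hdet : S.det = β 0 * γ 0 * (β 1 * γ 1)) :
    HasLU S β γ := by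
  have hS : S = !![S 0 0, S 0 1; S 1 0, S 1 1] := Matrix.eta_fin_two S
  set a := S 0 0 with ha
  set b := S 0 1 with hb
  set c := S 1 0 with hc
  set d := S 1 1 with hd
  have hns' : ¬ (b = 0 ∧ c = 0 ∧ a = d) := by
    rintro ⟨h1, h2, h3⟩
    apply hns
    refine ⟨a, ?_⟩
    rw [hS]
    ext i j
    fin_cases i <;> fin_cases j <;> simp [h1, h2, h3]
  have hΔ : a * d - b * c = β 0 * γ 0 * (β 1 * γ 1) := by
    rw [← hdet, hS, Matrix.det_fin_two_of]
  obtain ⟨x0, x1, hx⟩ := t2_exists_cyclic a b c d hns'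
  set δ := β 0 * γ 0 with hδ
  have hδ0 : δ ≠ 0 := mul_ne_zero (hβ 0) (hγ 0)
  set Pm : Matrix (Fin 2) (Fin 2) K :=
    !![x0, a * x0 + b * x1 - δ * x0; x1, c * x0 + d * x1 - δ * x1] with hPm
  have hPdet : Pm.det ≠ 0 := by
    rw [hPm, Matrix.det_fin_two_of]
    intro h
    apply hx
    linear_combination h
  set P : GL (Fin 2) K := Matrix.GeneralLinearGroup.mkOfDetNeZero Pm hPdet with hP
  have hPval : P.val = Pm := rfl
  set p : K := (a + d - δ) * δ - (a * d - b * c) with hp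
  refine ⟨P, !![β 0, 0; (γ 0)⁻¹, β 1], !![γ 0, (β 0)⁻¹ * p; 0, γ 1], ?_, ?_, ?_⟩
  · refine ⟨?_, ?_⟩
    · intro i j hij
      fin_cases i <;> fin_cases j <;> first | rfl | exact absurd hij (by decide)
    · intro i
      fin_cases i <;> rfl
  · refine ⟨?_, ?_⟩
    · intro i j hij
      fin_cases i <;> fin_cases j <;> first | rfl | exact absurd hij (by decide)
    · intro i
      fin_cases i <;> rfl
  · have hM : !![β 0, 0; (γ 0)⁻¹, β 1] * !![γ 0, (β 0)⁻¹ * p; 0, γ 1] =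
        !![δ, p; 1, a + d - δ] := by
      have h0 := hβ 0
      have h1 := hγ 0
      have e00 : β 0 * γ 0 + 0 * 0 = δ := by rw [hδ]; ring
      have e01 : β 0 * ((β 0)⁻¹ * p) + 0 * γ 1 = p := by
        rw [zero_mul, add_zero, ← mul_assoc, mul_inv_cancel₀ h0, one_mul]
      have e10 : (γ 0)⁻¹ * γ 0 + β 1 * 0 = 1 := by
        rw [mul_zero, add_zero, inv_mul_cancel₀ h1]
      have e11 : (γ 0)⁻¹ * ((β 0)⁻¹ * p) + β 1 * γ 1 = a + d - δ := by
        rw [hp, hΔ, hδ]
        field_simp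
        ring
      rw [Matrix.mul_fin_two, e00, e01, e10, e11]
    rw [hM, hPval]
    have hconj : S * Pm = Pm * !![δ, p; 1, a + d - δ] := by
      conv_lhs => rw [hS]
      exact t2_conj_identity a b c d δ x0 x1
    have hinv : (P⁻¹ : GL (Fin 2) K).val * Pm = 1 := by
      rw [← hPval, ← Units.val_mul, inv_mul_cancel, Units.val_one]
    rw [Matrix.mul_assoc, hconj, ← Matrix.mul_assoc, hinv, Matrix.one_mul]

end Cfsg.Agent.Lib.Helper65.SF
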