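import Cfsg.Agent.Lib.Helper82.TypePVals

set_option autoImplicit false
set_option linter.unusedSectionVars false
set_option linter.unusedVariables false
set_option linter.style.haveILetI false

namespace Cfsg.Agent.Lib.Helper82

open Cfsg
open scoped ComplexConjugate

section Abstract

variable {L : Type*} [Group L] [Fintype L]

/-- a function induced from a normal subgroup vanishes outside it. -/
theorem indFun_normal_eq_zero (K : Subgroup L) [hK : K.Normal] (θ : K → ℂ) {g : L}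
    (hg : g ∉ K) : indFun K θ g = 0 := by
  rw [Cfsg.Agent.Lib.Helper25.indFun_apply]
  have : ∀ x : L, extendByZero K θ (x⁻¹ * g * x) = 0 := by
    intro x
    apply Cfsg.Agent.Lib.Helper25.extendByZero_of_not_mem
    intro hmem
    apply hg
    have := hK.conj_mem _ hmem x
    have e : x * (x⁻¹ * g * x) * x⁻¹ = g := by group
    rwa [e] at this
  rw [Finset.sum_congr rfl (fun x _ => this x), Finset.sum_const_zero, mul_zero]

/-- orthogonality of the homomorphisms to `ℂˣ`. -/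
theorem classInner_hom {W : Type*} [Group W] [Fintype W] (ω ω' : W →* ℂˣ)
    [Decidable (ω = ω')] :
    classInner (fun w => ((ω w : ℂˣ) : ℂ)) (fun w => ((ω' w : ℂˣ) : ℂ))
      = if ω = ω' then 1 else 0 := by
  rw [Cfsg.Agent.Lib.Helper3.classInner_irr
    (Cfsg.Agent.Lib.Helper79.isIrrCharacter_of_monoidHom ω)
    (Cfsg.Agent.Lib.Helper79.isIrrCharacter_of_monoidHom ω')]
  by_cases h : ω = ω'
  · rw [if_pos h, if_pos (by rw [h])]
  · rw [if_neg h, if_neg]
    intro hf
    apply h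
    apply MonoidHom.ext
    intro w
    exact Units.ext (congrFun hf w)

/-- the induction formula from the exceptional characters, abstractly. -/
theorem ind_sub_eq_of_exceptional (W : Subgroup L) [Fintype W] (P : W → Prop)
    (μ : (W →* ℂˣ) → (L → ℂ)) (δ : (W →* ℂˣ) → ℂ)
    (hinj : Function.Injective μ) (hirr : ∀ ω, IsIrrCharacter L (μ ω))
    (hδ : ∀ ω, δ ω = 1 ∨ δ ω = -1)
    (hval : ∀ ω, ∀ w : W, ¬ P w → μ ω w = δ ω * ((ω w : ℂˣ) : ℂ))
    (hother : ∀ θ : L → ℂ, IsIrrCharacter L θ → (∀ ω, θ ≠ μ ω) → ∀ w : W, ¬ P w → θ w = 0)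
    (ω ω' : W →* ℂˣ) (hag : ∀ w : W, P w → ω w = ω' w) (hδeq : δ ω = δ ω') :
    indFun W (fun w => ((ω w : ℂˣ) : ℂ) - ((ω' w : ℂˣ) : ℂ)) = δ ω • (μ ω - μ ω') := by
  classical
  obtain ⟨φ, hφ⟩ : ∃ φ : W → ℂ, φ = fun w => ((ω w : ℂˣ) : ℂ) - ((ω' w : ℂˣ) : ℂ) := ⟨_, rfl⟩
  rw [← hφ]
  have hφw : ∀ w : W, φ w = ((ω w : ℂˣ) : ℂ) - ((ω' w : ℂˣ) : ℂ) := fun w => by rw [hφ]
  have hφ0 : ∀ w : W, P w → φ w = 0 := fun w hw => by rw [hφw, hag w hw, sub_self]
  have hcf : ∀ ω, IsClassFunction L (μ ω) := fun ω =>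
    Cfsg.Agent.Lib.Helper3.IsCharacter.isClassFunction
      (Cfsg.Agent.Lib.Helper3.IsIrrCharacter.isCharacter (hirr ω))
  rw [← sub_eq_zero]
  apply Cfsg.Agent.Lib.Helper3.eq_zero_of_classInner_irr_eq_zero
  · exact Cfsg.Agent.Lib.Helper3.isClassFunction_sub
      (Cfsg.Agent.Lib.Helper25.indFun_isClassFunction W φ)
      (Cfsg.Agent.Lib.Helper3.isClassFunction_smul _
        (Cfsg.Agent.Lib.Helper3.isClassFunction_sub (hcf ω) (hcf ω')))
  · intro θ hθ
    have hθcf := Cfsg.Agent.Lib.Helper3.IsCharacter.isClassFunction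
      (Cfsg.Agent.Lib.Helper3.IsIrrCharacter.isCharacter hθ)
    rw [Cfsg.Agent.Lib.Helper3.classInner_sub_left, Cfsg.Agent.Lib.Helper3.classInner_smul_left,
      Cfsg.Agent.Lib.Helper3.classInner_sub_left,
      Cfsg.Agent.Lib.Helper25.frobenius_reciprocity W φ θ hθcf,
      Cfsg.Agent.Lib.Helper3.classInner_irr (hirr ω) hθ,
      Cfsg.Agent.Lib.Helper3.classInner_irr (hirr ω') hθ]
    by_cases hex : ∃ ω'', θ = μ ω''
    · obtain ⟨ω'', rfl⟩ := hex
      have hδconj : conj (δ ω'') = δ ω'' := by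
        rcases hδ ω'' with h | h <;> rw [h] <;> simp
      have hsum : ∑ w : W, φ w * conj (μ ω'' w)
          = δ ω'' * (∑ w : W, ((ω w : ℂˣ) : ℂ) * conj (((ω'' w : ℂˣ) : ℂ))
            - ∑ w : W, ((ω' w : ℂˣ) : ℂ) * conj (((ω'' w : ℂˣ) : ℂ))) := by
        rw [← Finset.sum_sub_distrib, Finset.mul_sum]
        apply Finset.sum_congr rfl
        intro w _
        by_cases hw : P w
        · have e : ((ω w : ℂˣ) : ℂ) = ((ω' w : ℂˣ) : ℂ) := by rw [hag w hw]
          rw [hφ0 w hw, e]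
          ring
        · rw [hval ω'' w hw, map_mul, hδconj, hφw]
          ring
      have h1 : classInner φ (fun w : W => μ ω'' w)
          = δ ω'' * (classInner (fun w : W => ((ω w : ℂˣ) : ℂ)) (fun w : W => ((ω'' w : ℂˣ) : ℂ))
            - classInner (fun w : W => ((ω' w : ℂˣ) : ℂ)) (fun w : W => ((ω'' w : ℂˣ) : ℂ))) := by
        show (Nat.card W : ℂ)⁻¹ * ∑ w : W, φ w * conj (μ ω'' w)
          = δ ω'' * ((Nat.card W : ℂ)⁻¹ * ∑ w : W, ((ω w : ℂˣ) : ℂ) * conj (((ω'' w : ℂˣ) : ℂ))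
            - (Nat.card W : ℂ)⁻¹ * ∑ w : W, ((ω' w : ℂˣ) : ℂ) * conj (((ω'' w : ℂˣ) : ℂ)))
        rw [hsum]
        ring
      rw [h1, classInner_hom, classInner_hom]
      simp only [hinj.eq_iff]
      by_cases e1 : ω = ω''
      · by_cases e2 : ω' = ω''
        · rw [if_pos e1, if_pos e2]
          ring
        · rw [if_pos e1, if_neg e2, ← e1]
          ring
      · by_cases e2 : ω' = ω''
        · rw [if_neg e1, if_pos e2, ← e2, hδeq]
          ring
        · rw [if_neg e1, if_neg e2]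
          ring
    · rw [not_exists] at hex
      have h1 : classInner φ (fun w : W => θ w) = 0 := by
        show (Nat.card W : ℂ)⁻¹ * ∑ w : W, φ w * conj (θ w) = 0
        rw [Finset.sum_eq_zero, mul_zero]
        intro w _
        by_cases hw : P w
        · rw [hφ0 w hw, zero_mul]
        · rw [hother θ hθ hex w hw, map_zero, mul_zero]
      rw [h1, if_neg (fun h => hex ω h.symm), if_neg (fun h => hex ω' h.symm)]
      ring

end Abstract

end Cfsg.Agent.Lib.Helper82
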