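import Mathlib
import Cfsg.Prelude.Def_GeometricClasses
import Cfsg.Agent.Lib.Helper81.EsDefs
import Cfsg.Agent.Lib.Helper81.EsDD

/-!
# Es hive (S5877), leaf ES-R2c1 : `dd_shift`

`a` carries the joint eigenspace `(j, i)` of the commuting pair `(b, g)` onto `(j - s, i + j - s)`.
-/

set_option autoImplicit false
set_option linter.style.haveILetI false
set_option linter.unusedVariables false
set_option linter.unusedSectionVars false

namespace Cfsg.Agent.Lib.Helper81.Es

open scoped MatrixGroups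

variable {F : Type*} [Field F] {n : ℕ}

theorem r2c1_mem_eig (g : GL (Fin n) F) (c : F) (w : Fin n → F) :
    w ∈ eig g c ↔ (g : Matrix (Fin n) (Fin n) F).mulVec w = c • w := by
  unfold eig
  rw [Module.End.mem_eigenspace_iff, Matrix.toLin'_apply]

theorem r2c1_pow_mod {r : ℕ} (ζ : F) (hζ : ζ ^ r = 1) (m : ℕ) : ζ ^ (m % r) = ζ ^ m := by
  conv_rhs => rw [← Nat.div_add_mod m r, pow_add, pow_mul, hζ, one_pow, one_mul]

theorem r2c1_pow_val_add {r : ℕ} [NeZero r] (ζ : F) (hζ : ζ ^ r = 1) (x y : ZMod r) :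
    ζ ^ (x + y).val = ζ ^ x.val * ζ ^ y.val := by
  rw [ZMod.val_add, r2c1_pow_mod ζ hζ, pow_add]

theorem r2c1_pow_val_natCast {r : ℕ} [NeZero r] (ζ : F) (hζ : ζ ^ r = 1) (s : ℕ) :
    ζ ^ ((s : ZMod r)).val = ζ ^ s := by
  rw [ZMod.val_natCast, r2c1_pow_mod ζ hζ]

/-- forward: `a` maps the joint `(β, γ)`-eigenspace of `(b, g)` into the `(β', γ β')` one. -/
theorem r2c1_fwd (g a b : GL (Fin n) F) (z β β' γ : F) (hz : z ≠ 0)
    (hab : (a : Matrix (Fin n) (Fin n) F) * (b : Matrix (Fin n) (Fin n) F) =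
      z • ((b : Matrix (Fin n) (Fin n) F) * (a : Matrix (Fin n) (Fin n) F)))
    (hga : (g : Matrix (Fin n) (Fin n) F) * (a : Matrix (Fin n) (Fin n) F) =
      (b : Matrix (Fin n) (Fin n) F) * (a : Matrix (Fin n) (Fin n) F) *
        (g : Matrix (Fin n) (Fin n) F))
    (hβ : z * β' = β) (w : Fin n → F)
    (hb : (b : Matrix (Fin n) (Fin n) F).mulVec w = β • w)
    (hg : (g : Matrix (Fin n) (Fin n) F).mulVec w = γ • w) :
    (b : Matrix (Fin n) (Fin n) F).mulVec ((a : Matrix (Fin n) (Fin n) F).mulVec w) =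
        β' • (a : Matrix (Fin n) (Fin n) F).mulVec w ∧
      (g : Matrix (Fin n) (Fin n) F).mulVec ((a : Matrix (Fin n) (Fin n) F).mulVec w) =
        (γ * β') • (a : Matrix (Fin n) (Fin n) F).mulVec w := by
  have h1 : (b : Matrix (Fin n) (Fin n) F).mulVec ((a : Matrix (Fin n) (Fin n) F).mulVec w) =
      β' • (a : Matrix (Fin n) (Fin n) F).mulVec w := by
    have e1 : ((a : Matrix (Fin n) (Fin n) F) * (b : Matrix (Fin n) (Fin n) F)).mulVec w =
        (z • ((b : Matrix (Fin n) (Fin n) F) * (a : Matrix (Fin n) (Fin n) F))).mulVec w := by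
      rw [hab]
    rw [← Matrix.mulVec_mulVec, hb, Matrix.mulVec_smul, Matrix.smul_mulVec,
      ← Matrix.mulVec_mulVec, ← hβ, mul_smul] at e1
    have e2 := smul_right_injective (Fin n → F) hz e1
    exact e2.symm
  refine ⟨h1, ?_⟩
  have e1 : ((g : Matrix (Fin n) (Fin n) F) * (a : Matrix (Fin n) (Fin n) F)).mulVec w =
      ((b : Matrix (Fin n) (Fin n) F) * (a : Matrix (Fin n) (Fin n) F) *
        (g : Matrix (Fin n) (Fin n) F)).mulVec w := by
    rw [hga]
  rw [← Matrix.mulVec_mulVec, ← Matrix.mulVec_mulVec, ← Matrix.mulVec_mulVec, hg,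
    Matrix.mulVec_smul, Matrix.mulVec_smul, h1, smul_smul] at e1
  exact e1

/-- backward: if `a v` is in the `(β', γ β')` joint eigenspace then `v` is in the `(β, γ)` one. -/
theorem r2c1_bwd (g a b : GL (Fin n) F) (z β β' γ : F) (hz : z ≠ 0)
    (hab : (a : Matrix (Fin n) (Fin n) F) * (b : Matrix (Fin n) (Fin n) F) =
      z • ((b : Matrix (Fin n) (Fin n) F) * (a : Matrix (Fin n) (Fin n) F)))
    (hga : (g : Matrix (Fin n) (Fin n) F) * (a : Matrix (Fin n) (Fin n) F) =
      (b : Matrix (Fin n) (Fin n) F) * (a : Matrix (Fin n) (Fin n) F) *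
        (g : Matrix (Fin n) (Fin n) F))
    (hβ : z * β' = β) (v : Fin n → F)
    (hb : (b : Matrix (Fin n) (Fin n) F).mulVec ((a : Matrix (Fin n) (Fin n) F).mulVec v) =
        β' • (a : Matrix (Fin n) (Fin n) F).mulVec v)
    (hg : (g : Matrix (Fin n) (Fin n) F).mulVec ((a : Matrix (Fin n) (Fin n) F).mulVec v) =
        (γ * β') • (a : Matrix (Fin n) (Fin n) F).mulVec v) :
    (b : Matrix (Fin n) (Fin n) F).mulVec v = β • v ∧
      (g : Matrix (Fin n) (Fin n) F).mulVec v = γ • v := by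
  have inj : ∀ (x : GL (Fin n) F) (u u' : Fin n → F),
      (x : Matrix (Fin n) (Fin n) F).mulVec u = (x : Matrix (Fin n) (Fin n) F).mulVec u' →
        u = u' := by
    intro x u u' h
    have h' := congrArg ((x⁻¹ : GL (Fin n) F) : Matrix (Fin n) (Fin n) F).mulVec h
    rw [Matrix.mulVec_mulVec, Matrix.mulVec_mulVec, ← Units.val_mul, inv_mul_cancel,
      Units.val_one, Matrix.one_mulVec, Matrix.one_mulVec] at h'
    exact h'
  have h1 : (b : Matrix (Fin n) (Fin n) F).mulVec v = β • v := by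
    apply inj a
    have e1 : ((a : Matrix (Fin n) (Fin n) F) * (b : Matrix (Fin n) (Fin n) F)).mulVec v =
        (z • ((b : Matrix (Fin n) (Fin n) F) * (a : Matrix (Fin n) (Fin n) F))).mulVec v := by
      rw [hab]
    rw [← Matrix.mulVec_mulVec, Matrix.smul_mulVec, ← Matrix.mulVec_mulVec, hb, smul_smul,
      hβ] at e1
    rw [e1, Matrix.mulVec_smul]
  refine ⟨h1, ?_⟩
  apply inj a
  apply inj b
  have e1 : ((g : Matrix (Fin n) (Fin n) F) * (a : Matrix (Fin n) (Fin n) F)).mulVec v =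
      ((b : Matrix (Fin n) (Fin n) F) * (a : Matrix (Fin n) (Fin n) F) *
        (g : Matrix (Fin n) (Fin n) F)).mulVec v := by
    rw [hga]
  rw [← Matrix.mulVec_mulVec, ← Matrix.mulVec_mulVec, ← Matrix.mulVec_mulVec, hg] at e1
  rw [← e1, Matrix.mulVec_smul, Matrix.mulVec_smul, hb, smul_smul]

/-- ES-R2c1 : `a` carries the joint eigenspace `(j, i)` onto `(j - s, i + j - s)`. -/
theorem dd_shift {r : ℕ} [NeZero r] (g a b : GL (Fin n) F) (c ζ : F) (hζ : ζ ^ r = 1)
    (hga : g * a * g⁻¹ = b * a) (hgb : g * b = b * g) (s : ℕ)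
    (hab : ((cm a b : GL (Fin n) F) : Matrix (Fin n) (Fin n) F) = ζ ^ s • 1) (j i : ZMod r) :
    dd r g b c ζ j i = dd r g b c ζ (j - s) (i + j - s) := by
  have hr0 : r ≠ 0 := NeZero.ne r
  have hζ0 : ζ ≠ 0 := by
    rintro rfl
    rw [zero_pow hr0] at hζ
    exact zero_ne_one hζ
  have hz : ζ ^ s ≠ 0 := pow_ne_zero _ hζ0
  -- matrix forms of the hypotheses
  have hab' : (a : Matrix (Fin n) (Fin n) F) * (b : Matrix (Fin n) (Fin n) F) =
      ζ ^ s • ((b : Matrix (Fin n) (Fin n) F) * (a : Matrix (Fin n) (Fin n) F)) := by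
    have e : cm a b * (b * a) = a * b := by
      unfold cm; group
    have e' := congrArg (fun x : GL (Fin n) F => (x : Matrix (Fin n) (Fin n) F)) e
    simp only [Units.val_mul] at e'
    rw [← Units.val_mul, hab, Matrix.smul_mul, Matrix.one_mul, Units.val_mul] at e'
    exact e'.symm
  have hga' : (g : Matrix (Fin n) (Fin n) F) * (a : Matrix (Fin n) (Fin n) F) =
      (b : Matrix (Fin n) (Fin n) F) * (a : Matrix (Fin n) (Fin n) F) *
        (g : Matrix (Fin n) (Fin n) F) := by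
    have e : g * a = b * a * g := by
      rw [← hga]; group
    have e' := congrArg (fun x : GL (Fin n) F => (x : Matrix (Fin n) (Fin n) F)) e
    simpa only [Units.val_mul] using e'
  -- scalars
  have hβ : ζ ^ s * ζ ^ (j - (s : ZMod r)).val = ζ ^ j.val := by
    have : j = (j - (s : ZMod r)) + (s : ZMod r) := by ring
    conv_rhs => rw [this, r2c1_pow_val_add ζ hζ, r2c1_pow_val_natCast ζ hζ]
    ring
  have hγ : c * ζ ^ (i + j - (s : ZMod r)).val =
      c * ζ ^ i.val * ζ ^ (j - (s : ZMod r)).val := by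
    have : i + j - (s : ZMod r) = i + (j - (s : ZMod r)) := by ring
    rw [this, r2c1_pow_val_add ζ hζ]
    ring
  -- the linear equivalence `a`
  let e : (Fin n → F) ≃ₗ[F] (Fin n → F) :=
    LinearEquiv.ofLinearMap (Matrix.toLin' (a : Matrix (Fin n) (Fin n) F))
      (Matrix.toLin' ((a⁻¹ : GL (Fin n) F) : Matrix (Fin n) (Fin n) F))
      (by
        rw [← Matrix.toLin'_mul, ← Units.val_mul, mul_inv_cancel, Units.val_one,
          Matrix.toLin'_one])
      (by
        rw [← Matrix.toLin'_mul, ← Units.val_mul, inv_mul_cancel, Units.val_one,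
          Matrix.toLin'_one])
  have he : ∀ w, e w = (a : Matrix (Fin n) (Fin n) F).mulVec w := fun w => by
    simp [e]
  have hmap : (eig b (ζ ^ j.val) ⊓ eig g (c * ζ ^ i.val)).map (e : (Fin n → F) →ₗ[F] (Fin n → F)) =
      eig b (ζ ^ (j - (s : ZMod r)).val) ⊓ eig g (c * ζ ^ (i + j - (s : ZMod r)).val) := by
    ext x
    rw [Submodule.mem_map]
    constructor
    · rintro ⟨w, hw, rfl⟩
      rw [Submodule.mem_inf, r2c1_mem_eig, r2c1_mem_eig] at hw
      obtain ⟨h1, h2⟩ := r2c1_fwd g a b (ζ ^ s) (ζ ^ j.val) (ζ ^ (j - (s : ZMod r)).val)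
        (c * ζ ^ i.val) hz hab' hga' hβ w hw.1 hw.2
      rw [Submodule.mem_inf, r2c1_mem_eig, r2c1_mem_eig, hγ]
      change (b : Matrix (Fin n) (Fin n) F).mulVec (e w) = _ • e w ∧
        (g : Matrix (Fin n) (Fin n) F).mulVec (e w) = _ • e w
      rw [he]
      exact ⟨h1, h2⟩
    · intro hx
      refine ⟨e.symm x, ?_, by simp⟩
      rw [Submodule.mem_inf, r2c1_mem_eig, r2c1_mem_eig, hγ] at hx
      have hx' : x = (a : Matrix (Fin n) (Fin n) F).mulVec (e.symm x) := by
        rw [← he]; simp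
      rw [hx'] at hx
      obtain ⟨h1, h2⟩ := r2c1_bwd g a b (ζ ^ s) (ζ ^ j.val) (ζ ^ (j - (s : ZMod r)).val)
        (c * ζ ^ i.val) hz hab' hga' hβ (e.symm x) hx.1 hx.2
      rw [Submodule.mem_inf, r2c1_mem_eig, r2c1_mem_eig]
      exact ⟨h1, h2⟩
  unfold dd
  rw [← hmap, LinearEquiv.finrank_map_eq]

end Cfsg.Agent.Lib.Helper81.Es
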