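import Mathlib
import Cfsg.Agent.Lib.Helper83.FpDefs

/-! # Fp hive (helper83, S2276): leaf FP-T5 `three_cycle_cert` (helper82)

`t` a 3-cycle on `T = {a,b,c} ⊂ Z_m`, `m` odd, `T` not a coset of the subgroup of order 3.  Among the
differences `a-b`, `b-c`, `c-a` one is different from the other two, say `j`; then `|T ∩ (T + j)| = 1`
and `t₂ = c^j t c^-j` (support `T + j`) together with `t` is the certificate. -/

set_option autoImplicit false

namespace Cfsg.Agent.Lib.Helper83.Fp

open Equiv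
open scoped Fin.CommRing

theorem fpt5_rot_pow (n k : ℕ) (x : Fin (n + 1)) :
    ((finRotate (n + 1)) ^ k) x = x + (k : Fin (n + 1)) := by
  induction k with
  | zero => simp
  | succ k ih =>
    rw [pow_succ', Perm.mul_apply, ih, finRotate_apply, Nat.cast_succ]
    ring

theorem fpt5_two_ne {n : ℕ} (hodd : Odd (n + 1)) (j : Fin (n + 1)) (h : j + j = 0) : j = 0 := by
  have h1 : (j + j).val = 0 := by rw [h]; rfl
  rw [Fin.val_add] at h1
  have hdvd : (n + 1) ∣ j.val + j.val := Nat.dvd_of_mod_eq_zero h1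
  have hcop : Nat.Coprime (n + 1) 2 := Nat.coprime_two_right.2 hodd
  have h2 : (n + 1) ∣ j.val := by
    have h3 : (n + 1) ∣ 2 * j.val := by rwa [two_mul]
    exact hcop.dvd_of_dvd_mul_left h3
  have h4 : j.val = 0 := Nat.eq_zero_of_dvd_of_lt h2 j.isLt
  exact Fin.ext h4

theorem fpt5_inter {n : ℕ} (hodd : Odd (n + 1)) (a b c : Fin (n + 1)) (hab : a ≠ b) (hbc : b ≠ c)
    (h2 : a - b ≠ b - c) (h3 : a - b ≠ c - a) :
    (({a, b, c} : Finset (Fin (n + 1))) ∩ {a + (a - b), b + (a - b), c + (a - b)}).card = 1 := by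
  have hj0 : a - b ≠ 0 := sub_ne_zero.2 hab
  have hjj : (a - b) + (a - b) ≠ 0 := fun h => hj0 (fpt5_two_ne hodd _ h)
  rw [Finset.card_eq_one]
  refine ⟨a, ?_⟩
  ext x
  simp only [Finset.mem_inter, Finset.mem_insert, Finset.mem_singleton]
  constructor
  · rintro ⟨hx1, hx2⟩
    rcases hx2 with rfl | rfl | rfl
    · exfalso
      rcases hx1 with h | h | h
      · apply hj0; linear_combination h
      · apply hjj; linear_combination h
      · apply h3; linear_combination h
    · ring
    · exfalso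
      rcases hx1 with h | h | h
      · apply hbc; linear_combination -h
      · apply h2; linear_combination h
      · apply hj0; linear_combination h
  · rintro rfl
    refine ⟨Or.inl rfl, Or.inr (Or.inl ?_)⟩
    ring

/-- FP-T5 -/
theorem three_cycle_cert : ThreeStmt := by
  intro m hodd H hc t ht h3 hNC
  obtain ⟨n, rfl⟩ : ∃ n, m = n + 1 := ⟨m - 1, by have := hodd.pos; omega⟩
  obtain ⟨a, b, c, hab, hac, hbc, hT⟩ := Finset.card_eq_three.1 h3.card_support
  have hconj : ∀ j : Fin (n + 1), ∃ t₂ ∈ H, t₂.IsThreeCycle ∧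
      t₂.support = {a + j, b + j, c + j} := by
    intro j
    refine ⟨(finRotate (n + 1)) ^ j.val * t * ((finRotate (n + 1)) ^ j.val)⁻¹, ?_, ?_, ?_⟩
    · exact H.mul_mem (H.mul_mem (H.pow_mem hc _) ht) (H.inv_mem (H.pow_mem hc _))
    · unfold Perm.IsThreeCycle
      rw [Perm.cycleType_conj]
      exact h3
    · rw [Perm.support_conj, hT]
      simp only [Finset.map_insert, Finset.map_singleton, Equiv.coe_toEmbedding, fpt5_rot_pow,
        Fin.cast_val_eq_self]
  have key : ¬ (a - b = b - c ∧ b - c = c - a) := by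
    rintro ⟨h12, h23⟩
    obtain ⟨x, hx, y, hy, hlt, hne1, hne2⟩ := hNC
    rw [hT] at hx hy
    have hP : ∀ z ∈ ({a, b, c} : Finset (Fin (n + 1))), (z - a) + (z - a) + (z - a) = 0 := by
      intro z hz
      simp only [Finset.mem_insert, Finset.mem_singleton] at hz
      rcases hz with hz | hz | hz
      · rw [hz]; ring
      · rw [hz]; linear_combination (-2 : Fin (n + 1)) * h12 - h23
      · rw [hz]; linear_combination -h12 - (2 : Fin (n + 1)) * h23
    have hz3 : (y - x) + (y - x) + (y - x) = 0 := by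
      have h1 := hP x hx
      have h2 := hP y hy
      linear_combination h2 - h1
    have hle : x ≤ y := Fin.le_def.2 hlt.le
    have hval : (y - x).val = y.val - x.val := Fin.coe_sub_iff_le.2 hle
    have h0 := congrArg Fin.val hz3
    simp only [Fin.val_add, Fin.val_zero, Nat.mod_add_mod] at h0
    rw [hval] at h0
    obtain ⟨k, hk⟩ := Nat.dvd_of_mod_eq_zero h0
    have hylt := y.isLt
    have hk3 : k < 3 := by
      by_contra hcon
      have : (n + 1) * 3 ≤ (n + 1) * k := Nat.mul_le_mul_left _ (by omega)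
      omega
    interval_cases k <;> omega
  have hTab : ({b, c, a} : Finset (Fin (n + 1))) = {a, b, c} := by
    ext z; simp only [Finset.mem_insert, Finset.mem_singleton]; tauto
  have hTca : ({c, a, b} : Finset (Fin (n + 1))) = {a, b, c} := by
    ext z; simp only [Finset.mem_insert, Finset.mem_singleton]; tauto
  by_cases h1 : a - b ≠ b - c ∧ a - b ≠ c - a
  · obtain ⟨t₂, ht₂, h3₂, hs₂⟩ := hconj (a - b)
    refine ⟨t, ht, t₂, ht₂, h3, h3₂, ?_⟩
    rw [hT, hs₂]
    exact fpt5_inter hodd a b c hab hbc h1.1 h1.2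
  by_cases h2 : b - c ≠ c - a ∧ b - c ≠ a - b
  · obtain ⟨t₂, ht₂, h3₂, hs₂⟩ := hconj (b - c)
    refine ⟨t, ht, t₂, ht₂, h3, h3₂, ?_⟩
    rw [hT, hs₂]
    have := fpt5_inter hodd b c a hbc (Ne.symm hac) h2.1 h2.2
    have hT' : ({a + (b - c), b + (b - c), c + (b - c)} : Finset (Fin (n + 1))) =
        {b + (b - c), c + (b - c), a + (b - c)} := by
      ext z; simp only [Finset.mem_insert, Finset.mem_singleton]; tauto
    rw [hT', ← hTab]
    exact this
  by_cases h3' : c - a ≠ a - b ∧ c - a ≠ b - c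
  · obtain ⟨t₂, ht₂, h3₂, hs₂⟩ := hconj (c - a)
    refine ⟨t, ht, t₂, ht₂, h3, h3₂, ?_⟩
    rw [hT, hs₂]
    have := fpt5_inter hodd c a b (Ne.symm hac) hab h3'.1 h3'.2
    have hT' : ({a + (c - a), b + (c - a), c + (c - a)} : Finset (Fin (n + 1))) =
        {c + (c - a), a + (c - a), b + (c - a)} := by
      ext z; simp only [Finset.mem_insert, Finset.mem_singleton]; tauto
    rw [hT', ← hTca]
    exact this
  exfalso
  apply key
  rw [not_and_or, not_not, not_not] at h1 h2 h3'
  rcases h1 with h1 | h1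
  · rcases h2 with h2 | h2
    · exact ⟨h1, h2⟩
    · rcases h3' with h | h
      · exact ⟨h1, by rw [← h1, h]⟩
      · exact ⟨h1, h.symm⟩
  · rcases h2 with h2 | h2
    · exact ⟨by rw [h1, h2], h2⟩
    · exact ⟨h2.symm, by rw [h2, h1]⟩

end Cfsg.Agent.Lib.Helper83.Fp
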