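import Mathlib

set_option autoImplicit false

/-!
# An arithmetic lemma on multiplicities

If `m` natural numbers `a j` have sum `e` and sum of squares at most `K`, where
`m * K + 1 = e ^ 2 + m`, then `m` divides `e - 1` or `e + 1`.
-/

namespace Cfsg.Agent.Lib.Helper82

theorem int_mul_pred_nonneg (t : ℤ) : 0 ≤ t * (t - 1) := by
  rcases le_or_gt t 0 with h | h
  · nlinarith
  · have : 1 ≤ t := h
    nlinarith

theorem frob_arith {ι : Type*} [Fintype ι] (a : ι → ℕ) (e K : ℕ)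
    (hm : 0 < Fintype.card ι)
    (hsum : ∑ j, a j = e)
    (hK : Fintype.card ι * K + 1 = e ^ 2 + Fintype.card ι)
    (hle : ∑ j, (a j) ^ 2 ≤ K) :
    ((Fintype.card ι : ℕ) : ℤ) ∣ (e : ℤ) - 1 ∨ ((Fintype.card ι : ℕ) : ℤ) ∣ (e : ℤ) + 1 := by
  set m : ℤ := ((Fintype.card ι : ℕ) : ℤ) with hmdef
  have hm0 : 0 < m := by rw [hmdef]; exact_mod_cast hm
  set b : ℤ := (e : ℤ) / m with hb
  set r : ℤ := (e : ℤ) % m with hr
  have her : (e : ℤ) = m * b + r := (Int.mul_ediv_add_emod (e : ℤ) m).symm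
  have hr0 : 0 ≤ r := Int.emod_nonneg _ hm0.ne'
  have hrm : r < m := Int.emod_lt_of_pos _ hm0
  have hS1 : ∑ j, (a j : ℤ) = (e : ℤ) := by exact_mod_cast hsum
  have hS2 : ∑ j, (a j : ℤ) ^ 2 ≤ (K : ℤ) := by exact_mod_cast hle
  have hK' : m * (K : ℤ) + 1 = (e : ℤ) ^ 2 + m := by rw [hmdef]; exact_mod_cast hK
  have hnn : 0 ≤ ∑ j, ((a j : ℤ) - b) * ((a j : ℤ) - b - 1) :=
    Finset.sum_nonneg (fun j _ => int_mul_pred_nonneg _)
  have hexp : ∑ j, ((a j : ℤ) - b) * ((a j : ℤ) - b - 1)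
      = ∑ j, (a j : ℤ) ^ 2 - (2 * b + 1) * ∑ j, (a j : ℤ) + m * (b ^ 2 + b) := by
    have h : ∀ j, ((a j : ℤ) - b) * ((a j : ℤ) - b - 1)
        = (a j : ℤ) ^ 2 - (2 * b + 1) * (a j : ℤ) + (b ^ 2 + b) := by
      intro j; ring
    rw [Finset.sum_congr rfl (fun j _ => h j), Finset.sum_add_distrib, Finset.sum_sub_distrib,
      ← Finset.mul_sum, Finset.sum_const, Finset.card_univ, nsmul_eq_mul]
  rw [hexp, hS1] at hnn
  -- (r - 1) * (r - m + 1) ≥ 0
  have hkey : 0 ≤ (r - 1) * (r - m + 1) := by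
    have h1 : (2 * b + 1) * (e : ℤ) - m * (b ^ 2 + b) ≤ (K : ℤ) := by linarith
    have h2 : m * ((2 * b + 1) * (e : ℤ) - m * (b ^ 2 + b)) ≤ m * (K : ℤ) :=
      mul_le_mul_of_nonneg_left h1 hm0.le
    have h3 : m * (K : ℤ) = (e : ℤ) ^ 2 + m - 1 := by linarith
    rw [h3, her] at h2
    nlinarith
  have hcases : r = 0 ∨ r = 1 ∨ r = m - 1 := by
    by_contra hcon
    rw [not_or, not_or] at hcon
    obtain ⟨h0, h1, h2⟩ := hcon
    have hr2 : 2 ≤ r := by
      rcases lt_or_ge r 2 with h | h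
      · exfalso
        have : r = 0 ∨ r = 1 := by omega
        rcases this with h' | h'
        · exact h0 h'
        · exact h1 h'
      · exact h
    have hr3 : r ≤ m - 2 := by
      have : r ≠ m - 1 := h2
      omega
    nlinarith
  rcases hcases with h | h | h
  · -- r = 0 : m ∣ e, hence m ∣ 1
    left
    have hme : m ∣ (e : ℤ) := ⟨b, by rw [her, h]; ring⟩
    have hm1 : m ∣ 1 := by
      have h4 : (1 : ℤ) = (e : ℤ) ^ 2 + m - m * (K : ℤ) := by linarith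
      rw [h4]
      exact dvd_sub (dvd_add (dvd_pow hme two_ne_zero) dvd_rfl) (dvd_mul_right _ _)
    exact dvd_trans hm1 (one_dvd _)
  · left
    exact ⟨b, by rw [her, h]; ring⟩
  · right
    exact ⟨b + 1, by rw [her, h]; ring⟩

end Cfsg.Agent.Lib.Helper82
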