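import Mathlib
import Cfsg.Agent.Lib.Helper82.FrobArith

set_option autoImplicit false

/-!
# The structure behind `frob_arith`

If `m` natural numbers `a j` have sum `e` and sum of squares `K` with `m * K + 1 = e ^ 2 + m`,
then all of them but one are equal to some `b`, and the exceptional one is `b ± 1`.
-/

namespace Cfsg.Agent.Lib.Helper82

theorem exists_unique_one {ι : Type*} [Fintype ι] [DecidableEq ι] (t : ι → ℤ)
    (h01 : ∀ j, t j = 0 ∨ t j = 1) (hs : ∑ j, t j = 1) :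
    ∃ j₀, t j₀ = 1 ∧ ∀ j, j ≠ j₀ → t j = 0 := by
  have hne : ∑ j, t j ≠ 0 := by rw [hs]; exact one_ne_zero
  obtain ⟨j₀, -, hj₀⟩ := Finset.exists_ne_zero_of_sum_ne_zero hne
  have h1 : t j₀ = 1 := by
    rcases h01 j₀ with h | h
    · exact absurd h hj₀
    · exact h
  refine ⟨j₀, h1, ?_⟩
  have h2 := Finset.add_sum_erase Finset.univ t (Finset.mem_univ j₀)
  rw [hs, h1] at h2
  have h3 : ∑ j ∈ Finset.univ.erase j₀, t j = 0 := by linarith
  have h4 := (Finset.sum_eq_zero_iff_of_nonneg (fun j _ => by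
    rcases h01 j with h | h <;> rw [h] <;> norm_num)).mp h3
  intro j hj
  exact h4 j (Finset.mem_erase.mpr ⟨hj, Finset.mem_univ j⟩)

theorem frob_arith_struct {ι : Type*} [Fintype ι] [DecidableEq ι] (a : ι → ℕ) (e K : ℕ)
    (hm : 0 < Fintype.card ι)
    (hsum : ∑ j, a j = e)
    (hK : Fintype.card ι * K + 1 = e ^ 2 + Fintype.card ι)
    (hsq : ∑ j, (a j) ^ 2 = K) :
    ∃ (j₀ : ι) (b : ℕ), (∀ j, j ≠ j₀ → a j = b) ∧ (a j₀ = b + 1 ∨ a j₀ + 1 = b) := by
  obtain ⟨m, hmdef⟩ : ∃ m : ℤ, m = ((Fintype.card ι : ℕ) : ℤ) := ⟨_, rfl⟩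
  have hm0 : 0 < m := by rw [hmdef]; exact_mod_cast hm
  obtain ⟨b, hb⟩ : ∃ b : ℤ, b = (e : ℤ) / m := ⟨_, rfl⟩
  obtain ⟨r, hr⟩ : ∃ r : ℤ, r = (e : ℤ) % m := ⟨_, rfl⟩
  have her : (e : ℤ) = m * b + r := by
    rw [hb, hr]
    exact (Int.mul_ediv_add_emod (e : ℤ) m).symm
  have hr0 : 0 ≤ r := by rw [hr]; exact Int.emod_nonneg _ hm0.ne'
  have hrm : r < m := by rw [hr]; exact Int.emod_lt_of_pos _ hm0
  have hb0 : 0 ≤ b := by
    rw [hb]
    exact Int.ediv_nonneg (Int.natCast_nonneg e) hm0.le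
  have hS1 : ∑ j, (a j : ℤ) = (e : ℤ) := by exact_mod_cast hsum
  have hS2 : ∑ j, (a j : ℤ) ^ 2 = (K : ℤ) := by exact_mod_cast hsq
  have hK' : m * (K : ℤ) + 1 = (e : ℤ) ^ 2 + m := by rw [hmdef]; exact_mod_cast hK
  have hterm : ∀ j, 0 ≤ ((a j : ℤ) - b) * ((a j : ℤ) - b - 1) :=
    fun j => int_mul_pred_nonneg _
  have hexp : ∑ j, ((a j : ℤ) - b) * ((a j : ℤ) - b - 1)
      = ∑ j, (a j : ℤ) ^ 2 - (2 * b + 1) * ∑ j, (a j : ℤ) + m * (b ^ 2 + b) := by
    have h : ∀ j, ((a j : ℤ) - b) * ((a j : ℤ) - b - 1)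
        = (a j : ℤ) ^ 2 - (2 * b + 1) * (a j : ℤ) + (b ^ 2 + b) := by
      intro j; ring
    rw [Finset.sum_congr rfl (fun j _ => h j), Finset.sum_add_distrib, Finset.sum_sub_distrib,
      ← Finset.mul_sum, Finset.sum_const, Finset.card_univ, nsmul_eq_mul, hmdef]
  rw [hS1, hS2] at hexp
  have hkey : m * ∑ j, ((a j : ℤ) - b) * ((a j : ℤ) - b - 1) = (r - 1) * (r - m + 1) := by
    rw [hexp]
    have h3 : m * (K : ℤ) = (e : ℤ) ^ 2 + m - 1 := by linarith
    have h4 : m * ((K : ℤ) - (2 * b + 1) * (e : ℤ) + m * (b ^ 2 + b))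
        = m * (K : ℤ) - m * (2 * b + 1) * (e : ℤ) + m * m * (b ^ 2 + b) := by ring
    rw [h4, h3, her]
    ring
  have hnn : 0 ≤ ∑ j, ((a j : ℤ) - b) * ((a j : ℤ) - b - 1) :=
    Finset.sum_nonneg (fun j _ => hterm j)
  -- the case `r = 0`
  by_cases hr00 : r = 0
  · have hme : m ∣ (e : ℤ) := ⟨b, by rw [her, hr00]; ring⟩
    have hm1 : m ∣ 1 := by
      have h4 : (1 : ℤ) = (e : ℤ) ^ 2 + m - m * (K : ℤ) := by linarith
      rw [h4]
      exact dvd_sub (dvd_add (dvd_pow hme two_ne_zero) dvd_rfl) (dvd_mul_right _ _)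
    have hm1' : m = 1 := by
      have := Int.le_of_dvd one_pos hm1
      omega
    have hcard : Fintype.card ι = 1 := by
      have : ((Fintype.card ι : ℕ) : ℤ) = 1 := by rw [← hmdef]; exact hm1'
      exact_mod_cast this
    obtain ⟨j₀, hj₀⟩ := Fintype.card_eq_one_iff.mp hcard
    exact ⟨j₀, a j₀ + 1, fun j hj => absurd (hj₀ j) hj, Or.inr rfl⟩
  · have hr1 : 1 ≤ r := by omega
    have hprod : (r - 1) * (r - m + 1) ≤ 0 := by
      have h1 : 0 ≤ r - 1 := by linarith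
      have h2 : r - m + 1 ≤ 0 := by linarith
      exact mul_nonpos_of_nonneg_of_nonpos h1 h2
    have hzero : ∑ j, ((a j : ℤ) - b) * ((a j : ℤ) - b - 1) = 0 := by
      have h1 : m * ∑ j, ((a j : ℤ) - b) * ((a j : ℤ) - b - 1) ≤ 0 := by rw [hkey]; exact hprod
      have h2 : ∑ j, ((a j : ℤ) - b) * ((a j : ℤ) - b - 1) ≤ 0 := by
        by_contra hcon
        rw [not_le] at hcon
        have := mul_pos hm0 hcon
        linarith
      exact le_antisymm h2 hnn
    have hcase : r = 1 ∨ r = m - 1 := by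
      have h1 : (r - 1) * (r - m + 1) = 0 := by rw [← hkey, hzero, mul_zero]
      rcases mul_eq_zero.mp h1 with h | h
      · left; linarith
      · right; linarith
    have h01 : ∀ j, (a j : ℤ) - b = 0 ∨ (a j : ℤ) - b = 1 := by
      intro j
      have h1 := (Finset.sum_eq_zero_iff_of_nonneg (fun j _ => hterm j)).mp hzero j
        (Finset.mem_univ j)
      rcases mul_eq_zero.mp h1 with h | h
      · left; exact h
      · right; linarith
    have hsumt : ∑ j, ((a j : ℤ) - b) = r := by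
      rw [Finset.sum_sub_distrib, hS1, Finset.sum_const, Finset.card_univ, nsmul_eq_mul, ← hmdef,
        her]
      ring
    rcases hcase with hc | hc
    · -- exactly one `a j` is `b + 1`
      rw [hc] at hsumt
      obtain ⟨j₀, hj₀, hrest⟩ := exists_unique_one (fun j => (a j : ℤ) - b) h01 hsumt
      refine ⟨j₀, b.toNat, ?_, Or.inl ?_⟩
      · intro j hj
        have h1 : (a j : ℤ) - b = 0 := hrest j hj
        have h2 : (a j : ℤ) = b := by linarith
        have h3 : ((b.toNat : ℕ) : ℤ) = b := Int.toNat_of_nonneg hb0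
        exact_mod_cast h2.trans h3.symm
      · have h1 : (a j₀ : ℤ) - b = 1 := hj₀
        have h3 : ((b.toNat : ℕ) : ℤ) = b := Int.toNat_of_nonneg hb0
        have h4 : (a j₀ : ℤ) = ((b.toNat : ℕ) : ℤ) + 1 := by rw [h3]; linarith
        exact_mod_cast h4
    · -- exactly one `a j` is `b`
      have h01' : ∀ j, (1 - ((a j : ℤ) - b)) = 0 ∨ (1 - ((a j : ℤ) - b)) = 1 := by
        intro j
        rcases h01 j with h | h
        · right; rw [h]; ring
        · left; rw [h]; ring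
      have hsumt' : ∑ j, (1 - ((a j : ℤ) - b)) = 1 := by
        rw [Finset.sum_sub_distrib, hsumt, Finset.sum_const, Finset.card_univ, nsmul_eq_mul,
          ← hmdef, hc]
        ring
      obtain ⟨j₀, hj₀, hrest⟩ := exists_unique_one (fun j => 1 - ((a j : ℤ) - b)) h01' hsumt'
      refine ⟨j₀, b.toNat + 1, ?_, Or.inr ?_⟩
      · intro j hj
        have h1 : 1 - ((a j : ℤ) - b) = 0 := hrest j hj
        have h3 : ((b.toNat : ℕ) : ℤ) = b := Int.toNat_of_nonneg hb0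
        have h4 : (a j : ℤ) = ((b.toNat : ℕ) : ℤ) + 1 := by rw [h3]; linarith
        exact_mod_cast h4
      · have h1 : 1 - ((a j₀ : ℤ) - b) = 1 := hj₀
        have h3 : ((b.toNat : ℕ) : ℤ) = b := Int.toNat_of_nonneg hb0
        have h4 : (a j₀ : ℤ) + 1 = ((b.toNat : ℕ) : ℤ) + 1 := by rw [h3]; linarith
        exact_mod_cast h4

end Cfsg.Agent.Lib.Helper82
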