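import Mathlib
import Cfsg.Prelude.Def_Characters
import Cfsg.Agent.Lib.Helper15.Gallagher
import Cfsg.Agent.Lib.Helper15.LinearChar
import Cfsg.Agent.Lib.Helper75.Twist
import Cfsg.Agent.Lib.Helper82.FrobArith

set_option autoImplicit false
set_option linter.style.haveILetI false
open Cfsg
open scoped ComplexConjugate

/-!
# A character of an abelian-by-`N` group over an extendible character

Let `N` be a normal subgroup of the finite group `M` with `M / N` abelian, `θh ∈ Irr(M)` with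
irreducible restriction to `N`, and `u` a character of `M` with `u_N = e θh_N` and
`∑ |u|² = (e² + |M : N| - 1) |N|`.  Then `|M : N|` divides `e - 1` or `e + 1`.
-/

namespace Cfsg.Agent.Lib.Helper82

section Core

variable {M : Type*} [Group M] [Fintype M]

theorem eq_zero_of_classInner_self {d : M → ℂ} (h : classInner d d = 0) : d = 0 := by
  unfold classInner at h
  have hM : (Nat.card M : ℂ) ≠ 0 := by
    have : 0 < Nat.card M := Nat.card_pos
    exact_mod_cast this.ne'
  have h1 : ∑ g : M, d g * conj (d g) = 0 := by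
    rcases mul_eq_zero.mp h with h' | h'
    · exact absurd (inv_eq_zero.mp h') hM
    · exact h'
  have h2 : ∑ g : M, Complex.normSq (d g) = 0 := by
    have : ((∑ g : M, Complex.normSq (d g) : ℝ) : ℂ) = 0 := by
      rw [← h1]
      push_cast
      refine Finset.sum_congr rfl (fun g _ => ?_)
      rw [Complex.mul_conj]
    exact_mod_cast this
  funext g
  have := (Finset.sum_eq_zero_iff_of_nonneg (fun g _ => Complex.normSq_nonneg (d g))).mp h2 g
    (Finset.mem_univ g)
  exact Complex.normSq_eq_zero.mp this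

variable (N : Subgroup M) [hNn : N.Normal] [Fintype N]

theorem frob_core (hcomm : ∀ a b : M ⧸ N, a * b = b * a)
    {θh : M → ℂ} (hθh : IsIrrCharacter M θh) (hθN : IsIrrCharacter N (fun n : N => θh n))
    {u : M → ℂ} (hu : IsCharacter M u) (e : ℕ)
    (huN : ∀ n : N, u n = (e : ℂ) * θh n)
    (hsum : ∑ y : M, u y * conj (u y)
      = ((e : ℂ) ^ 2 + (N.index : ℂ) - 1) * (Nat.card N : ℂ)) :
    ((N.index : ℕ) : ℤ) ∣ (e : ℤ) - 1 ∨ ((N.index : ℕ) : ℤ) ∣ (e : ℤ) + 1 := by
  classical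
  letI : CommGroup (M ⧸ N) := { (inferInstance : Group (M ⧸ N)) with mul_comm := hcomm }
  haveI : Fintype (M ⧸ N) := Fintype.ofFinite _
  let Lam : AddChar (Additive (M ⧸ N)) ℂ → M → ℂ :=
    fun ψ y => ψ (Additive.ofMul (y : M ⧸ N))
  have hLam_mul : ∀ ψ (y z : M), Lam ψ (y * z) = Lam ψ y * Lam ψ z := by
    intro ψ y z
    show ψ (Additive.ofMul ((y * z : M) : M ⧸ N)) = _
    rw [QuotientGroup.mk_mul, ofMul_mul, AddChar.map_add_eq_mul]
  have hLam_one : ∀ ψ, Lam ψ 1 = 1 := by
    intro ψ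
    show ψ (Additive.ofMul ((1 : M) : M ⧸ N)) = 1
    rw [QuotientGroup.mk_one, ofMul_one, AddChar.map_zero_eq_one]
  have hLam_char : ∀ ψ, IsCharacter M (Lam ψ) := by
    intro ψ
    exact (Cfsg.Agent.Lib.Helper15.isCharacter_of_hom
      ⟨⟨Lam ψ, hLam_one ψ⟩, hLam_mul ψ⟩).1
  have hLam_N : ∀ ψ (n : N) (g : M), Lam ψ ((n : M) * g) = Lam ψ g := by
    intro ψ n g
    rw [hLam_mul]
    have : Lam ψ (n : M) = 1 := by
      show ψ (Additive.ofMul (((n : M)) : M ⧸ N)) = 1
      rw [(QuotientGroup.eq_one_iff (n : M)).mpr n.2, ofMul_one, AddChar.map_zero_eq_one]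
    rw [this, one_mul]
  have hv_irr : ∀ ψ, IsIrrCharacter M (Lam ψ * θh) := by
    intro ψ
    rw [mul_comm]
    exact Cfsg.Agent.Lib.Helper75.isIrrCharacter_mul_of_linear (hLam_char ψ) (hLam_one ψ) hθh
  let J : AddChar (Additive (M ⧸ N)) ℂ → IrrCharacter M := fun ψ => ⟨Lam ψ * θh, hv_irr ψ⟩
  have hJ : Function.Injective J := by
    intro ψ₁ ψ₂ h
    have h1 : Lam ψ₁ * θh = Lam ψ₂ * θh := congrArg Subtype.val h
    have hd : ∀ (n : N) (g : M), (Lam ψ₁ - Lam ψ₂) ((n : M) * g) = (Lam ψ₁ - Lam ψ₂) g := by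
      intro n g
      simp only [Pi.sub_apply, hLam_N]
    have h2 := Cfsg.Agent.Lib.Helper15.classInner_mul_ext N hθh hθN (Lam ψ₁ - Lam ψ₂)
      (Lam ψ₁ - Lam ψ₂) hd hd
    have h3 : (Lam ψ₁ - Lam ψ₂) * θh = 0 := by rw [sub_mul, h1, sub_self]
    rw [h3] at h2
    have h4 : classInner (0 : M → ℂ) 0 = 0 := by
      unfold classInner
      simp
    rw [h4] at h2
    have h5 := eq_zero_of_classInner_self h2.symm
    have h6 : Lam ψ₁ = Lam ψ₂ := sub_eq_zero.mp h5
    apply DFunLike.ext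
    intro a
    obtain ⟨y, hy⟩ := QuotientGroup.mk_surjective (Additive.toMul a)
    have h7 := congrFun h6 y
    have h8 : Additive.ofMul ((y : M) : M ⧸ N) = a := by rw [hy]; rfl
    show ψ₁ a = ψ₂ a
    rw [← h8]
    exact h7
  haveI : Fintype (IrrCharacter M) := Fintype.ofFinite _
  obtain ⟨mu, hmu, hdec⟩ := Cfsg.Agent.Lib.Helper3.IsCharacter.exists_mult hu
  have hnorm : classInner u u = ((∑ ξ : IrrCharacter M, (mu ξ) ^ 2 : ℕ) : ℂ) := by
    conv_lhs => rw [hdec]
    rw [Cfsg.Agent.Lib.Helper3.classInner_sum_sum]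
    push_cast
    refine Finset.sum_congr rfl (fun ξ _ => ?_)
    rw [Complex.conj_natCast, sq]
  have hle : ∑ ψ : AddChar (Additive (M ⧸ N)) ℂ, (mu (J ψ)) ^ 2
      ≤ ∑ ξ : IrrCharacter M, (mu ξ) ^ 2 := by
    calc ∑ ψ : AddChar (Additive (M ⧸ N)) ℂ, (mu (J ψ)) ^ 2
        = ∑ ξ ∈ Finset.univ.image J, (mu ξ) ^ 2 :=
          (Finset.sum_image (f := fun ξ : IrrCharacter M => (mu ξ) ^ 2) (s := Finset.univ)
            (g := J) (fun _ _ _ _ h => hJ h)).symm
      _ ≤ ∑ ξ : IrrCharacter M, (mu ξ) ^ 2 :=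
          Finset.sum_le_sum_of_subset (Finset.subset_univ _)
  -- cardinalities
  have hcardA : Fintype.card (AddChar (Additive (M ⧸ N)) ℂ) = N.index := by
    rw [AddChar.card_eq, Subgroup.index_eq_card, Nat.card_eq_fintype_card]
    exact Fintype.card_congr Additive.toMul
  have hidx : N.index * Nat.card N = Nat.card M := Subgroup.index_mul_card N
  have hN0 : (Nat.card N : ℂ) ≠ 0 := by
    have : 0 < Nat.card N := Nat.card_pos
    exact_mod_cast this.ne'
  have hM0 : (Nat.card M : ℂ) ≠ 0 := by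
    have : 0 < Nat.card M := Nat.card_pos
    exact_mod_cast this.ne'
  have hidxC : (N.index : ℂ) * (Nat.card N : ℂ) = (Nat.card M : ℂ) := by exact_mod_cast hidx
  have hI0 : (N.index : ℂ) ≠ 0 := by
    intro h
    rw [h, zero_mul] at hidxC
    exact hM0 hidxC.symm
  -- sum of the characters of the quotient
  have hS : ∀ y : M, ∑ ψ : AddChar (Additive (M ⧸ N)) ℂ, conj (Lam ψ y)
      = if y ∈ N then (N.index : ℂ) else 0 := by
    intro y
    rw [← map_sum]
    have h1 := AddChar.sum_apply_eq_ite (Additive.ofMul ((y : M) : M ⧸ N))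
    have h2 : ∑ ψ : AddChar (Additive (M ⧸ N)) ℂ, Lam ψ y
        = ∑ ψ : AddChar (Additive (M ⧸ N)) ℂ, ψ (Additive.ofMul ((y : M) : M ⧸ N)) := rfl
    rw [h2, h1]
    have hiff : Additive.ofMul ((y : M) : M ⧸ N) = 0 ↔ y ∈ N := by
      rw [← QuotientGroup.eq_one_iff]
      exact Iff.rfl
    by_cases hy : y ∈ N
    · rw [if_pos hy, if_pos (hiff.mpr hy)]
      have : (Fintype.card (Additive (M ⧸ N)) : ℂ) = (N.index : ℂ) := by
        rw [← hcardA, AddChar.card_eq]
      rw [this, Complex.conj_natCast]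
    · rw [if_neg hy, if_neg (fun h => hy (hiff.mp h)), map_zero]
  -- norm of the restriction of `θh`
  have hθnorm : ∑ n : N, θh n * conj (θh n) = (Nat.card N : ℂ) := by
    have h1 := Cfsg.Agent.Lib.Helper3.classInner_irr hθN hθN
    rw [if_pos rfl] at h1
    unfold classInner at h1
    field_simp at h1
    exact h1
  -- the multiplicities add up to `e`
  have hsumA : ∑ ψ : AddChar (Additive (M ⧸ N)) ℂ, mu (J ψ) = e := by
    have hC : ((∑ ψ : AddChar (Additive (M ⧸ N)) ℂ, mu (J ψ) : ℕ) : ℂ) = (e : ℂ) := by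
      push_cast
      have h1 : ∀ ψ : AddChar (Additive (M ⧸ N)) ℂ, ((mu (J ψ) : ℕ) : ℂ)
          = (Nat.card M : ℂ)⁻¹ * ∑ y : M, (u y * conj (θh y)) * conj (Lam ψ y) := by
        intro ψ
        rw [← hmu (J ψ)]
        show classInner u (Lam ψ * θh) = _
        unfold classInner
        congr 1
        refine Finset.sum_congr rfl (fun y _ => ?_)
        simp only [Pi.mul_apply, map_mul]
        ring
      rw [Finset.sum_congr rfl (fun ψ _ => h1 ψ), ← Finset.mul_sum, Finset.sum_comm]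
      have h2 : ∀ y : M, ∑ ψ : AddChar (Additive (M ⧸ N)) ℂ, (u y * conj (θh y)) * conj (Lam ψ y)
          = if y ∈ N then (u y * conj (θh y)) * (N.index : ℂ) else 0 := by
        intro y
        rw [← Finset.mul_sum, hS y, mul_ite, mul_zero]
      rw [Finset.sum_congr rfl (fun y _ => h2 y), ← Finset.sum_filter]
      rw [Finset.sum_subtype (Finset.univ.filter (fun y : M => y ∈ N)) (p := fun y : M => y ∈ N)
        (by intro x; simp)]
      have h3 : ∀ n : N, (u (n : M) * conj (θh (n : M))) * (N.index : ℂ)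
          = ((e : ℂ) * (N.index : ℂ)) * (θh n * conj (θh n)) := by
        intro n
        rw [huN n]
        ring
      have h4 : ∑ n : {y : M // y ∈ N}, (u (n : M) * conj (θh (n : M))) * (N.index : ℂ)
          = ((e : ℂ) * (N.index : ℂ)) * (Nat.card N : ℂ) := by
        rw [← hθnorm, Finset.mul_sum]
        exact Finset.sum_congr rfl (fun n _ => h3 n)
      rw [h4, ← hidxC]
      field_simp
    exact_mod_cast hC
  -- the norm identity
  have hK : Fintype.card (AddChar (Additive (M ⧸ N)) ℂ) * (∑ ξ : IrrCharacter M, (mu ξ) ^ 2) + 1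
      = e ^ 2 + Fintype.card (AddChar (Additive (M ⧸ N)) ℂ) := by
    rw [hcardA]
    have h1 : classInner u u = (Nat.card M : ℂ)⁻¹ *
        (((e : ℂ) ^ 2 + (N.index : ℂ) - 1) * (Nat.card N : ℂ)) := by
      unfold classInner
      rw [hsum]
    rw [hnorm, ← hidxC] at h1
    have h2 : ((N.index : ℂ)) * ((∑ ξ : IrrCharacter M, (mu ξ) ^ 2 : ℕ) : ℂ) + 1
        = (e : ℂ) ^ 2 + (N.index : ℂ) := by
      rw [h1]
      field_simp
      ring
    exact_mod_cast h2
  have hm : 0 < Fintype.card (AddChar (Additive (M ⧸ N)) ℂ) := by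
    rw [hcardA]
    exact Nat.pos_of_ne_zero Subgroup.index_ne_zero_of_finite
  have := frob_arith (fun ψ : AddChar (Additive (M ⧸ N)) ℂ => mu (J ψ)) e
    (∑ ξ : IrrCharacter M, (mu ξ) ^ 2) hm hsumA hK hle
  rw [hcardA] at this
  exact this

end Core

end Cfsg.Agent.Lib.Helper82
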