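import Mathlib
import Cfsg.Prelude.Def_Characters
import Cfsg.Agent.Lib.Helper15.Gallagher
import Cfsg.Agent.Lib.Helper25.IndNormal
import Cfsg.Agent.Lib.Helper25.Ind
import Cfsg.Agent.Lib.Helper75.CliffordCorr
import Cfsg.Agent.Lib.Helper82.FrobCore

set_option autoImplicit false
set_option linter.style.haveILetI false
open Cfsg
open scoped ComplexConjugate

/-!
# Set-up for the fully ramified / Frobenius action divisibility theorem
-/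

namespace Cfsg.Agent.Lib.Helper82

open Cfsg.Agent.Lib.Helper25 Cfsg.Agent.Lib.Helper75

section Setup

variable {Γ : Type*} [Group Γ] (G N : Subgroup Γ) [hG : G.Normal] [hN : N.Normal]

/-- The function induced to `G` from an invariant function on the normal subgroup `N`,
evaluated on `N`. -/
theorem indFun_normal_apply [Fintype G] (θ : N → ℂ)
    (hinv : ∀ (x : Γ) (n : N), θ ⟨x * n * x⁻¹, hN.conj_mem n n.2 x⟩ = θ n)
    (n : N.subgroupOf G) :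
    indFun (N.subgroupOf G) (resSub N G θ) (n : G)
      = (Nat.card (N.subgroupOf G) : ℂ)⁻¹ * (Nat.card G : ℂ) * θ ⟨(n : G), n.2⟩ := by
  haveI : (N.subgroupOf G).Normal := hN.subgroupOf G
  rw [Cfsg.Agent.Lib.Helper25.indFun_restrict_normal]
  have h : ∀ x : G, conjOn (N.subgroupOf G) (resSub N G θ) x n = θ ⟨(n : G), n.2⟩ := by
    intro x
    have := hinv (x : Γ) ⟨(n : G), n.2⟩
    rw [← this]
    rfl
  rw [Finset.sum_congr rfl (fun x _ => h x), Finset.sum_const, Finset.card_univ, nsmul_eq_mul,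
    ← Nat.card_eq_fintype_card (α := ↥G), mul_assoc]

theorem extendByZero_resSub_conj (θ : N → ℂ)
    (hinv : ∀ (x : Γ) (n : N), θ ⟨x * n * x⁻¹, hN.conj_mem n n.2 x⟩ = θ n)
    (x : Γ) (z : G) :
    extendByZero (N.subgroupOf G) (resSub N G θ) ⟨x * z * x⁻¹, hG.conj_mem z z.2 x⟩
      = extendByZero (N.subgroupOf G) (resSub N G θ) z := by
  by_cases hz : z ∈ N.subgroupOf G
  · have hz' : (⟨x * z * x⁻¹, hG.conj_mem z z.2 x⟩ : G) ∈ N.subgroupOf G :=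
      hN.conj_mem _ hz x
    rw [extendByZero_of_mem _ _ hz, extendByZero_of_mem _ _ hz']
    exact hinv x ⟨(z : Γ), hz⟩
  · have hz' : (⟨x * z * x⁻¹, hG.conj_mem z z.2 x⟩ : G) ∉ N.subgroupOf G := by
      intro h
      apply hz
      have h1 : x * (z : Γ) * x⁻¹ ∈ N := h
      have h2 := hN.conj_mem _ h1 x⁻¹
      have h3 : x⁻¹ * (x * (z : Γ) * x⁻¹) * x⁻¹⁻¹ = z := by group
      rw [h3] at h2
      exact h2
    rw [extendByZero_of_not_mem _ _ hz, extendByZero_of_not_mem _ _ hz']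

/-- The function induced to `G` from an invariant function on `N` is invariant. -/
theorem indFun_normal_conj [Fintype G] (θ : N → ℂ)
    (hinv : ∀ (x : Γ) (n : N), θ ⟨x * n * x⁻¹, hN.conj_mem n n.2 x⟩ = θ n)
    (x : Γ) (g : G) :
    indFun (N.subgroupOf G) (resSub N G θ) ⟨x * g * x⁻¹, hG.conj_mem g g.2 x⟩
      = indFun (N.subgroupOf G) (resSub N G θ) g := by
  rw [indFun_apply, indFun_apply]
  congr 1
  apply Fintype.sum_equiv (MulAut.conjNormal x⁻¹ : G ≃* G).toEquiv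
  intro t
  have h := extendByZero_resSub_conj G N θ hinv x⁻¹
    (t⁻¹ * ⟨x * g * x⁻¹, hG.conj_mem g g.2 x⟩ * t)
  rw [← h]
  congr 1
  apply Subtype.ext
  simp only [MulEquiv.toEquiv_eq_coe, EquivLike.coe_coe, Subgroup.coe_mul, Subgroup.coe_inv,
    MulAut.conjNormal_apply, inv_inv]
  group

end Setup

section Tsum

variable {Γ : Type*} [Group Γ] (G N : Subgroup Γ) [hG : G.Normal] [hN : N.Normal]

/-- The sum of `|ψ|²` over the coset `N y`. -/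
noncomputable def cosetSq [Fintype N] (ψ : Γ → ℂ) (y : Γ) : ℂ :=
  ∑ n : N, ψ ((n : Γ) * y) * conj (ψ ((n : Γ) * y))

omit hN in
theorem cosetSq_mul_left [Fintype N] (ψ : Γ → ℂ) (n₀ : N) (y : Γ) :
    cosetSq N ψ ((n₀ : Γ) * y) = cosetSq N ψ y := by
  unfold cosetSq
  apply Fintype.sum_equiv (Equiv.mulRight n₀)
  intro n
  simp only [Equiv.coe_mulRight, Subgroup.coe_mul, mul_assoc]

theorem cosetSq_conj [Fintype N] {ψ : Γ → ℂ} (hψ : IsClassFunction Γ ψ) (g y : Γ) :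
    cosetSq N ψ (g * y * g⁻¹) = cosetSq N ψ y := by
  unfold cosetSq
  apply Fintype.sum_equiv (MulAut.conjNormal g⁻¹ : N ≃* N).toEquiv
  intro n
  have h1 : (n : Γ) * (g * y * g⁻¹) = g * ((g⁻¹ * (n : Γ) * g) * y) * g⁻¹ := by group
  rw [h1, hψ]
  simp only [MulEquiv.toEquiv_eq_coe, EquivLike.coe_coe, MulAut.conjNormal_apply, inv_inv]

/-- Under the Frobenius condition every element of `G` is, modulo `N`, a commutator
`g y g⁻¹ y⁻¹` with `g ∈ G`. -/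
theorem exists_comm_rep [Finite Γ]
    (hfrob : ∀ x : Γ, x ∉ G → ∀ g : Γ, g ∈ G → x * g * x⁻¹ * g⁻¹ ∈ N → g ∈ N)
    {y : Γ} (hy : y ∉ G) {h : Γ} (hh : h ∈ G) :
    ∃ g ∈ G, ∃ n ∈ N, h = n * (g * y * g⁻¹ * y⁻¹) := by
  classical
  set π := QuotientGroup.mk' N with hπ
  have hπs : Function.Surjective π := QuotientGroup.mk'_surjective N
  set K : Subgroup (Γ ⧸ N) := G.map π with hK
  haveI hKn : K.Normal := hG.map π hπs
  let f : K → K := fun k => ⟨(k : Γ ⧸ N) * π y * (k : Γ ⧸ N)⁻¹ * (π y)⁻¹, by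
    have h1 : π y * (k : Γ ⧸ N)⁻¹ * (π y)⁻¹ ∈ K := hKn.conj_mem _ (K.inv_mem k.2) (π y)
    have h2 := K.mul_mem k.2 h1
    have h3 : (k : Γ ⧸ N) * (π y * (k : Γ ⧸ N)⁻¹ * (π y)⁻¹)
        = (k : Γ ⧸ N) * π y * (k : Γ ⧸ N)⁻¹ * (π y)⁻¹ := by group
    rw [h3] at h2
    exact h2⟩
  have hinj : Function.Injective f := by
    intro k k' hkk
    have hEq : (k : Γ ⧸ N) * π y * (k : Γ ⧸ N)⁻¹ * (π y)⁻¹
        = (k' : Γ ⧸ N) * π y * (k' : Γ ⧸ N)⁻¹ * (π y)⁻¹ := congrArg Subtype.val hkk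
    have h1 : (k : Γ ⧸ N) * π y * (k : Γ ⧸ N)⁻¹ = (k' : Γ ⧸ N) * π y * (k' : Γ ⧸ N)⁻¹ :=
      mul_right_cancel hEq
    have h2 : ((k' : Γ ⧸ N)⁻¹ * (k : Γ ⧸ N)) * π y = π y * ((k' : Γ ⧸ N)⁻¹ * (k : Γ ⧸ N)) := by
      calc ((k' : Γ ⧸ N)⁻¹ * (k : Γ ⧸ N)) * π y
          = (k' : Γ ⧸ N)⁻¹ * ((k : Γ ⧸ N) * π y * (k : Γ ⧸ N)⁻¹) * (k : Γ ⧸ N) := by group
        _ = (k' : Γ ⧸ N)⁻¹ * ((k' : Γ ⧸ N) * π y * (k' : Γ ⧸ N)⁻¹) * (k : Γ ⧸ N) := by rw [h1]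
        _ = π y * ((k' : Γ ⧸ N)⁻¹ * (k : Γ ⧸ N)) := by group
    have ht : (k' : Γ ⧸ N)⁻¹ * (k : Γ ⧸ N) ∈ K := K.mul_mem (K.inv_mem k'.2) k.2
    obtain ⟨g₀, hg₀, hg₀t⟩ := Subgroup.mem_map.mp ht
    have h3 : π (y * g₀ * y⁻¹ * g₀⁻¹) = 1 := by
      rw [map_mul, map_mul, map_mul, map_inv, map_inv, hg₀t, ← h2]
      group
    have h4 : y * g₀ * y⁻¹ * g₀⁻¹ ∈ N := (QuotientGroup.eq_one_iff _).mp h3
    have h5 : g₀ ∈ N := hfrob y hy g₀ hg₀ h4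
    have h6 : (k' : Γ ⧸ N)⁻¹ * (k : Γ ⧸ N) = 1 := by
      rw [← hg₀t]
      exact (QuotientGroup.eq_one_iff _).mpr h5
    apply Subtype.ext
    have h7 := inv_mul_eq_one.mp h6
    exact h7.symm
  have hsurj : Function.Surjective f := Finite.injective_iff_surjective.mp hinj
  obtain ⟨k, hk⟩ := hsurj ⟨π h, Subgroup.mem_map_of_mem π hh⟩
  obtain ⟨g, hg, hgk⟩ := Subgroup.mem_map.mp k.2
  have hk' : (k : Γ ⧸ N) * π y * (k : Γ ⧸ N)⁻¹ * (π y)⁻¹ = π h := congrArg Subtype.val hk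
  refine ⟨g, hg, h * (g * y * g⁻¹ * y⁻¹)⁻¹, ?_, by group⟩
  apply (QuotientGroup.eq_one_iff _).mp
  show π (h * (g * y * g⁻¹ * y⁻¹)⁻¹) = 1
  rw [map_mul, map_inv, map_mul, map_mul, map_mul, map_inv, map_inv, hgk, hk']
  group

theorem cosetSq_mul_of_frob [Fintype N] [Finite Γ]
    (hfrob : ∀ x : Γ, x ∉ G → ∀ g : Γ, g ∈ G → x * g * x⁻¹ * g⁻¹ ∈ N → g ∈ N)
    {ψ : Γ → ℂ} (hψ : IsClassFunction Γ ψ) {y : Γ} (hy : y ∉ G) {h : Γ} (hh : h ∈ G) :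
    cosetSq N ψ (h * y) = cosetSq N ψ y := by
  obtain ⟨g, _, n, hn, heq⟩ := exists_comm_rep G N hfrob hy hh
  have h1 : h * y = ((⟨n, hn⟩ : N) : Γ) * (g * y * g⁻¹) := by
    rw [heq]
    group
  rw [h1, cosetSq_mul_left, cosetSq_conj N hψ]

theorem cosetSq_eq_card [Fintype Γ] [Fintype G] [Fintype N] (hNG : N ≤ G)
    (hfrob : ∀ x : Γ, x ∉ G → ∀ g : Γ, g ∈ G → x * g * x⁻¹ * g⁻¹ ∈ N → g ∈ N)
    {ψ : Γ → ℂ} (hψ : IsIrrCharacter Γ ψ) (hψG : IsIrrCharacter G (fun g : G => ψ g))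
    {y : Γ} (hy : y ∉ G) : cosetSq N ψ y = (Nat.card N : ℂ) := by
  have hcl : IsClassFunction Γ ψ :=
    Cfsg.Agent.Lib.Helper3.IsCharacter.isClassFunction
      (Cfsg.Agent.Lib.Helper3.IsIrrCharacter.isCharacter hψ)
  have h1 : ∑ h : G, cosetSq N ψ ((h : Γ) * y) = (Nat.card G : ℂ) * cosetSq N ψ y := by
    rw [Finset.sum_congr rfl (fun h _ => cosetSq_mul_of_frob G N hfrob hcl hy h.2),
      Finset.sum_const, Finset.card_univ, nsmul_eq_mul, Nat.card_eq_fintype_card]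
  have h2 : ∑ h : G, cosetSq N ψ ((h : Γ) * y) = (Nat.card N : ℂ) * (Nat.card G : ℂ) := by
    unfold cosetSq
    rw [Finset.sum_comm]
    have h3 : ∀ n : N, ∑ h : G, ψ ((n : Γ) * ((h : Γ) * y)) * conj (ψ ((n : Γ) * ((h : Γ) * y)))
        = (Nat.card G : ℂ) := by
      intro n
      rw [← Cfsg.Agent.Lib.Helper15.coset_sum_norm G hψ hψG y]
      apply Fintype.sum_equiv (Equiv.mulLeft (⟨(n : Γ), hNG n.2⟩ : G))
      intro h
      simp only [Equiv.coe_mulLeft, Subgroup.coe_mul, mul_assoc]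
    rw [Finset.sum_congr rfl (fun n _ => h3 n), Finset.sum_const, Finset.card_univ, nsmul_eq_mul]
    simp only [Nat.card_eq_fintype_card]
  have hG0 : (Nat.card G : ℂ) ≠ 0 := by
    have : 0 < Nat.card G := Nat.card_pos
    exact_mod_cast this.ne'
  have h4 : (Nat.card G : ℂ) * cosetSq N ψ y = (Nat.card G : ℂ) * (Nat.card N : ℂ) := by
    rw [← h1, h2, mul_comm]
  exact mul_left_cancel₀ hG0 h4

end Tsum

section Gen

variable {Γ : Type*} [Group Γ] (G N : Subgroup Γ) [hG : G.Normal] [hN : N.Normal]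

omit hG in
/-- Elements of `N ⟨x⟩` lying in `G` lie in `N`. -/
theorem mem_of_mem_sup_zpowers (hNG : N ≤ G)
    (hfrob : ∀ x : Γ, x ∉ G → ∀ g : Γ, g ∈ G → x * g * x⁻¹ * g⁻¹ ∈ N → g ∈ N)
    {x : Γ} (hx : x ∉ G) {y : Γ} (hyM : y ∈ N ⊔ Subgroup.zpowers x) (hyG : y ∈ G) : y ∈ N := by
  obtain ⟨n, hn, z, hz, rfl⟩ := Subgroup.mem_sup_of_normal_left.mp hyM
  obtain ⟨k, rfl⟩ := Subgroup.mem_zpowers_iff.mp hz
  have h1 : x ^ k ∈ G := (G.mul_mem_cancel_left (hNG hn)).mp hyG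
  have h2 : x * x ^ k * x⁻¹ * (x ^ k)⁻¹ ∈ N := by
    have : x * x ^ k * x⁻¹ * (x ^ k)⁻¹ = 1 := by group
    rw [this]
    exact N.one_mem
  exact N.mul_mem hn (hfrob x hx _ h1 h2)

omit hN in
theorem sup_zpowers_eq_top {x : Γ}
    (hgen : ∀ q : Γ ⧸ G, q ∈ Subgroup.zpowers ((x : Γ) : Γ ⧸ G)) :
    G ⊔ (N ⊔ Subgroup.zpowers x) = ⊤ := by
  rw [eq_top_iff]
  intro y _
  obtain ⟨k, hk⟩ := Subgroup.mem_zpowers_iff.mp (hgen (y : Γ ⧸ G))
  have h1 : ((x ^ k : Γ) : Γ ⧸ G) = (y : Γ ⧸ G) := by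
    rw [QuotientGroup.mk_zpow]
    exact hk
  have h2 : (x ^ k)⁻¹ * y ∈ G := QuotientGroup.eq.mp h1
  have h3 : y = (x ^ k)⁻¹ * y * ((x ^ k)⁻¹ * y)⁻¹ * y := by group
  have h4 : y = ((x ^ k)⁻¹ * y) * (y⁻¹ * x ^ k * y) := by group
  have h5 : y⁻¹ * x ^ k * y ∈ G ⊔ (N ⊔ Subgroup.zpowers x) := by
    have h6 : y = x ^ k * ((x ^ k)⁻¹ * y) := by group
    have h7 : x ^ k ∈ G ⊔ (N ⊔ Subgroup.zpowers x) :=
      (le_sup_right.trans le_sup_right : Subgroup.zpowers x ≤ _)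
        (Subgroup.zpow_mem_zpowers x k)
    have h8 : (x ^ k)⁻¹ * y ∈ G ⊔ (N ⊔ Subgroup.zpowers x) :=
      (le_sup_left : G ≤ _) h2
    have h9 : y ∈ G ⊔ (N ⊔ Subgroup.zpowers x) := by
      rw [h6]
      exact Subgroup.mul_mem _ h7 h8
    exact Subgroup.mul_mem _ (Subgroup.mul_mem _ (Subgroup.inv_mem _ h9) h7) h9
  rw [h4]
  exact Subgroup.mul_mem _ ((le_sup_left : G ≤ _) h2) h5

theorem index_subgroupOf_sup_zpowers (hNG : N ≤ G)
    (hfrob : ∀ x : Γ, x ∉ G → ∀ g : Γ, g ∈ G → x * g * x⁻¹ * g⁻¹ ∈ N → g ∈ N)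
    {x : Γ} (hx : x ∉ G)
    (hgen : ∀ q : Γ ⧸ G, q ∈ Subgroup.zpowers ((x : Γ) : Γ ⧸ G)) :
    (N.subgroupOf (N ⊔ Subgroup.zpowers x)).index = G.index := by
  have h1 : G ⊓ (N ⊔ Subgroup.zpowers x) = N := by
    apply le_antisymm
    · intro y hy
      exact mem_of_mem_sup_zpowers G N hNG hfrob hx hy.2 hy.1
    · exact le_inf hNG le_sup_left
  show N.relIndex (N ⊔ Subgroup.zpowers x) = G.index
  have h2 : N.relIndex (N ⊔ Subgroup.zpowers x)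
      = (G ⊓ (N ⊔ Subgroup.zpowers x)).relIndex (N ⊔ Subgroup.zpowers x) := by rw [h1]
  rw [h2, Subgroup.inf_relIndex_right, ← Subgroup.relIndex_sup_left, sup_zpowers_eq_top G N hgen,
    Subgroup.relIndex_top_right]

omit hG in
theorem isCyclic_quotient_sup_zpowers (x : Γ) :
    IsCyclic (↥(N ⊔ Subgroup.zpowers x) ⧸ N.subgroupOf (N ⊔ Subgroup.zpowers x)) := by
  haveI : (N.subgroupOf (N ⊔ Subgroup.zpowers x)).Normal := hN.subgroupOf _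
  let f : Subgroup.zpowers x →* (↥(N ⊔ Subgroup.zpowers x) ⧸ N.subgroupOf (N ⊔ Subgroup.zpowers x)) :=
    (QuotientGroup.mk' _).comp (Subgroup.inclusion le_sup_right)
  have hf : Function.Surjective f := by
    intro q
    obtain ⟨⟨y, hyM⟩, rfl⟩ := QuotientGroup.mk_surjective q
    obtain ⟨n, hn, z, hz, rfl⟩ := Subgroup.mem_sup_of_normal_left.mp hyM
    refine ⟨⟨z, hz⟩, ?_⟩
    show ((Subgroup.inclusion le_sup_right ⟨z, hz⟩ : ↥(N ⊔ Subgroup.zpowers x)) :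
      ↥(N ⊔ Subgroup.zpowers x) ⧸ N.subgroupOf (N ⊔ Subgroup.zpowers x)) = _
    rw [QuotientGroup.eq]
    show z⁻¹ * (n * z) ∈ N
    have := hN.conj_mem' n hn z
    rw [mul_assoc] at this
    exact this
  exact isCyclic_of_surjective f hf

end Gen

end Cfsg.Agent.Lib.Helper82
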