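import Mathlib
import Cfsg.Agent.Lib.Helper10.MinNormal
import Cfsg.Agent.Lib.Helper15.PrimSolv

/-!
# Permutation-group part of Ito's theorem on solvable linear groups

* `Good p n`: `n` is divisible by a prime power `q` with `q ≡ -1, 0, 1 (mod p)`.
* `exists_pow_modEq_one`: a `p`-group acting nontrivially on an `r`-group (`r ≠ p`) by
  automorphisms gives a power of `r` congruent to `1` modulo `p`.
* `primitive_good`: a solvable group with a core-free maximal subgroup `H` whose order is divisible
  by `p` has `|G : H|` divisible by a prime power `≡ 0, 1 (mod p)`.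
* `good_index`: the same for an arbitrary subgroup `T` whose core does not contain some
  `p`-subgroup.
-/

set_option autoImplicit false
set_option linter.unusedSectionVars false
set_option linter.style.haveILetI false

namespace Cfsg.Agent.Lib.Helper82.Ito

universe u

/-- `n` is divisible by a prime power congruent to `-1`, `0` or `1` modulo `p`. -/
def Good (p n : ℕ) : Prop :=
  ∃ q : ℕ, IsPrimePow q ∧ q ∣ n ∧
    ((q : ℤ) ≡ -1 [ZMOD p] ∨ (q : ℤ) ≡ 0 [ZMOD p] ∨ (q : ℤ) ≡ 1 [ZMOD p])

theorem Good.mono {p n m : ℕ} (h : Good p n) (hnm : n ∣ m) : Good p m := by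
  obtain ⟨q, hq, hqn, hc⟩ := h
  exact ⟨q, hq, hqn.trans hnm, hc⟩

/-- the restricted form: congruent to `0` or `1`. -/
def Good01 (p n : ℕ) : Prop :=
  ∃ q : ℕ, IsPrimePow q ∧ q ∣ n ∧ ((q : ℤ) ≡ 0 [ZMOD p] ∨ (q : ℤ) ≡ 1 [ZMOD p])

theorem Good01.good {p n : ℕ} (h : Good01 p n) : Good p n := by
  obtain ⟨q, hq, hqn, hc⟩ := h
  exact ⟨q, hq, hqn, Or.inr hc⟩

theorem Good01.mono {p n m : ℕ} (h : Good01 p n) (hnm : n ∣ m) : Good01 p m := by
  obtain ⟨q, hq, hqn, hc⟩ := h
  exact ⟨q, hq, hqn.trans hnm, hc⟩

/-- A `p`-group acting nontrivially by automorphisms on an `r`-group, `r ≠ p`: some power of `r`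
dividing the order is congruent to `1` modulo `p`. -/
theorem exists_pow_modEq_one {P V : Type*} [Group P] [Group V] [Finite P] [Finite V] {p r : ℕ}
    [hp : Fact p.Prime] [hr : Fact r.Prime] (hpr : p ≠ r) (hP : IsPGroup p P)
    (hV : IsPGroup r V) (κ : P →* MulAut V) (hnt : ∃ (g : P) (v : V), κ g v ≠ v) :
    ∃ q : ℕ, IsPrimePow q ∧ q ∣ Nat.card V ∧ (q : ℤ) ≡ 1 [ZMOD p] := by
  classical
  letI : MulAction P V := MulAction.compHom V κ
  have hsmul : ∀ (g : P) (x : V), g • x = κ g x := fun _ _ => rfl
  let F : Subgroup V :=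
    { carrier := {v | ∀ g : P, κ g v = v}
      one_mem' := fun g => map_one _
      mul_mem' := by
        intro a b ha hb g
        rw [map_mul, ha g, hb g]
      inv_mem' := by
        intro a ha g
        rw [map_inv, ha g] }
  have hFmem : ∀ v : V, v ∈ F ↔ ∀ g : P, κ g v = v := fun v => Iff.rfl
  have hFfix : Nat.card (MulAction.fixedPoints P V) = Nat.card F := by
    apply Nat.card_congr
    exact Equiv.subtypeEquivRight (fun v => by
      rw [MulAction.mem_fixedPoints, hFmem]
      exact ⟨fun h g => (hsmul g v) ▸ h g, fun h g => (hsmul g v).symm ▸ h g⟩)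
  have h1 := hP.card_modEq_card_fixedPoints (α := V)
  rw [hFfix] at h1
  obtain ⟨b, hb⟩ := IsPGroup.iff_card.1 hV
  obtain ⟨c, hc⟩ := IsPGroup.iff_card.1 (hV.to_subgroup F)
  rw [hb, hc] at h1
  have hFne : F ≠ ⊤ := by
    intro h
    obtain ⟨g, v, hgv⟩ := hnt
    apply hgv
    have : v ∈ F := h ▸ Subgroup.mem_top v
    exact this g
  have hlt : Nat.card F < Nat.card V := by
    apply lt_of_le_of_ne (Subgroup.card_le_card_group F)
    intro h
    exact hFne ((Subgroup.card_eq_iff_eq_top F).1 h)
  rw [hb, hc] at hlt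
  have hcb : c < b := (Nat.pow_lt_pow_iff_right hr.out.one_lt).1 hlt
  have hle : r ^ c ≤ r ^ b := hlt.le
  have hdvd : p ∣ r ^ b - r ^ c := (Nat.modEq_iff_dvd' hle).1 h1.symm
  have hfac : r ^ b - r ^ c = r ^ c * (r ^ (b - c) - 1) := by
    have : r ^ b = r ^ c * r ^ (b - c) := by
      rw [← pow_add]
      congr 1
      omega
    rw [this, Nat.mul_sub, mul_one]
  rw [hfac] at hdvd
  have hcop : Nat.Coprime p (r ^ c) := by
    apply Nat.Coprime.pow_right
    exact (Nat.coprime_primes hp.out hr.out).2 hpr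
  have hdvd2 : p ∣ r ^ (b - c) - 1 := hcop.dvd_of_dvd_mul_left hdvd
  have hpos : 1 ≤ r ^ (b - c) := Nat.one_le_pow _ _ hr.out.pos
  refine ⟨r ^ (b - c), ?_, ?_, ?_⟩
  · exact ⟨r, b - c, hr.out.prime, by omega, rfl⟩
  · rw [hb]
    exact pow_dvd_pow r (Nat.sub_le b c)
  · rw [Int.modEq_iff_dvd]
    have h2 : ((p : ℕ) : ℤ) ∣ ((r ^ (b - c) - 1 : ℕ) : ℤ) := Int.natCast_dvd_natCast.2 hdvd2
    rw [Nat.cast_sub hpos] at h2
    have h3 : (1 : ℤ) - ((r ^ (b - c) : ℕ) : ℤ) = -(((r ^ (b - c) : ℕ) : ℤ) - ((1 : ℕ) : ℤ)) := by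
      push_cast
      ring
    rw [h3]
    exact (dvd_neg).2 h2


/-- A solvable group with a core-free maximal subgroup `H`: for every prime `p` dividing the group
order, the index of `H` is divisible by a prime power congruent to `0` or `1` modulo `p`. -/
theorem primitive_good {Q : Type*} [Group Q] [Finite Q] [Group.IsSolvable Q] (H : Subgroup Q)
    (hmax : IsCoatom H) (hcore : H.normalCore = ⊥) {p : ℕ} [hp : Fact p.Prime]
    (hpQ : p ∣ Nat.card Q) : Good01 p H.index := by
  classical
  haveI : Nontrivial Q := by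
    by_contra hnt
    rw [not_nontrivial_iff_subsingleton] at hnt
    exact hmax.1 (Subsingleton.elim _ _)
  obtain ⟨r, V, hr, hVn, hVne, hVp, hVc, -, -⟩ :=
    Cfsg.Agent.Lib.Helper10.exists_min_normal_pgroup_of_solvable (G := Q)
  haveI := hVn
  haveI : Fact r.Prime := ⟨hr⟩
  have hVH : ¬ V ≤ H := by
    intro h
    have : V ≤ H.normalCore := Subgroup.normal_le_normalCore.2 h
    rw [hcore] at this
    exact hVne (le_bot_iff.1 this)
  have hsup : V ⊔ H = ⊤ := by
    apply hmax.2
    exact lt_of_le_of_ne le_sup_right (fun h => hVH (h ▸ le_sup_left))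
  have hinf : V ⊓ H = ⊥ := by
    haveI : (V ⊓ H).Normal :=
      Cfsg.Agent.Lib.Helper10.inf_normal_of_abelian_normal_sup_eq_top V H hVc (sup_comm V H ▸ hsup)
    have : V ⊓ H ≤ H.normalCore := Subgroup.normal_le_normalCore.2 inf_le_right
    rw [hcore] at this
    exact le_bot_iff.1 this
  have hcent : ∀ c ∈ H, (∀ v ∈ V, v * c = c * v) → c = 1 := by
    intro c hcH hcV
    set C : Subgroup Q := H ⊓ Subgroup.centralizer (V : Set Q) with hC
    have hCn : C.Normal := by
      apply Cfsg.Agent.Lib.Helper15.normal_of_le_of_centralized V H C hsup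
      · intro h hh c' hc'
        obtain ⟨h1, h2⟩ := Subgroup.mem_inf.1 hc'
        refine Subgroup.mem_inf.2 ⟨H.mul_mem (H.mul_mem hh h1) (H.inv_mem hh), ?_⟩
        rw [Subgroup.mem_centralizer_iff] at h2 ⊢
        intro v hv
        have hv' : h⁻¹ * v * h ∈ V := by
          have := hVn.conj_mem v hv h⁻¹
          simpa using this
        have := h2 _ hv'
        calc v * (h * c' * h⁻¹) = h * ((h⁻¹ * v * h) * c') * h⁻¹ := by group
          _ = h * (c' * (h⁻¹ * v * h)) * h⁻¹ := by rw [this]
          _ = h * c' * h⁻¹ * v := by group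
      · intro v hv c' hc'
        have h2 := (Subgroup.mem_inf.1 hc').2
        rw [Subgroup.mem_centralizer_iff] at h2
        exact h2 v hv
    haveI := hCn
    have hCle : C ≤ H.normalCore := Subgroup.normal_le_normalCore.2 inf_le_left
    rw [hcore] at hCle
    have hcC : c ∈ C := by
      refine Subgroup.mem_inf.2 ⟨hcH, ?_⟩
      rw [Subgroup.mem_centralizer_iff]
      exact hcV
    exact Subgroup.mem_bot.1 (hCle hcC)
  -- `V` is a complement of `H`
  have hcompl : Subgroup.IsComplement' V H := by
    apply Subgroup.isComplement'_of_disjoint_and_mul_eq_univ (disjoint_iff.2 hinf)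
    rw [← Subgroup.normal_mul, hsup]
    rfl
  have hidx : H.index = Nat.card V := hcompl.index_eq_card
  have hcard : Nat.card V * Nat.card H = Nat.card Q := hcompl.card_mul_card
  obtain ⟨b, hb⟩ := IsPGroup.iff_card.1 hVp
  have hb0 : b ≠ 0 := by
    intro h0
    rw [h0, pow_zero] at hb
    exact hVne ((Subgroup.card_eq_one).1 hb)
  by_cases hpr : p = r
  · refine ⟨r ^ b, ⟨r, b, hr.prime, Nat.pos_of_ne_zero hb0, rfl⟩, by rw [hidx, hb], Or.inl ?_⟩
    rw [Int.modEq_zero_iff_dvd, hpr]
    push_cast
    exact dvd_pow_self _ hb0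
  · -- `p ≠ r`
    have hpH : p ∣ Nat.card H := by
      rw [← hcard, hb] at hpQ
      have hcop : Nat.Coprime p (r ^ b) := by
        apply Nat.Coprime.pow_right
        exact (Nat.coprime_primes hp.out hr).2 hpr
      exact hcop.dvd_of_dvd_mul_left hpQ
    obtain ⟨x, hx⟩ := exists_prime_orderOf_dvd_card' p hpH
    set P₀ : Subgroup Q := Subgroup.zpowers (x : Q) with hP₀
    have hxo : orderOf (x : Q) = p := by
      rw [Subgroup.orderOf_coe, hx]
    have hP₀p : IsPGroup p P₀ := by
      apply IsPGroup.of_card (n := 1)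
      rw [pow_one, hP₀, Nat.card_zpowers, hxo]
    let κ : P₀ →* MulAut V := (MulAut.conjNormal (H := V)).comp P₀.subtype
    have hκ : ∀ (g : P₀) (v : V), ((κ g v : V) : Q) = (g : Q) * v * (g : Q)⁻¹ := fun g v =>
      MulAut.conjNormal_apply (g : Q) v
    have hnt : ∃ (g : P₀) (v : V), κ g v ≠ v := by
      by_contra hcon
      push Not at hcon
      have hx1 : (x : Q) = 1 := by
        apply hcent (x : Q) x.2
        intro v hv
        have h1 := congrArg Subtype.val (hcon ⟨(x : Q), Subgroup.mem_zpowers _⟩ ⟨v, hv⟩)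
        rw [hκ] at h1
        change (x : Q) * v * (x : Q)⁻¹ = v at h1
        calc v * (x : Q) = ((x : Q) * v * (x : Q)⁻¹) * (x : Q) := by rw [h1]
          _ = (x : Q) * v := by group
      rw [hx1, orderOf_one] at hxo
      exact hp.out.one_lt.ne hxo
    obtain ⟨q, hq, hqV, hq1⟩ := exists_pow_modEq_one hpr hP₀p hVp κ hnt
    exact ⟨q, hq, hidx ▸ hqV, Or.inr hq1⟩


/-- The previous lemma without the core-free hypothesis: a maximal subgroup whose core does not
contain some `p`-subgroup. -/
theorem coatom_good {G : Type*} [Group G] [Finite G] [Group.IsSolvable G] (H : Subgroup G)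
    (hmax : IsCoatom H) {p : ℕ} [hp : Fact p.Prime] (P : Subgroup G) (hP : IsPGroup p P)
    (hPH : ¬ P ≤ H.normalCore) : Good01 p H.index := by
  classical
  set N : Subgroup G := H.normalCore with hN
  haveI : N.Normal := Subgroup.normalCore_normal H
  set f : G →* G ⧸ N := QuotientGroup.mk' N with hfdef
  have hf : Function.Surjective f := QuotientGroup.mk'_surjective N
  have hker : f.ker = N := QuotientGroup.ker_mk' N
  have hNH : N ≤ H := Subgroup.normalCore_le H
  set Hb : Subgroup (G ⧸ N) := H.map f with hHb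
  have hcomap : Hb.comap f = H := by
    rw [hHb, Subgroup.comap_map_eq, hker, sup_eq_left.2 hNH]
  have hmaxb : IsCoatom Hb := by
    constructor
    · intro h
      have h1 : Hb.comap f = ⊤ := by
        rw [h]
        exact Subgroup.comap_top f
      rw [hcomap] at h1
      exact hmax.1 h1
    · intro K hK
      have h1 : H < K.comap f := by
        rw [← hcomap]
        exact (Subgroup.comap_lt_comap_of_surjective hf).2 hK
      have h2 := hmax.2 _ h1
      rw [← Subgroup.map_comap_eq_self_of_surjective hf K, h2, ← MonoidHom.range_eq_map,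
        MonoidHom.range_eq_top.2 hf]
  have hcoreb : Hb.normalCore = ⊥ := by
    haveI : (Hb.normalCore).Normal := Subgroup.normalCore_normal Hb
    haveI : ((Hb.normalCore).comap f).Normal := Subgroup.Normal.comap inferInstance f
    have h1 : (Hb.normalCore).comap f ≤ N := by
      apply Subgroup.normal_le_normalCore.2
      rw [← hcomap]
      exact Subgroup.comap_mono (Subgroup.normalCore_le Hb)
    rw [eq_bot_iff, ← Subgroup.map_comap_eq_self_of_surjective hf Hb.normalCore]
    refine (Subgroup.map_mono h1).trans ?_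
    rw [le_bot_iff, Subgroup.map_eq_bot_iff, hker]
  have hidx : Hb.index = H.index := Subgroup.index_map_eq H hf (by rw [hker]; exact hNH)
  have hpQ : p ∣ Nat.card (G ⧸ N) := by
    obtain ⟨y, hyP, hyN⟩ := SetLike.not_le_iff_exists.1 hPH
    obtain ⟨k, hk⟩ := hP ⟨y, hyP⟩
    have hk' : y ^ p ^ k = 1 := by
      have := congrArg Subtype.val hk
      simpa using this
    have hfy : f y ≠ 1 := by
      intro h
      apply hyN
      rw [← hker]
      exact h
    have h1 : (f y) ^ p ^ k = 1 := by
      rw [← map_pow, hk', map_one]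
    obtain ⟨j, _, hj⟩ := (Nat.dvd_prime_pow hp.out).1 (orderOf_dvd_of_pow_eq_one h1)
    have hj0 : j ≠ 0 := by
      intro h0
      rw [h0, pow_zero, orderOf_eq_one_iff] at hj
      exact hfy hj
    have h2 : p ∣ orderOf (f y) := by
      rw [hj]
      exact dvd_pow_self p hj0
    exact h2.trans (orderOf_dvd_natCard (f y))
  have := primitive_good Hb hmaxb hcoreb hpQ
  rw [hidx] at this
  exact this

/-- A subgroup `T` of a solvable group whose core does not contain some `p`-subgroup has index
divisible by a prime power congruent to `0` or `1` modulo `p`. -/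
theorem good_index_aux (p : ℕ) [hp : Fact p.Prime] : ∀ (k : ℕ) (G : Type u) [Group G] [Finite G],
    Nat.card G = k → Group.IsSolvable G → ∀ (T P : Subgroup G), IsPGroup p P →
    ¬ P ≤ T.normalCore → Good01 p T.index := by
  intro k
  induction k using Nat.strong_induction_on with
  | _ k ih =>
  intro G _ _ hcard hsolv T P hP hPT
  classical
  have hTtop : T ≠ ⊤ := by
    intro h
    apply hPT
    rw [h]
    intro x _
    intro b
    exact Subgroup.mem_top _
  obtain ⟨H, hHmax, hTH⟩ := (eq_top_or_exists_le_coatom T).resolve_left hTtop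
  by_cases hPH : P ≤ H.normalCore
  · -- descend to `H`
    have hex : ∃ g : G, ∃ y ∈ P, g * y * g⁻¹ ∉ T := by
      by_contra hcon
      push Not at hcon
      apply hPT
      intro y hy b
      exact hcon b y hy
    obtain ⟨g, y, hy, hgy⟩ := hex
    haveI : (H.normalCore).Normal := Subgroup.normalCore_normal H
    set P' : Subgroup G := P.map (MulAut.conj g).toMonoidHom with hP'
    have hP'p : IsPGroup p P' := hP.map _
    have hP'H : P' ≤ H := by
      rintro _ ⟨z, hz, rfl⟩
      apply Subgroup.normalCore_le H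
      have := (Subgroup.normalCore_normal H).conj_mem z (hPH hz) g
      simpa using this
    have hlt : Nat.card H < k := by
      rw [← hcard]
      exact lt_of_le_of_ne (Subgroup.card_le_card_group H)
        (fun h => hHmax.1 ((Subgroup.card_eq_iff_eq_top H).1 h))
    have hP''p : IsPGroup p (P'.subgroupOf H) := hP'p.comap_subtype
    have hnot : ¬ P'.subgroupOf H ≤ (T.subgroupOf H).normalCore := by
      intro hle
      have hmem : (⟨g * y * g⁻¹, hP'H ⟨y, hy, by simp⟩⟩ : H) ∈ P'.subgroupOf H := by
        rw [Subgroup.mem_subgroupOf]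
        exact ⟨y, hy, by simp⟩
      have := Subgroup.normalCore_le _ (hle hmem)
      rw [Subgroup.mem_subgroupOf] at this
      exact hgy this
    have key := ih (Nat.card H) hlt H rfl inferInstance (T.subgroupOf H) (P'.subgroupOf H) hP''p hnot
    have h1 : T.relIndex H * H.index = T.index := Subgroup.relIndex_mul_index hTH
    have h2 : (T.subgroupOf H).index = T.relIndex H := rfl
    rw [h2] at key
    exact key.mono (h1 ▸ Dvd.intro _ rfl)
  · haveI := hsolv
    have h1 := coatom_good H hHmax P hP hPH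
    exact h1.mono (Subgroup.index_dvd_of_le hTH)

theorem good_index {G : Type u} [Group G] [Finite G] [hsolv : Group.IsSolvable G] {p : ℕ}
    [hp : Fact p.Prime] (T P : Subgroup G) (hP : IsPGroup p P) (hPT : ¬ P ≤ T.normalCore) :
    Good01 p T.index :=
  good_index_aux p (Nat.card G) G rfl hsolv T P hP hPT

end Cfsg.Agent.Lib.Helper82.Ito
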