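import Mathlib
import Cfsg.Prelude.Def_Characters
import Cfsg.Prelude.Def_Blocks
import Cfsg.Agent.Lib.Helper79.IW3
import Cfsg.Agent.Lib.Helper76.CentralChar
import Cfsg.Agent.Lib.Helper82.ItoPerm

/-!
# Character-theoretic part of Ito's theorem: class-two subgroups

`class_two_degree`: let `χ` be a faithful irreducible character of `G`, `Q₁` an `r`-subgroup with
`[Q₁, Q₁] ≤ Z(G)`, `Z(Q₁) ≤ Z(G)`, nonabelian, normalised by a `p`-subgroup `P₀` (`p ≠ r`) with
`C_{Q₁}(P₀) ≤ Z(Q₁)`.  Then `χ(1)` is divisible by a power `d > 1` of `r` with `p ∣ d² - 1`.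
-/

set_option autoImplicit false
set_option linter.unusedSectionVars false
set_option linter.style.haveILetI false

namespace Cfsg.Agent.Lib.Helper82.Ito

open Cfsg Subgroup
open scoped ComplexConjugate

universe u

/-- An irreducible character vanishes at `x` if some commutator `[y, x]` is central and not in the
kernel. -/
theorem irr_eq_zero_of_central_commutator {H : Type*} [Group H] (ψ : IrrCharacter H) (x y : H)
    (hc : y * x * y⁻¹ * x⁻¹ ∈ center H)
    (hne : (ψ : H → ℂ) (y * x * y⁻¹ * x⁻¹) ≠ (ψ : H → ℂ) 1) : (ψ : H → ℂ) x = 0 := by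
  set c := y * x * y⁻¹ * x⁻¹ with hcdef
  have h1 := Cfsg.Agent.Lib.Helper76.irr_mul_central ψ c hc x
  have hcf : IsClassFunction H (ψ : H → ℂ) :=
    Cfsg.Agent.Lib.Helper3.IsCharacter.isClassFunction
      (Cfsg.Agent.Lib.Helper3.IsIrrCharacter.isCharacter ψ.2)
  have h2 : x * c = y * x * y⁻¹ := by
    have : x * c = c * x := (mem_center_iff.1 hc x)
    rw [this, hcdef]
    group
  rw [h2, hcf x y] at h1
  by_contra hx
  apply hne
  have h3 : (ψ : H → ℂ) c / (ψ : H → ℂ) 1 = 1 := by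
    have h4 : (1 : ℂ) * (ψ : H → ℂ) x = (ψ : H → ℂ) c / (ψ : H → ℂ) 1 * (ψ : H → ℂ) x := by
      rw [one_mul]
      exact h1
    exact (mul_right_cancel₀ hx h4).symm
  have h5 : (ψ : H → ℂ) 1 ≠ 0 := Cfsg.Agent.Lib.Helper79.irr_one_ne_zero ψ
  rw [div_eq_one_iff_eq h5] at h3
  exact h3


open Cfsg.Agent.Lib.Helper76 in
/-- A central element acts by the same scalar on `χ` and on every constituent of a restriction
of `χ`. -/
theorem om_eq_of_constituent {G : Type u} [Group G] [Fintype G] (L : Subgroup G)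
    [Fintype L] (χ : IrrCharacter G) (ξ : IrrCharacter L) (z : G)
    (hz : z ∈ Subgroup.center G) (hzL : z ∈ L)
    (hne : classInner (fun h : L => (χ : G → ℂ) h) (ξ : L → ℂ) ≠ 0) :
    (ξ : L → ℂ) ⟨z, hzL⟩ / (ξ : L → ℂ) 1 = (χ : G → ℂ) z / (χ : G → ℂ) 1 := by
  have hz' : (⟨z, hzL⟩ : L) ∈ Subgroup.center L := by
    rw [Subgroup.mem_center_iff]
    intro l
    apply Subtype.ext
    exact Subgroup.mem_center_iff.1 hz l
  set S : ℂ := ∑ h : L, (χ : G → ℂ) h * conj ((ξ : L → ℂ) h) with hS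
  have hS0 : S ≠ 0 := by
    intro h
    apply hne
    unfold classInner
    rw [← hS, h, mul_zero]
  have h1 : S = om χ z * conj (om ξ ⟨z, hzL⟩) * S := by
    rw [hS, Finset.mul_sum]
    rw [← Equiv.sum_comp (Equiv.mulRight (⟨z, hzL⟩ : L))]
    apply Finset.sum_congr rfl
    intro h _
    simp only [Equiv.coe_mulRight]
    rw [irr_mul_central' ξ ⟨z, hzL⟩ hz' h]
    have : ((h * ⟨z, hzL⟩ : L) : G) = (h : G) * z := rfl
    rw [this, irr_mul_central' χ z hz (h : G), map_mul]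
    ring
  have h2 : om χ z * conj (om ξ ⟨z, hzL⟩) = 1 := by
    have h3 : (om χ z * conj (om ξ ⟨z, hzL⟩) - 1) * S = 0 := by
      rw [sub_mul, one_mul, ← h1, sub_self]
    rcases mul_eq_zero.1 h3 with h4 | h4
    · exact sub_eq_zero.1 h4
    · exact absurd h4 hS0
  rw [om_conj] at h2
  have h5 := om_mul_inv ξ ⟨z, hzL⟩ hz'
  have h6 : om χ z = om ξ ⟨z, hzL⟩ := by
    calc om χ z = om χ z * (om ξ ⟨z, hzL⟩ * om ξ (⟨z, hzL⟩ : L)⁻¹) := by rw [h5, mul_one]
      _ = (om χ z * om ξ (⟨z, hzL⟩ : L)⁻¹) * om ξ ⟨z, hzL⟩ := by ring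
      _ = om ξ ⟨z, hzL⟩ := by rw [h2, one_mul]
  exact h6.symm


open Cfsg.Agent.Lib.Helper79 Cfsg.Agent.Lib.Helper79.IW in
/-- The class-two configuration: a power `d > 1` of `r` dividing `χ(1)` with `p ∣ d² - 1`. -/
theorem class_two_degree {G : Type u} [Group G] [Finite G] {p r : ℕ} [hp : Fact p.Prime]
    [hr : Fact r.Prime] (hpr : p ≠ r) (χ : IrrCharacter G)
    (hfaith : ∀ g : G, (χ : G → ℂ) g = (χ : G → ℂ) 1 → g = 1) (n : ℕ)
    (hn : (χ : G → ℂ) 1 = (n : ℂ)) (Q₁ P₀ : Subgroup G) (hQ₁r : IsPGroup r Q₁)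
    (hP₀ : IsPGroup p P₀) (hnorm : ∀ g ∈ P₀, ∀ h ∈ Q₁, g * h * g⁻¹ ∈ Q₁)
    (hcomm : ∀ a ∈ Q₁, ∀ b ∈ Q₁, a * b * a⁻¹ * b⁻¹ ∈ center G)
    (hcenter : ∀ z ∈ Q₁, (∀ a ∈ Q₁, a * z = z * a) → z ∈ center G)
    (hfix : ∀ z ∈ Q₁, (∀ g ∈ P₀, g * z = z * g) → ∀ a ∈ Q₁, a * z = z * a)
    (hnab : ¬ ∀ a ∈ Q₁, ∀ b ∈ Q₁, a * b = b * a) :
    ∃ d : ℕ, IsPrimePow d ∧ d ∣ n ∧ p ∣ d ^ 2 - 1 := by
  classical
  haveI : Fintype G := Fintype.ofFinite G
  haveI : Fintype Q₁ := Fintype.ofFinite Q₁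
  haveI : Finite (IrrCharacter Q₁) := Cfsg.Agent.Lib.Helper3.irrCharacter_finite
  haveI : Fintype (IrrCharacter Q₁) := Fintype.ofFinite _
  have hχc : IsCharacter G (χ : G → ℂ) := isCharacter_of_isIrrCharacter χ.2
  set χ₁ : Q₁ → ℂ := fun x => (χ : G → ℂ) x with hχ₁def
  have hχ₁ : IsCharacter Q₁ χ₁ := isCharacter_restrict hχc Q₁
  obtain ⟨m, hm, hdec⟩ := Cfsg.Agent.Lib.Helper15.exists_nat_decomp hχ₁
  have hχ1 : (χ : G → ℂ) 1 ≠ 0 := irr_one_ne_zero χ
  have hn0 : (n : ℂ) ≠ 0 := hn ▸ hχ1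
  -- a constituent
  have hex : ∃ φ : IrrCharacter Q₁, m φ ≠ 0 := by
    by_contra hcon
    push Not at hcon
    have h0 : χ₁ = 0 := by
      rw [hdec]
      apply Finset.sum_eq_zero
      intro ψ _
      rw [hcon ψ]
      simp
    have h1 : χ₁ 1 = 0 := by rw [h0]; rfl
    exact hχ1 h1
  obtain ⟨φ, hφm⟩ := hex
  have hne : classInner χ₁ (φ : Q₁ → ℂ) ≠ 0 := by
    rw [hm φ]
    exact_mod_cast hφm
  have hφ1 : (φ : Q₁ → ℂ) 1 ≠ 0 := irr_one_ne_zero φ
  -- the centre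
  have hcenG : ∀ z : Q₁, z ∈ center Q₁ → (z : G) ∈ center G := by
    intro z hz
    apply hcenter z z.2
    intro a ha
    have := mem_center_iff.1 hz ⟨a, ha⟩
    exact congrArg Subtype.val this
  have hcenQ : ∀ z : Q₁, (z : G) ∈ center G → z ∈ center Q₁ := by
    intro z hz
    rw [mem_center_iff]
    intro a
    exact Subtype.ext (mem_center_iff.1 hz a)
  have hom : ∀ z : Q₁, z ∈ center Q₁ →
      (φ : Q₁ → ℂ) z / (φ : Q₁ → ℂ) 1 = (χ : G → ℂ) z / (χ : G → ℂ) 1 := fun z hz =>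
    om_eq_of_constituent Q₁ χ φ z (hcenG z hz) z.2 hne
  -- non-central elements
  have hnoncen : ∀ x : Q₁, x ∉ center Q₁ → ∃ y : Q₁, (y * x * y⁻¹ * x⁻¹ : Q₁) ≠ 1 := by
    intro x hx
    by_contra hcon
    push Not at hcon
    apply hx
    rw [mem_center_iff]
    intro y
    have := hcon y
    calc y * x = (y * x * y⁻¹ * x⁻¹) * (x * y) := by group
      _ = x * y := by rw [this, one_mul]
  have hvanφ : ∀ x : Q₁, x ∉ center Q₁ → (φ : Q₁ → ℂ) x = 0 := by
    intro x hx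
    obtain ⟨y, hy⟩ := hnoncen x hx
    have hcG : ((y * x * y⁻¹ * x⁻¹ : Q₁) : G) ∈ center G := hcomm y y.2 x x.2
    have hcQ : (y * x * y⁻¹ * x⁻¹ : Q₁) ∈ center Q₁ := hcenQ _ hcG
    apply irr_eq_zero_of_central_commutator φ x y hcQ
    intro heq
    have h1 := hom _ hcQ
    rw [heq, div_self hφ1] at h1
    have h2 : (χ : G → ℂ) ((y * x * y⁻¹ * x⁻¹ : Q₁) : G) = (χ : G → ℂ) 1 :=
      ((div_eq_one_iff_eq hχ1).1 h1.symm)
    exact hy (Subtype.ext (hfaith _ h2))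
  have hvanχ : ∀ x : Q₁, x ∉ center Q₁ → (χ : G → ℂ) x = 0 := by
    intro x hx
    obtain ⟨y, hy⟩ := hnoncen x hx
    have hcG : ((y * x * y⁻¹ * x⁻¹ : Q₁) : G) ∈ center G := hcomm y y.2 x x.2
    have hcG' : (y : G) * x * (y : G)⁻¹ * (x : G)⁻¹ ∈ center G := hcG
    apply irr_eq_zero_of_central_commutator χ (x : G) (y : G) hcG'
    intro heq
    exact hy (Subtype.ext (hfaith _ heq))
  -- degrees
  set d := charDegree (φ : Q₁ → ℂ) with hd
  have hφd : (φ : Q₁ → ℂ) 1 = (d : ℂ) := Cfsg.Agent.Lib.Helper81.irr_apply_one_eq_charDegree φ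
  have hd0 : (d : ℂ) ≠ 0 := hφd ▸ hφ1
  have hprop : ∀ x : Q₁, (d : ℂ) * χ₁ x = (n : ℂ) * (φ : Q₁ → ℂ) x := by
    intro x
    by_cases hx : x ∈ center Q₁
    · have h1 := hom x hx
      rw [hφd, hn] at h1
      have h2 := (div_eq_div_iff hd0 hn0).1 h1
      change (d : ℂ) * (χ : G → ℂ) x = _
      rw [mul_comm (d : ℂ), ← h2, mul_comm]
    · rw [hvanφ x hx]
      change (d : ℂ) * (χ : G → ℂ) x = _
      rw [hvanχ x hx]
      ring
  have hdn : d ∣ n := by
    have h1 : classInner ((d : ℂ) • χ₁) (φ : Q₁ → ℂ) =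
        classInner ((n : ℂ) • (φ : Q₁ → ℂ)) (φ : Q₁ → ℂ) := by
      congr 1
      funext x
      simp only [Pi.smul_apply, smul_eq_mul]
      exact hprop x
    rw [Cfsg.Agent.Lib.Helper3.classInner_smul_left, Cfsg.Agent.Lib.Helper3.classInner_smul_left,
      hm φ, Cfsg.Agent.Lib.Helper3.classInner_irr φ.2 φ.2, if_pos rfl, mul_one] at h1
    refine ⟨m φ, ?_⟩
    exact_mod_cast h1.symm
  obtain ⟨j, hj⟩ := IsPGroup.iff_card.1 hQ₁r
  have hdcard : d ∣ Nat.card Q₁ := charDegree_dvd_card φ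
  rw [hj] at hdcard
  obtain ⟨i, _, hi⟩ := (Nat.dvd_prime_pow hr.out).1 hdcard
  have hi0 : i ≠ 0 := by
    intro h0
    have hd_one : d = 1 := by rw [hi, h0, pow_zero]
    have hφ1' : (φ : Q₁ → ℂ) 1 = 1 := by
      rw [hφd, hd_one]
      simp
    obtain ⟨lam, hlam⟩ := exists_monoidHom_of_isCharacter_of_one
      (isCharacter_of_isIrrCharacter φ.2) hφ1'
    have hx : ∃ x : Q₁, x ∉ center Q₁ := by
      by_contra hcon
      push Not at hcon
      apply hnab
      intro a ha b hb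
      have := mem_center_iff.1 (hcon ⟨b, hb⟩) ⟨a, ha⟩
      exact congrArg Subtype.val this
    obtain ⟨x, hx⟩ := hx
    have h0' := hvanφ x hx
    rw [hlam x] at h0'
    exact Units.ne_zero _ h0'
  -- the action of `P₀`
  have hPΓ : P₀ ≤ normalizer (Q₁ : Set G) := by
    intro g hg
    rw [mem_normalizer_iff]
    intro h
    constructor
    · exact hnorm g hg h
    · intro hh
      have := hnorm g⁻¹ (P₀.inv_mem hg) _ hh
      have h2 : g⁻¹ * (g * h * g⁻¹) * g⁻¹⁻¹ = h := by group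
      rw [h2] at this
      exact this
  let κ : P₀ →* MulAut Q₁ := (Q₁.normalizerMonoidHom).comp (Subgroup.inclusion hPΓ)
  have hκ : ∀ (g : P₀) (x : Q₁), ((κ g x : Q₁) : G) = (g : G) * x * (g : G)⁻¹ := fun g x => rfl
  have hcop : (Nat.card Q₁).Coprime p := by
    rw [hj]
    exact Nat.Coprime.pow_left _ ((Nat.coprime_primes hr.out hp.out).2 (Ne.symm hpr))
  have hdvd : p ∣ d ^ 2 - 1 := by
    apply sq_degree_modEq κ hP₀ hcop φ.2 _ _ d hφd
    · intro g x
      by_cases hx : x ∈ center Q₁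
      · have hxG := hcenG x hx
        have h1 : κ g x = x := by
          apply Subtype.ext
          rw [hκ]
          have := mem_center_iff.1 hxG (g : G)
          rw [this]
          group
        rw [h1]
      · rw [hvanφ x hx]
        apply hvanφ
        intro hx'
        apply hx
        have hxG' := hcenG _ hx'
        rw [hκ] at hxG'
        apply hcenQ
        have h1 : (x : G) = (g : G)⁻¹ * ((g : G) * x * (g : G)⁻¹) * g := by group
        have h2 := mem_center_iff.1 hxG' ((g : G)⁻¹)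
        rw [h1, h2]
        have h3 : (g : G) * x * (g : G)⁻¹ * (g : G)⁻¹ * g = (g : G) * x * (g : G)⁻¹ := by group
        rw [h3]
        exact hxG'
    · intro x hxfix
      rw [mem_center_iff]
      intro a
      apply Subtype.ext
      apply hfix x x.2 _ a a.2
      intro g hg
      have := congrArg Subtype.val (hxfix ⟨g, hg⟩)
      rw [hκ] at this
      change g * (x : G) * g⁻¹ = x at this
      calc g * (x : G) = (g * x * g⁻¹) * g := by group
        _ = x * g := by rw [this]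
  exact ⟨d, ⟨r, i, hr.out.prime, Nat.pos_of_ne_zero hi0, hi.symm⟩, hdn, hdvd⟩

end Cfsg.Agent.Lib.Helper82.Ito
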