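import Mathlib
import Cfsg.Agent.Lib.Helper10.Solvable
import Cfsg.Agent.Lib.Helper10.TFQuot

/-!
# Group-theoretic part of Ito's theorem: the quasi-primitive case

* `exists_normal_rgroup`: in a nonabelian solvable group all of whose abelian normal subgroups are
  central there is a normal non-central `r`-subgroup `Q` with `[Q, Q] ≤ Z(G)` and `Z(Q) ≤ Z(G)`.
* `coprime_structure`: for a `p`-subgroup `P₀` (`p ≠ r`) not centralising such a `Q`, the subgroup
  `Q₁ = [Q, P₀]` is nonabelian, `Z(Q₁) ≤ Z(G)` and `C_{Q₁}(P₀) ≤ Z(Q₁)`.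
-/

set_option autoImplicit false
set_option linter.unusedSectionVars false
set_option linter.style.haveILetI false

namespace Cfsg.Agent.Lib.Helper82.Ito

open Subgroup
open scoped commutatorElement

section Coprime

variable {G : Type*} [Group G] [Finite G]

/-- `C_Q(P₀)` centralises `[Q, P₀]` when `[Q, Q]` is central. -/
theorem fixed_centralizes_commutator (Q P₀ : Subgroup G)
    (hQ2 : ∀ a ∈ Q, ∀ b ∈ Q, a * b * a⁻¹ * b⁻¹ ∈ center G) (c : G) (hc : c ∈ Q)
    (hcP : ∀ g ∈ P₀, g * c = c * g) : ∀ h ∈ (⁅Q, P₀⁆ : Subgroup G), c * h = h * c := by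
  have hle : (⁅Q, P₀⁆ : Subgroup G) ≤ centralizer ({c} : Set G) := by
    rw [commutator_le]
    intro u hu g hg
    rw [mem_centralizer_iff]
    intro c' hc'
    rw [Set.mem_singleton_iff] at hc'
    subst hc'
    set z := c' * u * c'⁻¹ * u⁻¹ with hz
    have hzc : z ∈ center G := hQ2 c' hc u hu
    have hzcomm : ∀ y : G, y * z = z * y := fun y => (mem_center_iff.1 hzc y)
    have h1 : c' * u = z * u * c' := by
      rw [hz]; group
    have h2 : c' * u⁻¹ = z⁻¹ * u⁻¹ * c' := by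
      have : z⁻¹ = u * c' * u⁻¹ * c'⁻¹ := by rw [hz]; group
      have hz' : ∀ y : G, y * z⁻¹ = z⁻¹ * y := fun y => by
        have := hzcomm y
        calc y * z⁻¹ = z⁻¹ * (z * y) * z⁻¹ := by group
          _ = z⁻¹ * (y * z) * z⁻¹ := by rw [this]
          _ = z⁻¹ * y := by group
      calc c' * u⁻¹ = u⁻¹ * (u * c' * u⁻¹ * c'⁻¹) * c' := by group
        _ = u⁻¹ * z⁻¹ * c' := by rw [← this]
        _ = z⁻¹ * u⁻¹ * c' := by rw [hz' u⁻¹]
    have h3 : c' * g = g * c' := (hcP g hg).symm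
    have h4 : c' * g⁻¹ = g⁻¹ * c' := by
      calc c' * g⁻¹ = g⁻¹ * (g * c') * g⁻¹ := by group
        _ = g⁻¹ * (c' * g) * g⁻¹ := by rw [h3]
        _ = g⁻¹ * c' := by group
    rw [commutatorElement_def]
    calc c' * (u * g * u⁻¹ * g⁻¹) = (c' * u) * g * u⁻¹ * g⁻¹ := by group
      _ = z * u * c' * g * u⁻¹ * g⁻¹ := by rw [h1]
      _ = z * u * (c' * g) * u⁻¹ * g⁻¹ := by group
      _ = z * u * (g * c') * u⁻¹ * g⁻¹ := by rw [h3]
      _ = z * u * g * (c' * u⁻¹) * g⁻¹ := by group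
      _ = z * u * g * (z⁻¹ * u⁻¹ * c') * g⁻¹ := by rw [h2]
      _ = z * (u * g * z⁻¹) * u⁻¹ * (c' * g⁻¹) := by group
      _ = z * (z⁻¹ * (u * g)) * u⁻¹ * (g⁻¹ * c') := by
          rw [h4]
          congr 3
          have : (u * g) * z = z * (u * g) := hzcomm (u * g)
          calc u * g * z⁻¹ = z⁻¹ * (z * (u * g)) * z⁻¹ := by group
            _ = z⁻¹ * ((u * g) * z) * z⁻¹ := by rw [this]
            _ = z⁻¹ * (u * g) := by group
      _ = u * g * u⁻¹ * g⁻¹ * c' := by group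
  intro h hh
  have := hle hh
  rw [mem_centralizer_iff] at this
  exact this c rfl

/-- `[Q, P₀]` is stable under conjugation by `P₀`. -/
theorem commutator_conj_right (Q P₀ : Subgroup G) [hQn : Q.Normal] :
    ∀ g ∈ P₀, ∀ h ∈ (⁅Q, P₀⁆ : Subgroup G), g * h * g⁻¹ ∈ (⁅Q, P₀⁆ : Subgroup G) := by
  intro g hg
  have hle : (⁅Q, P₀⁆ : Subgroup G) ≤ (⁅Q, P₀⁆ : Subgroup G).comap (MulAut.conj g).toMonoidHom := by
    rw [commutator_le]
    intro u hu x hx
    rw [mem_comap]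
    change MulAut.conj g ⁅u, x⁆ ∈ _
    rw [MulAut.conj_apply, conjugate_commutatorElement]
    exact commutator_mem_commutator (hQn.conj_mem u hu g) (P₀.mul_mem (P₀.mul_mem hg hx) (P₀.inv_mem hg))
  intro h hh
  have := hle hh
  rw [mem_comap] at this
  simpa [MulAut.conj_apply] using this

/-- `[Q, P₀]` is stable under conjugation by `Q`. -/
theorem commutator_conj_left (Q P₀ : Subgroup G) [hQn : Q.Normal] :
    ∀ v ∈ Q, ∀ h ∈ (⁅Q, P₀⁆ : Subgroup G), v * h * v⁻¹ ∈ (⁅Q, P₀⁆ : Subgroup G) := by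
  intro v hv
  have hle : (⁅Q, P₀⁆ : Subgroup G) ≤ (⁅Q, P₀⁆ : Subgroup G).comap (MulAut.conj v).toMonoidHom := by
    rw [commutator_le]
    intro u hu x hx
    rw [mem_comap]
    change MulAut.conj v ⁅u, x⁆ ∈ _
    rw [MulAut.conj_apply]
    have h1 : v * ⁅u, x⁆ * v⁻¹ = ⁅v * u, x⁆ * ⁅v, x⁆⁻¹ := by
      rw [commutatorElement_def, commutatorElement_def, commutatorElement_def]
      group
    rw [h1]
    exact (⁅Q, P₀⁆ : Subgroup G).mul_mem (commutator_mem_commutator (Q.mul_mem hv hu) hx)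
      ((⁅Q, P₀⁆ : Subgroup G).inv_mem (commutator_mem_commutator hv hx))
  intro h hh
  have := hle hh
  rw [mem_comap] at this
  simpa [MulAut.conj_apply] using this

/-- Coprime action: `Q = C_Q(P₀) [Q, P₀]`. -/
theorem exists_fixed_mul_commutator {p r : ℕ} [hp : Fact p.Prime] [hr : Fact r.Prime]
    (hpr : p ≠ r) (Q P₀ : Subgroup G) [hQn : Q.Normal] (hQ : IsPGroup r Q)
    (hP₀ : IsPGroup p P₀) (u : G) (hu : u ∈ Q) :
    ∃ c ∈ Q, (∀ g ∈ P₀, g * c = c * g) ∧ c⁻¹ * u ∈ (⁅Q, P₀⁆ : Subgroup G) := by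
  classical
  set Q₁ : Subgroup G := ⁅Q, P₀⁆ with hQ₁
  have hQ₁Q : Q₁ ≤ Q := commutator_le_left Q P₀
  set Γ : Subgroup G := normalizer (Q₁ : Set G) with hΓ
  have hPΓ : P₀ ≤ Γ := by
    intro g hg
    rw [hΓ, mem_normalizer_iff]
    intro h
    constructor
    · intro hh
      exact commutator_conj_right Q P₀ g hg h hh
    · intro hh
      have := commutator_conj_right Q P₀ g⁻¹ (P₀.inv_mem hg) _ hh
      have h2 : g⁻¹ * (g * h * g⁻¹) * g⁻¹⁻¹ = h := by group
      rw [h2] at this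
      exact this
  have hQΓ : Q ≤ Γ := by
    intro v hv
    rw [hΓ, mem_normalizer_iff]
    intro h
    constructor
    · intro hh
      exact commutator_conj_left Q P₀ v hv h hh
    · intro hh
      have := commutator_conj_left Q P₀ v⁻¹ (Q.inv_mem hv) _ hh
      have h2 : v⁻¹ * (v * h * v⁻¹) * v⁻¹⁻¹ = h := by group
      rw [h2] at this
      exact this
  set K : Subgroup Γ := Q₁.subgroupOf Γ with hK
  haveI hKn : K.Normal := Subgroup.normal_in_normalizer
  have hKr : IsPGroup r K := (hQ.to_le hQ₁Q).comap_subtype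
  have hKcop : (Nat.card K).Coprime p := by
    obtain ⟨j, hj⟩ := IsPGroup.iff_card.1 hKr
    rw [hj]
    apply Nat.Coprime.pow_left
    exact (Nat.coprime_primes hr.out hp.out).2 (Ne.symm hpr)
  set Y : Subgroup Γ := P₀.subgroupOf Γ with hY
  have hYp : IsPGroup p Y := hP₀.comap_subtype
  set ub : Γ ⧸ K := QuotientGroup.mk' K ⟨u, hQΓ hu⟩ with hub
  have hcent : ub ∈ centralizer ((Y.map (QuotientGroup.mk' K) : Subgroup (Γ ⧸ K)) : Set (Γ ⧸ K)) := by
    rw [mem_centralizer_iff]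
    rintro _ ⟨y, hy, rfl⟩
    rw [hub, ← map_mul, ← map_mul]
    change ((y * ⟨u, hQΓ hu⟩ : Γ) : Γ ⧸ K) = ((⟨u, hQΓ hu⟩ * y : Γ) : Γ ⧸ K)
    rw [QuotientGroup.eq]
    rw [hK, mem_subgroupOf]
    have hyP : (y : G) ∈ P₀ := mem_subgroupOf.1 hy
    have h1 : (((y * ⟨u, hQΓ hu⟩ : Γ)⁻¹ * (⟨u, hQΓ hu⟩ * y) : Γ) : G) = ⁅u⁻¹, (y : G)⁻¹⁆ := by
      rw [commutatorElement_def]
      push_cast
      group
    rw [h1]
    exact commutator_mem_commutator (Q.inv_mem hu) (P₀.inv_mem hyP)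
  obtain ⟨c, hc, hcu⟩ := Cfsg.Agent.Lib.Helper10.exists_mem_centralizer_mk_eq K hKcop hYp ub hcent
  have hcu' : c⁻¹ * ⟨u, hQΓ hu⟩ ∈ K := by
    rw [hub] at hcu
    exact QuotientGroup.eq.1 hcu
  rw [hK, mem_subgroupOf] at hcu'
  have hcu'' : (c : G)⁻¹ * u ∈ Q₁ := by
    simpa using hcu'
  refine ⟨(c : G), ?_, ?_, hcu''⟩
  · have h1 : (c : G) = u * ((c : G)⁻¹ * u)⁻¹ := by group
    rw [h1]
    exact Q.mul_mem hu (Q.inv_mem (hQ₁Q hcu''))
  · intro g hg
    rw [mem_centralizer_iff] at hc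
    have := hc ⟨g, hPΓ hg⟩ (mem_subgroupOf.2 hg)
    exact congrArg Subtype.val this

/-- The structure of `Q₁ = [Q, P₀]` for a `p`-group `P₀` acting nontrivially on a normal `r`-group
`Q` with `[Q, Q] ≤ Z(G)` and `Z(Q) ≤ Z(G)`. -/
theorem coprime_structure {p r : ℕ} [hp : Fact p.Prime] [hr : Fact r.Prime]
    (hpr : p ≠ r) (Q P₀ : Subgroup G) [hQn : Q.Normal] (hQ : IsPGroup r Q)
    (hP₀ : IsPGroup p P₀)
    (hQ2 : ∀ a ∈ Q, ∀ b ∈ Q, a * b * a⁻¹ * b⁻¹ ∈ center G)
    (hQ4 : ∀ z ∈ Q, (∀ a ∈ Q, a * z = z * a) → z ∈ center G)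
    (hnc : ¬ P₀ ≤ centralizer (Q : Set G)) :
    ∃ Q₁ : Subgroup G, Q₁ ≤ Q ∧ (∀ g ∈ P₀, ∀ h ∈ Q₁, g * h * g⁻¹ ∈ Q₁) ∧
      (∀ z ∈ Q₁, (∀ a ∈ Q₁, a * z = z * a) → z ∈ center G) ∧
      (∀ z ∈ Q₁, (∀ g ∈ P₀, g * z = z * g) → ∀ a ∈ Q₁, a * z = z * a) ∧
      ¬ (∀ a ∈ Q₁, ∀ b ∈ Q₁, a * b = b * a) := by
  classical
  set Q₁ : Subgroup G := ⁅Q, P₀⁆ with hQ₁
  have hQ₁Q : Q₁ ≤ Q := commutator_le_left Q P₀
  have hF2 := fixed_centralizes_commutator Q P₀ hQ2
  have hcenter : ∀ z ∈ Q₁, (∀ a ∈ Q₁, a * z = z * a) → z ∈ center G := by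
    intro z hz hzc
    apply hQ4 z (hQ₁Q hz)
    intro u hu
    obtain ⟨c, hcQ, hcP, hck⟩ := exists_fixed_mul_commutator hpr Q P₀ hQ hP₀ u hu
    have h1 : c * z = z * c := hF2 c hcQ hcP z hz
    have h2 : (c⁻¹ * u) * z = z * (c⁻¹ * u) := hzc _ hck
    calc u * z = c * ((c⁻¹ * u) * z) := by group
      _ = c * (z * (c⁻¹ * u)) := by rw [h2]
      _ = (c * z) * (c⁻¹ * u) := by group
      _ = (z * c) * (c⁻¹ * u) := by rw [h1]
      _ = z * u := by group
  refine ⟨Q₁, hQ₁Q, commutator_conj_right Q P₀, hcenter, ?_, ?_⟩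
  · intro z hz hzP a ha
    exact (hF2 z (hQ₁Q hz) hzP a ha).symm
  · intro hab
    apply hnc
    intro g hg
    rw [mem_centralizer_iff]
    intro u hu
    -- `w = [u, g]` is central
    set w := u * g * u⁻¹ * g⁻¹ with hw
    have hwQ₁ : w ∈ Q₁ := by
      have := commutator_mem_commutator (H₁ := Q) (H₂ := P₀) hu hg
      rw [commutatorElement_def] at this
      exact this
    have hwc : w ∈ center G := hcenter w hwQ₁ (fun a ha => hab a ha w hwQ₁)
    have hwcomm : Commute w g := (mem_center_iff.1 hwc g).symm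
    obtain ⟨j, hj⟩ := hP₀ ⟨g, hg⟩
    have hj' : g ^ p ^ j = 1 := by
      have := congrArg Subtype.val hj
      simpa using this
    obtain ⟨i, hi⟩ := hQ ⟨w, hQ₁Q hwQ₁⟩
    have hi' : w ^ r ^ i = 1 := by
      have := congrArg Subtype.val hi
      simpa using this
    have h1 : u * g * u⁻¹ = w * g := by rw [hw]; group
    have h2 : (w * g) ^ p ^ j = 1 := by
      rw [← h1, conj_pow, hj']
      group
    rw [hwcomm.mul_pow, hj', mul_one] at h2
    have h3 : w ^ (Nat.gcd (p ^ j) (r ^ i)) = 1 := pow_gcd_eq_one.2 ⟨h2, hi'⟩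
    have hcop : Nat.Coprime (p ^ j) (r ^ i) := by
      apply Nat.Coprime.pow
      exact (Nat.coprime_primes hp.out hr.out).2 hpr
    rw [hcop, pow_one] at h3
    have h4 : u * g * u⁻¹ = g := by rw [h1, h3, one_mul]
    calc u * g = (u * g * u⁻¹) * u := by group
      _ = g * u := by rw [h4]

end Coprime

section RGroup

variable {G : Type*} [Group G] [Finite G]

/-- In a nonabelian finite solvable group all of whose abelian normal subgroups are central there
is a normal, non-central `r`-subgroup `Q` with `[Q, Q] ≤ Z(G)` and `Z(Q) ≤ Z(G)`. -/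
theorem exists_normal_rgroup [Group.IsSolvable G]
    (hab : ∀ A : Subgroup G, A.Normal → (∀ a ∈ A, ∀ b ∈ A, a * b = b * a) → A ≤ center G)
    (hnc : center G ≠ ⊤) :
    ∃ (r : ℕ) (Q : Subgroup G), r.Prime ∧ Q.Normal ∧ IsPGroup r Q ∧ ¬ Q ≤ center G ∧
      (∀ a ∈ Q, ∀ b ∈ Q, a * b * a⁻¹ * b⁻¹ ∈ center G) ∧
      (∀ z ∈ Q, (∀ a ∈ Q, a * z = z * a) → z ∈ center G) := by
  classical
  set Z : Subgroup G := center G with hZ
  set f : G →* G ⧸ Z := QuotientGroup.mk' Z with hf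
  have hfs : Function.Surjective f := QuotientGroup.mk'_surjective Z
  have hfker : f.ker = Z := QuotientGroup.ker_mk' Z
  have hf1 : ∀ x : G, f x = 1 ↔ x ∈ Z := fun x => by
    constructor
    · intro h
      have : x ∈ f.ker := h
      rwa [hfker] at this
    · intro h
      have : x ∈ f.ker := by rwa [hfker]
      exact this
  haveI : Nontrivial (G ⧸ Z) := by
    rw [← not_subsingleton_iff_nontrivial]
    intro h
    apply hnc
    rw [eq_top_iff]
    intro x _
    have : f x = 1 := Subsingleton.elim _ _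
    exact (hf1 x).1 this
  obtain ⟨r, Eb, hr, hEbn, hEbne, hEbp, hEbc, -⟩ :=
    Cfsg.Agent.Lib.Helper10.exists_normal_pgroup_of_solvable (G := G ⧸ Z)
  haveI : Fact r.Prime := ⟨hr⟩
  have hEbcomm := isMulCommutative_iff_of_setLike.mp hEbc
  set E : Subgroup G := Eb.comap f with hE
  haveI hEn : E.Normal := hEbn.comap f
  have hE2 : ∀ a ∈ E, ∀ b ∈ E, a * b * a⁻¹ * b⁻¹ ∈ Z := by
    intro a ha b hb
    rw [← hf1, map_mul, map_mul, map_mul, map_inv, map_inv]
    have := hEbcomm (f a) ha (f b) hb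
    rw [this]
    group
  -- `E` is nilpotent
  let φ : E →* Eb := f.subgroupComap Eb
  have hφ : ∀ x : E, ((φ x : Eb) : G ⧸ Z) = f (x : G) := fun x => rfl
  have hker : φ.ker ≤ center E := by
    intro x hx
    rw [MonoidHom.mem_ker] at hx
    have h1 : f (x : G) = 1 := by
      rw [← hφ, hx]
      rfl
    have h2 : (x : G) ∈ Z := (hf1 _).1 h1
    rw [mem_center_iff]
    intro y
    exact Subtype.ext (mem_center_iff.1 h2 (y : G))
  haveI : Group.IsNilpotent Eb := hEbp.isNilpotent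
  haveI : Group.IsNilpotent E := _root_.isNilpotent_of_ker_le_center φ hker
  let R : Sylow r E := default
  haveI hRn : (R : Subgroup E).Normal := inferInstance
  haveI hRc : (R : Subgroup E).Characteristic := Sylow.characteristic_of_normal R hRn
  set Q : Subgroup G := (R : Subgroup E).map E.subtype with hQ
  have hQn : Q.Normal := ConjAct.normal_of_characteristic_of_normal
  have hQr : IsPGroup r Q := R.2.map _
  have hQE : Q ≤ E := map_subtype_le _
  have hQ2 : ∀ a ∈ Q, ∀ b ∈ Q, a * b * a⁻¹ * b⁻¹ ∈ Z := fun a ha b hb =>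
    hE2 a (hQE ha) b (hQE hb)
  have hQ4 : ∀ z ∈ Q, (∀ a ∈ Q, a * z = z * a) → z ∈ Z := by
    intro z hz hzc
    haveI := hQn
    set A : Subgroup G := Q ⊓ centralizer (Q : Set G) with hA
    have hAn : A.Normal := inferInstance
    have hAab : ∀ a ∈ A, ∀ b ∈ A, a * b = b * a := by
      intro a ha b hb
      have h1 := (mem_inf.1 hb).2
      rw [mem_centralizer_iff] at h1
      exact h1 a (mem_inf.1 ha).1
    have hzA : z ∈ A := by
      refine mem_inf.2 ⟨hz, ?_⟩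
      rw [mem_centralizer_iff]
      exact hzc
    exact hab A hAn hAab hzA
  have hQZ : ¬ Q ≤ Z := by
    intro hQZ
    have hRZ : (R : Subgroup E) ≤ Z.subgroupOf E := by
      intro x hx
      rw [mem_subgroupOf]
      exact hQZ ⟨x, hx, rfl⟩
    have hdvd : (Z.subgroupOf E).index ∣ (R : Subgroup E).index := index_dvd_of_le hRZ
    have hnd : ¬ r ∣ (R : Subgroup E).index := R.not_dvd_index
    haveI : (Z.subgroupOf E).Normal := Subgroup.Normal.subgroupOf inferInstance E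
    have hquot : IsPGroup r (E ⧸ Z.subgroupOf E) := by
      intro y
      induction y using QuotientGroup.induction_on with
      | H x =>
        obtain ⟨k, hk⟩ := hEbp ⟨f (x : G), x.2⟩
        refine ⟨k, ?_⟩
        have h1 : (f (x : G)) ^ r ^ k = 1 := by
          have := congrArg Subtype.val hk
          simpa using this
        rw [← map_pow] at h1
        have h2 : ((x : G)) ^ r ^ k ∈ Z := (hf1 _).1 h1
        rw [← QuotientGroup.mk_pow, QuotientGroup.eq_one_iff, mem_subgroupOf]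
        simpa using h2
    obtain ⟨j, hj⟩ := IsPGroup.iff_card.1 hquot
    rw [← Subgroup.index_eq_card] at hj
    have hj0 : j = 0 := by
      by_contra h
      apply hnd
      exact (dvd_pow_self r h).trans (hj ▸ hdvd)
    rw [hj0, pow_zero, index_eq_one] at hj
    have hEZ : E ≤ Z := subgroupOf_eq_top.1 hj
    apply hEbne
    rw [eq_bot_iff, ← map_comap_eq_self_of_surjective hfs Eb]
    refine (map_mono hEZ).trans ?_
    rw [le_bot_iff, Subgroup.map_eq_bot_iff, hfker]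
  exact ⟨r, Q, hr, hQn, hQr, hQZ, hQ2, hQ4⟩

end RGroup

end Cfsg.Agent.Lib.Helper82.Ito
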