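import Mathlib
import Cfsg.Prelude.Def_Characters
import Cfsg.Prelude.Def_Blocks
import Cfsg.Agent.Lib.Helper79.IW3
import Cfsg.Agent.Lib.Helper76.KNilp
import Cfsg.Agent.Lib.Helper82.ItoPerm
import Cfsg.Agent.Lib.Helper82.ItoGroup
import Cfsg.Agent.Lib.Helper82.ItoChar

/-!
# Ito's theorem on solvable irreducible linear groups

If the finite solvable group `G` has a faithful irreducible character of degree `n` and a
non-normal Sylow `p`-subgroup, then `n` is divisible by a prime power `q ≡ -1, 0, 1 (mod p)`.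
-/

set_option autoImplicit false
set_option linter.unusedSectionVars false
set_option linter.style.haveILetI false

namespace Cfsg.Agent.Lib.Helper82.Ito

open Cfsg Subgroup
open Cfsg.Agent.Lib.Helper79 Cfsg.Agent.Lib.Helper79.IW
open scoped ComplexConjugate

universe u

/-- The statement of Ito's theorem for all groups of order less than `k`. -/
def FaithfulBelow (p k : ℕ) : Prop :=
  ∀ m : ℕ, m < k → ∀ (G : Type u) [Group G] [Finite G], Nat.card G = m → Group.IsSolvable G →
    ∀ χ : G → ℂ, IsIrrCharacter G χ → (∀ g : G, χ g = χ 1 → g = 1) → ∀ P : Sylow p G,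
      ¬ (P : Subgroup G).Normal → Good p (charDegree χ)

/-- Passage to the quotient by the kernel. -/
theorem gen_of_below {p : ℕ} [hp : Fact p.Prime] {k : ℕ} (ih : FaithfulBelow.{u} p k)
    {H : Type u} [Group H] [Finite H] (hcard : Nat.card H < k) (hsolv : Group.IsSolvable H)
    (η : H → ℂ) (hη : IsIrrCharacter H η) (K : Subgroup H) [hK : K.Normal]
    (hK1 : ∀ x ∈ K, η x = η 1) (hK2 : ∀ x, η x = η 1 → x ∈ K) (P : Sylow p H)
    (hP : ¬ ((P : Subgroup H) ⊔ K).Normal) : Good p (charDegree η) := by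
  obtain ⟨ψ, hψ, hψη⟩ := isIrrCharacter_deflate hη K hK1
  have hψ1 : ψ 1 = η 1 := by
    have := hψη 1
    rwa [QuotientGroup.mk_one] at this
  have hfaith : ∀ y : H ⧸ K, ψ y = ψ 1 → y = 1 := by
    intro y
    induction y using QuotientGroup.induction_on with
    | H x =>
      intro h
      rw [hψη, hψ1] at h
      exact (QuotientGroup.eq_one_iff x).2 (hK2 x h)
  let Pb : Sylow p (H ⧸ K) := P.mapSurjective (QuotientGroup.mk'_surjective K)
  have hPb : ¬ (Pb : Subgroup (H ⧸ K)).Normal := by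
    intro hn
    apply hP
    have h1 : ((Pb : Subgroup (H ⧸ K)).comap (QuotientGroup.mk' K)).Normal := hn.comap _
    rw [Sylow.coe_mapSurjective, comap_map_eq, QuotientGroup.ker_mk'] at h1
    exact h1
  have hcard' : Nat.card (H ⧸ K) ≤ Nat.card H :=
    Nat.card_le_card_of_surjective _ (QuotientGroup.mk'_surjective K)
  haveI := hsolv
  have key := ih (Nat.card (H ⧸ K)) (lt_of_le_of_lt hcard' hcard) (H ⧸ K) rfl inferInstance ψ hψ
    hfaith Pb hPb
  have hdeg : charDegree ψ = charDegree η := by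
    unfold charDegree
    rw [hψ1]
  rw [hdeg] at key
  exact key

/-- In a sup with a normal subgroup `K`, elements of order prime to `p` of `P K` lie in `K` when
`P` is a `p`-group. -/
theorem mem_of_coprime_of_mem_sup {H : Type*} [Group H] [Finite H] {p : ℕ} [hp : Fact p.Prime]
    (P K : Subgroup H) [hK : K.Normal] (hP : IsPGroup p P) (x : H) (hx : x ∈ P ⊔ K)
    (hcop : (orderOf x).Coprime p) : x ∈ K := by
  set f := QuotientGroup.mk' K with hf
  have h1 : f x ∈ (P ⊔ K).map f := mem_map_of_mem f hx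
  have h2 : (P ⊔ K).map f = P.map f := by
    rw [Subgroup.map_sup]
    have : K.map f = ⊥ := by
      rw [Subgroup.map_eq_bot_iff, QuotientGroup.ker_mk']
    rw [this, sup_bot_eq]
  rw [h2] at h1
  have hPf : IsPGroup p (P.map f) := hP.map f
  obtain ⟨j, hj⟩ := hPf ⟨f x, h1⟩
  have hj' : (f x) ^ p ^ j = 1 := by
    have := congrArg Subtype.val hj
    simpa using this
  have h3 : (f x) ^ orderOf x = 1 := by
    rw [← map_pow, pow_orderOf_eq_one, map_one]
  have h4 : (f x) ^ Nat.gcd (p ^ j) (orderOf x) = 1 := pow_gcd_eq_one.2 ⟨hj', h3⟩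
  have hc : Nat.Coprime (p ^ j) (orderOf x) := (Nat.Coprime.pow_right j hcop).symm
  rw [hc, pow_one] at h4
  rw [← QuotientGroup.ker_mk' K]
  exact h4


/-- a subgroup without nontrivial `p'`-elements is a `p`-group -/
theorem isPGroup_of_coprime_eq_one {H : Type*} [Group H] [Finite H] {p : ℕ} [hp : Fact p.Prime]
    (X : Subgroup H) (h : ∀ g ∈ X, (orderOf g).Coprime p → g = 1) : IsPGroup p X := by
  intro g
  have hn0 : orderOf (g : H) ≠ 0 := (orderOf_pos (g : H)).ne'
  obtain ⟨e, m, hm, hem⟩ := Nat.exists_eq_pow_mul_and_not_dvd hn0 p hp.out.ne_one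
  refine ⟨e, ?_⟩
  have h1 : ((g : H) ^ (p ^ e)) ^ m = 1 := by
    rw [← pow_mul, ← hem, pow_orderOf_eq_one]
  have h2 : orderOf ((g : H) ^ (p ^ e)) ∣ m := orderOf_dvd_of_pow_eq_one h1
  have h3 : (orderOf ((g : H) ^ (p ^ e))).Coprime p :=
    Nat.Coprime.coprime_dvd_left h2 ((Nat.Prime.coprime_iff_not_dvd hp.out).mpr hm).symm
  have h4 := h _ (X.pow_mem g.2 _) h3
  apply Subtype.ext
  rw [Subgroup.coe_pow, h4]
  rfl

/-- Reduction to a proper normal subgroup containing the Sylow subgroup. -/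
theorem red_normal {p : ℕ} [hp : Fact p.Prime] {k : ℕ} (ih : FaithfulBelow.{u} p k)
    {G : Type u} [Group G] [Finite G] (hcard : Nat.card G = k) (hsolv : Group.IsSolvable G)
    (χ : G → ℂ) (hχ : IsIrrCharacter G χ) (hfaith : ∀ g : G, χ g = χ 1 → g = 1)
    (P : Sylow p G) (hP : ¬ (P : Subgroup G).Normal) (N : Subgroup G) [hN : N.Normal]
    (hNtop : N ≠ ⊤) (hPN : (P : Subgroup G) ≤ N) : Good p (charDegree χ) := by
  classical
  haveI : Fintype G := Fintype.ofFinite G
  haveI : Fintype N := Fintype.ofFinite N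
  haveI : Finite (IrrCharacter N) := Cfsg.Agent.Lib.Helper3.irrCharacter_finite
  haveI : Fintype (IrrCharacter N) := Fintype.ofFinite _
  have hχc : IsCharacter G χ := isCharacter_of_isIrrCharacter hχ
  set χN : N → ℂ := fun x => χ x with hχN
  have hχNc : IsCharacter N χN := isCharacter_restrict hχc N
  obtain ⟨m, hm, hdec⟩ := Cfsg.Agent.Lib.Helper15.exists_nat_decomp hχNc
  let PN : Sylow p N := P.subtype hPN
  have hPNcoe : (PN : Subgroup N) = (P : Subgroup G).subgroupOf N := Sylow.coe_subtype P hPN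
  let K : IrrCharacter N → Subgroup N := fun η => charKer (isCharacter_of_isIrrCharacter η.2)
  have hKn : ∀ η, (K η).Normal := fun η => charKer_normal _
  have hKmem : ∀ (η : IrrCharacter N) (x : N), x ∈ K η ↔ (η : N → ℂ) x = (η : N → ℂ) 1 :=
    fun η x => mem_charKer _ x
  have hex : ∃ η : IrrCharacter N, m η ≠ 0 ∧ ¬ ((PN : Subgroup N) ⊔ K η).Normal := by
    by_contra hcon
    push Not at hcon
    apply hP
    set L : Subgroup N :=
      ⨅ η : {η : IrrCharacter N // m η ≠ 0}, ((PN : Subgroup N) ⊔ K η.1) with hL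
    have hLn : L.Normal := normal_iInf_normal (fun η => hcon η.1 η.2)
    have hPL : (PN : Subgroup N) ≤ L := le_iInf (fun η => le_sup_left)
    have hLp : IsPGroup p L := by
      apply isPGroup_of_coprime_eq_one
      intro x hx hcop
      have hxK : ∀ η : IrrCharacter N, m η ≠ 0 → x ∈ K η := by
        intro η hη
        haveI := hKn η
        have hle : L ≤ (PN : Subgroup N) ⊔ K η :=
          iInf_le (fun η : {η : IrrCharacter N // m η ≠ 0} => (PN : Subgroup N) ⊔ K η.1) ⟨η, hη⟩
        exact mem_of_coprime_of_mem_sup (PN : Subgroup N) (K η) PN.2 x (hle hx) hcop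
      have hval : χN x = χN 1 := by
        rw [hdec, Finset.sum_apply, Finset.sum_apply]
        apply Finset.sum_congr rfl
        intro η _
        rw [Pi.smul_apply, Pi.smul_apply]
        by_cases hη : m η = 0
        · rw [hη]
          simp
        · rw [(hKmem η x).1 (hxK η hη)]
      have h1 : (x : G) = 1 := hfaith (x : G) hval
      exact Subtype.ext h1
    have hLP : L = (PN : Subgroup N) := PN.is_maximal' hLp hPL
    have hPNn : (PN : Subgroup N).Normal := hLP ▸ hLn
    haveI : (PN : Subgroup N).Characteristic := Sylow.characteristic_of_normal PN hPNn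
    have h1 : ((PN : Subgroup N).map N.subtype).Normal :=
      ConjAct.normal_of_characteristic_of_normal
    rw [hPNcoe, map_subgroupOf_eq_of_le hPN] at h1
    exact h1
  obtain ⟨η, hηm, hηP⟩ := hex
  have hne : classInner χN (η : N → ℂ) ≠ 0 := by
    rw [hm η]
    exact_mod_cast hηm
  have hcl := clifford_degree N hχ η.2 hne
  have hη1 := Cfsg.Agent.Lib.Helper81.irr_apply_one_eq_charDegree η
  have hχ1 := Cfsg.Agent.Lib.Helper81.irr_apply_one_eq_charDegree (⟨χ, hχ⟩ : IrrCharacter G)
  simp only [] at hχ1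
  rw [hm η, hη1, hχ1] at hcl
  have hcl' : charDegree χ = m η * (inertia N (η : N → ℂ)).index * charDegree (η : N → ℂ) := by
    exact_mod_cast hcl
  have hdvd : charDegree (η : N → ℂ) ∣ charDegree χ :=
    ⟨m η * (inertia N (η : N → ℂ)).index, by rw [hcl']; ring⟩
  have hlt : Nat.card N < k := by
    rw [← hcard]
    exact lt_of_le_of_ne (card_le_card_group N) (fun h => hNtop ((card_eq_iff_eq_top N).1 h))
  haveI := hKn η
  haveI := hsolv
  have key := gen_of_below ih hlt inferInstance (η : N → ℂ) η.2 (K η)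
    (fun x hx => (hKmem η x).1 hx) (fun x hx => (hKmem η x).2 hx) PN hηP
  exact key.mono hdvd


/-- `p ∣ d² - 1` gives `d ≡ ±1 (mod p)`. -/
theorem good_of_sq_sub_one {p d n : ℕ} (hp : p.Prime) (hd : IsPrimePow d) (hdn : d ∣ n)
    (h : p ∣ d ^ 2 - 1) : Good p n := by
  have hd1 : 1 ≤ d := hd.pos
  have hfac : d ^ 2 - 1 = (d - 1) * (d + 1) := by
    obtain ⟨c, rfl⟩ : ∃ c, d = c + 1 := ⟨d - 1, by omega⟩
    have : (c + 1) ^ 2 = c * (c + 1 + 1) + 1 := by ring
    rw [this]
    simp
  rw [hfac] at h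
  rcases (Nat.Prime.dvd_mul hp).1 h with h1 | h1
  · refine ⟨d, hd, hdn, Or.inr (Or.inr ?_)⟩
    rw [Int.modEq_iff_dvd]
    have h2 : ((p : ℕ) : ℤ) ∣ ((d - 1 : ℕ) : ℤ) := Int.natCast_dvd_natCast.2 h1
    rw [Nat.cast_sub hd1] at h2
    have h3 : (1 : ℤ) - (d : ℤ) = -((d : ℤ) - ((1 : ℕ) : ℤ)) := by
      push_cast
      ring
    rw [h3]
    exact (dvd_neg).2 h2
  · refine ⟨d, hd, hdn, Or.inl ?_⟩
    rw [Int.modEq_iff_dvd]
    have h2 : ((p : ℕ) : ℤ) ∣ ((d + 1 : ℕ) : ℤ) := Int.natCast_dvd_natCast.2 h1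
    have h3 : (-1 : ℤ) - (d : ℤ) = -(((d + 1 : ℕ) : ℤ)) := by
      push_cast
      ring
    rw [h3]
    exact (dvd_neg).2 h2

/-- **Ito's theorem**, by induction on the group order. -/
theorem ito_aux (p : ℕ) [hp : Fact p.Prime] : ∀ (k : ℕ) (G : Type u) [Group G] [Finite G],
    Nat.card G = k → Group.IsSolvable G → ∀ χ : G → ℂ, IsIrrCharacter G χ →
    (∀ g : G, χ g = χ 1 → g = 1) → ∀ P : Sylow p G, ¬ (P : Subgroup G).Normal →
    Good p (charDegree χ) := by
  intro k
  induction k using Nat.strong_induction_on with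
  | _ k ih =>
  intro G _ _ hcard hsolv χ hχ hfaith P hP
  classical
  have ih' : FaithfulBelow.{u} p k := fun m hm G _ _ hc hs χ hχ hf P hP =>
    ih m hm G hc hs χ hχ hf P hP
  haveI : Fintype G := Fintype.ofFinite G
  haveI := hsolv
  have hχc : IsCharacter G χ := isCharacter_of_isIrrCharacter hχ
  have hχ1 := Cfsg.Agent.Lib.Helper81.irr_apply_one_eq_charDegree (⟨χ, hχ⟩ : IrrCharacter G)
  simp only [] at hχ1
  set n := charDegree χ with hn
  by_cases hind : ∃ (T : Subgroup G) (ψ : T → ℂ), T ≠ ⊤ ∧ IsIrrCharacter T ψ ∧ indFun T ψ = χ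
  · -- the imprimitive case
    obtain ⟨T, ψ, hTtop, hψ, hindψ⟩ := hind
    have hTn : T.index ∣ n := by
      have h1 := indFun_apply_one T ψ
      rw [hindψ, hχ1] at h1
      have hψ1 := Cfsg.Agent.Lib.Helper81.irr_apply_one_eq_charDegree (⟨ψ, hψ⟩ : IrrCharacter T)
      simp only [] at hψ1
      rw [hψ1] at h1
      have h2 : (Nat.card G : ℂ) = (Nat.card T : ℂ) * (T.index : ℂ) := by
        rw [← Nat.cast_mul, Subgroup.card_mul_index]
      have hT0 : (Nat.card T : ℂ) ≠ 0 := by
        exact_mod_cast (Nat.card_pos (α := T)).ne'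
      rw [h2] at h1
      have h3 : (n : ℂ) = (T.index : ℂ) * (charDegree ψ : ℂ) := by
        rw [h1]
        field_simp
      refine ⟨charDegree ψ, ?_⟩
      exact_mod_cast h3
    by_cases hPT : (P : Subgroup G) ≤ T.normalCore
    · haveI : (T.normalCore).Normal := normalCore_normal T
      have hNtop : T.normalCore ≠ ⊤ := by
        intro h
        apply hTtop
        rw [eq_top_iff, ← h]
        exact normalCore_le T
      exact red_normal ih' hcard hsolv χ hχ hfaith P hP T.normalCore hNtop hPT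
    · exact ((good_index T (P : Subgroup G) P.2 hPT).good).mono hTn
  · -- the quasi-primitive case
    push Not at hind
    have hinert : ∀ (N : Subgroup G) [hN : N.Normal] [Fintype N] (θ : IrrCharacter N),
        classInner (fun x : N => χ x) (θ : N → ℂ) ≠ 0 → inertia N (θ : N → ℂ) = ⊤ := by
      intro N hN _ θ hne
      by_contra htop
      obtain ⟨ψ, hψ, hψind, -⟩ := clifford_correspondence N hχ θ.2 hne
      exact hind _ ψ htop hψ hψind.symm
    have hab : ∀ A : Subgroup G, A.Normal → (∀ a ∈ A, ∀ b ∈ A, a * b = b * a) →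
        A ≤ center G := by
      intro A hA hcomm
      by_contra hnc
      haveI := hA
      obtain ⟨T, ψ, h1, h2, h3⟩ :=
        Cfsg.Agent.Lib.Helper76.exists_proper_induced_of_normal_abelian hχ hfaith A hcomm hnc
      exact hind T ψ h1 h2 h3
    have hcen : center G ≠ ⊤ := by
      intro h
      apply hP
      refine ⟨fun x hx g => ?_⟩
      have hg : g ∈ center G := h ▸ mem_top g
      have : g * x * g⁻¹ = x := by
        rw [← mem_center_iff.1 hg x]
        group
      rw [this]
      exact hx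
    obtain ⟨r, Q, hr, hQn, hQr, hQZ, hQ2, hQ4⟩ := exists_normal_rgroup hab hcen
    haveI := hQn
    haveI : Fact r.Prime := ⟨hr⟩
    haveI : Fintype Q := Fintype.ofFinite Q
    by_cases hpr : p = r
    · -- a nonlinear constituent of `χ_Q`
      have hex : ∃ θ : IrrCharacter Q, classInner (fun x : Q => χ x) (θ : Q → ℂ) ≠ 0 ∧
          (θ : Q → ℂ) 1 ≠ 1 := by
        by_contra hcon
        push Not at hcon
        exact hQZ (le_center_of_linear_constituents Q hχc hfaith (fun θ h => hinert Q θ h) hcon)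
      obtain ⟨θ, hθne, hθ1⟩ := hex
      have hcl := clifford_degree Q hχ θ.2 hθne
      obtain ⟨e, he⟩ := Cfsg.Agent.Lib.Helper15.exists_nat_classInner
        (isCharacter_restrict hχc Q) (isCharacter_of_isIrrCharacter θ.2)
      have hθd := Cfsg.Agent.Lib.Helper81.irr_apply_one_eq_charDegree θ
      rw [he, hθd, hχ1] at hcl
      have hcl' : n = e * (inertia Q (θ : Q → ℂ)).index * charDegree (θ : Q → ℂ) := by
        exact_mod_cast hcl
      have hdvd : charDegree (θ : Q → ℂ) ∣ n :=
        ⟨e * (inertia Q (θ : Q → ℂ)).index, by rw [hcl']; ring⟩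
      obtain ⟨j, hj⟩ := IsPGroup.iff_card.1 hQr
      have hdcard : charDegree (θ : Q → ℂ) ∣ Nat.card Q := charDegree_dvd_card θ
      rw [hj] at hdcard
      obtain ⟨i, _, hi⟩ := (Nat.dvd_prime_pow hr).1 hdcard
      have hi0 : i ≠ 0 := by
        intro h0
        apply hθ1
        rw [hθd, hi, h0, pow_zero]
        simp
      refine ⟨r ^ i, ⟨r, i, hr.prime, Nat.pos_of_ne_zero hi0, rfl⟩, hi ▸ hdvd, Or.inr (Or.inl ?_)⟩
      rw [Int.modEq_zero_iff_dvd, hpr]
      push_cast
      exact dvd_pow_self _ hi0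
    · by_cases hPC : (P : Subgroup G) ≤ centralizer (Q : Set G)
      · have hCtop : centralizer (Q : Set G) ≠ ⊤ := by
          intro h
          apply hQZ
          intro x hx
          rw [mem_center_iff]
          intro g
          have hg : g ∈ centralizer (Q : Set G) := h ▸ mem_top g
          rw [mem_centralizer_iff] at hg
          exact (hg x hx).symm
        exact red_normal ih' hcard hsolv χ hχ hfaith P hP (centralizer (Q : Set G)) hCtop hPC
      · obtain ⟨Q₁, hQ₁Q, hnorm, hcenter, hfix, hnab⟩ :=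
          coprime_structure hpr Q (P : Subgroup G) hQr P.2 hQ2 hQ4 hPC
        obtain ⟨d, hd, hdn, hdp⟩ := class_two_degree hpr (⟨χ, hχ⟩ : IrrCharacter G) hfaith n hχ1
          Q₁ (P : Subgroup G) (hQr.to_le hQ₁Q) P.2 hnorm
          (fun a ha b hb => hQ2 a (hQ₁Q ha) b (hQ₁Q hb)) hcenter hfix hnab
        exact good_of_sq_sub_one hp.out hd hdn hdp

/-- **Ito's theorem** on solvable irreducible linear groups. -/
theorem ito {G : Type u} [Group G] [Finite G] (χ : G → ℂ) (hχ : IsIrrCharacter G χ)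
    (hfaith : ∀ g : G, χ g = χ 1 → g = 1) (hsolv : Group.IsSolvable G) (p : ℕ) (hp : p.Prime)
    (P : Sylow p G) (hP : ¬ (P : Subgroup G).Normal) : Good p (charDegree χ) := by
  haveI : Fact p.Prime := ⟨hp⟩
  exact ito_aux p (Nat.card G) G rfl hsolv χ hχ hfaith P hP

end Cfsg.Agent.Lib.Helper82.Ito
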