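import Cfsg.Agent.Lib.Helper82.SylExtA
import Cfsg.Agent.Lib.Helper2.Tate5
import Cfsg.Agent.Lib.Helper2.PResidual
import Cfsg.Agent.Lib.Helper33.NormalPComp

set_option autoImplicit false
open Cfsg
open scoped ComplexConjugate commutatorElement

/-!
Characters of degree prime to `p` and normal subgroups lying in all of their kernels.
-/

namespace Cfsg.Agent.Lib.Helper82.PrinTwo

universe u

section Sep

variable {H : Type u} [Group H] [Finite H]

/-- Let `A` be a subgroup of index prime to `p` and `x ∈ A` outside the derived subgroup of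
`A`.  Then some irreducible character of degree prime to `p` does not have `x` in its kernel. -/
theorem exists_irr_coprime_sep' (p : ℕ) [Fact p.Prime] (A : Subgroup H)
    (hidx : ¬ p ∣ A.index) {x : H} (hx : x ∈ A) (hx' : x ∉ ⁅A, A⁆) :
    ∃ θ : IrrCharacter H, ¬ p ∣ charDegree (θ : H → ℂ) ∧
      (θ : H → ℂ) x ≠ (θ : H → ℂ) 1 := by
  classical
  haveI : Fintype H := Fintype.ofFinite _
  haveI : Fintype A := Fintype.ofFinite _
  haveI : Finite (IrrCharacter H) := Cfsg.Agent.Lib.Helper3.irrCharacter_finite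
  haveI : Fintype (IrrCharacter H) := Fintype.ofFinite _
  have ha : (⟨x, hx⟩ : A) ∉ commutator A := by
    intro h
    apply hx'
    rw [← Subgroup.map_subtype_commutator]
    exact ⟨⟨x, hx⟩, h, rfl⟩
  obtain ⟨φ, hφ⟩ := Cfsg.Agent.Lib.Helper79.exists_linear_apply_ne_one ha
  set lamF : A → ℂ := fun y => ((φ y : ℂˣ) : ℂ) with hlamF
  have hlam : IsIrrCharacter A lamF := Cfsg.Agent.Lib.Helper79.isIrrCharacter_of_monoidHom φ
  have hlamc : IsCharacter A lamF := Cfsg.Agent.Lib.Helper3.IsIrrCharacter.isCharacter hlam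
  set Ψ : H → ℂ := indFun A lamF with hΨdef
  have hΨ : IsCharacter H Ψ := Cfsg.Agent.Lib.Helper3.isCharacter_indFun A hlamc
  have hΨ1 : Ψ 1 = (A.index : ℂ) := by
    rw [hΨdef, Cfsg.Agent.S1492.indFun_one]
    simp [hlamF]
  obtain ⟨m, hm, hdec⟩ := Cfsg.Agent.Lib.Helper15.exists_nat_decomp hΨ
  have hsum : (A.index : ℂ) =
      ∑ ψ : IrrCharacter H, ((m ψ * charDegree (ψ : H → ℂ) : ℕ) : ℂ) := by
    rw [← hΨ1]
    conv_lhs => rw [hdec]
    rw [Finset.sum_apply]
    refine Finset.sum_congr rfl (fun ψ _ => ?_)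
    rw [Pi.smul_apply, smul_eq_mul, ← Cfsg.Agent.Lib.Helper80.irr_charDegree_cast ψ]
    push_cast
    rfl
  have hsum' : A.index = ∑ ψ : IrrCharacter H, m ψ * charDegree (ψ : H → ℂ) := by
    exact_mod_cast hsum
  have hex : ∃ ψ : IrrCharacter H, m ψ ≠ 0 ∧ ¬ p ∣ charDegree (ψ : H → ℂ) := by
    by_contra hcon
    push Not at hcon
    apply hidx
    rw [hsum']
    apply Finset.dvd_sum
    intro ψ _
    by_cases h0 : m ψ = 0
    · simp [h0]
    · exact Dvd.dvd.mul_left (hcon ψ h0) _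
  obtain ⟨ψ, hmψ, hpψ⟩ := hex
  have hinner : classInner Ψ (ψ : H → ℂ) ≠ 0 := by
    rw [hm ψ]; exact_mod_cast hmψ
  refine ⟨ψ, hpψ, ?_⟩
  intro hxker
  have hcf : IsClassFunction H (ψ : H → ℂ) :=
    Cfsg.Agent.Lib.Helper3.IsCharacter.isClassFunction
      (Cfsg.Agent.Lib.Helper3.IsIrrCharacter.isCharacter ψ.2)
  have hfr := Cfsg.Agent.Lib.Helper25.frobenius_reciprocity A lamF (ψ : H → ℂ) hcf
  have h1 : classInner lamF (fun h : A => (ψ : H → ℂ) h) ≠ 0 := by
    rw [← hfr]; exact hinner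
  have h2 : classInner (fun h : A => (ψ : H → ℂ) h) lamF ≠ 0 := by
    rw [Cfsg.Agent.Lib.Helper3.classInner_conj_symm]
    intro h
    apply h1
    simpa using h
  have hres : IsCharacter A (fun h : A => (ψ : H → ℂ) h) :=
    Cfsg.Agent.Lib.Helper79.isCharacter_restrict
      (Cfsg.Agent.Lib.Helper3.IsIrrCharacter.isCharacter ψ.2) A
  have h3 := Cfsg.Agent.S1492.constituent_eq_degree hres hlam h2 ⟨x, hx⟩ hxker
  apply hφ
  have h4 : ((φ ⟨x, hx⟩ : ℂˣ) : ℂ) = ((φ 1 : ℂˣ) : ℂ) := h3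
  rw [map_one] at h4
  exact Units.ext (by simpa using h4)

/-- An element whose order is both a power of `p` and prime to `p` modulo a normal subgroup. -/
theorem mem_of_pow_eq_one_of_coprime {X : Type*} [Group X] (W : Subgroup X) [W.Normal]
    {g : X} {a b : ℕ} (ha : g ^ a ∈ W) (hb : g ^ b ∈ W) (hab : a.Coprime b) : g ∈ W := by
  have h1 : ((g : X ⧸ W)) ^ a = 1 := by
    rw [← QuotientGroup.mk_pow]; exact (QuotientGroup.eq_one_iff _).mpr ha
  have h2 : ((g : X ⧸ W)) ^ b = 1 := by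
    rw [← QuotientGroup.mk_pow]; exact (QuotientGroup.eq_one_iff _).mpr hb
  have h3 := pow_gcd_eq_one.mpr ⟨h1, h2⟩
  rw [Nat.Coprime.gcd_eq_one hab, pow_one] at h3
  exact (QuotientGroup.eq_one_iff _).mp h3

/-- Suppose `O_{p'}(H) = 1` and the normal subgroup `L` lies in the kernel of every irreducible
character of `H` of degree prime to `p`.  Then a normal subgroup `V ≥ L` with `|V : L|` prime to
`p` equals `L`, and lies in the derived subgroup of every Sylow `p`-subgroup. -/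
theorem normal_le_of_kernel (p : ℕ) [hp : Fact p.Prime]
    (hO : ∀ C : Subgroup H, C.Normal → (Nat.card C).Coprime p → C = ⊥)
    (L : Subgroup H) [hLn : L.Normal]
    (hL : ∀ ψ : IrrCharacter H, ¬ p ∣ charDegree (ψ : H → ℂ) →
      ∀ y ∈ L, (ψ : H → ℂ) y = (ψ : H → ℂ) 1)
    (P : Sylow p H) (V : Subgroup H) [hVn : V.Normal] (hLV : L ≤ V)
    (hidx : ¬ p ∣ L.relIndex V) :
    V ≤ L ∧ V ≤ ⁅(P : Subgroup H), (P : Subgroup H)⁆ := by
  classical
  have hpp : p.Prime := hp.out
  -- `p`-elements of `V` lie in `L`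
  have h1 : ∀ x ∈ V, x ∈ (P : Subgroup H) → x ∈ L := by
    intro x hxV hxP
    obtain ⟨k, hk⟩ := P.isPGroup' ⟨x, hxP⟩
    have hk' : x ^ p ^ k = 1 := by
      have := congrArg Subtype.val hk
      simpa using this
    haveI : (L.subgroupOf V).Normal := Subgroup.Normal.subgroupOf hLn V
    have hmem : (⟨x, hxV⟩ : V) ∈ L.subgroupOf V := by
      apply mem_of_pow_eq_one_of_coprime (L.subgroupOf V) (a := p ^ k) (b := L.relIndex V)
      · have : (⟨x, hxV⟩ : V) ^ p ^ k = 1 := Subtype.ext (by simpa using hk')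
        rw [this]; exact Subgroup.one_mem _
      · have h2 : ((⟨x, hxV⟩ : V) : V ⧸ L.subgroupOf V) ^ Nat.card (V ⧸ L.subgroupOf V) = 1 :=
          pow_card_eq_one'
        rw [← QuotientGroup.mk_pow] at h2
        exact (QuotientGroup.eq_one_iff _).mp h2
      · exact Nat.Coprime.pow_left k ((Nat.Prime.coprime_iff_not_dvd hpp).mpr hidx)
    exact Subgroup.mem_subgroupOf.mp hmem
  -- elements of `L ∩ P` lie in `P'`
  have h2 : ∀ x ∈ L, x ∈ (P : Subgroup H) → x ∈ ⁅(P : Subgroup H), (P : Subgroup H)⁆ := by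
    intro x hxL hxP
    by_contra hx'
    obtain ⟨θ, hθ1, hθ2⟩ := exists_irr_coprime_sep' p (P : Subgroup H) P.not_dvd_index hxP hx'
    exact hθ2 (hL θ hθ1 x hxL)
  -- the group `X = P V`
  set X : Subgroup H := (P : Subgroup H) ⊔ V with hXdef
  have hPX : (P : Subgroup H) ≤ X := le_sup_left
  have hVX : V ≤ X := le_sup_right
  set P₁ : Sylow p X := P.subtype hPX with hP₁def
  have hP₁coe : (P₁ : Subgroup X) = (P : Subgroup H).subgroupOf X := Sylow.coe_subtype _ _
  have hmapP : (P₁ : Subgroup X).map X.subtype = (P : Subgroup H) := by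
    rw [hP₁coe]; exact Subgroup.map_subgroupOf_eq_of_le hPX
  set N₁ : Subgroup X := V.subgroupOf X with hN₁def
  haveI hN₁n : N₁.Normal := Subgroup.Normal.subgroupOf hVn X
  have hPN : (P₁ : Subgroup X) ⊔ N₁ = ⊤ := by
    rw [hP₁coe, hN₁def, ← Subgroup.subgroupOf_sup hPX hVX, ← hXdef, Subgroup.subgroupOf_self]
  have hF : ∀ μ : (P₁ : Subgroup X) →* Multiplicative (ZMod p), ∀ k : (P₁ : Subgroup X),
      (k : X) ∈ N₁ → μ k = 1 := by
    intro μ k hk
    have hkV : ((k : X) : H) ∈ V := Subgroup.mem_subgroupOf.mp hk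
    have hkP : ((k : X) : H) ∈ (P : Subgroup H) := by
      have h0 : (k : X) ∈ (P : Subgroup H).subgroupOf X := by
        rw [← hP₁coe]; exact k.2
      exact Subgroup.mem_subgroupOf.mp h0
    have hkc := h2 _ (h1 _ hkV hkP) hkP
    have hcomm : ((commutator (P₁ : Subgroup X)).map (P₁ : Subgroup X).subtype).map X.subtype =
        ⁅(P : Subgroup H), (P : Subgroup H)⁆ := by
      rw [Subgroup.map_subtype_commutator, Subgroup.map_commutator, hmapP]
    rw [← hcomm] at hkc
    obtain ⟨w', ⟨w, hw, rfl⟩, hw'⟩ := hkc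
    have hwk : w = k := by
      apply Subtype.ext
      apply Subtype.ext
      exact hw'
    rw [← hwk]
    have := Abelianization.commutator_subset_ker μ hw
    exact MonoidHom.mem_ker.mp this
  have h3 := Cfsg.Agent.Lib.Helper2.not_dvd_card_pResidual_of_hom_kill P₁ N₁ hPN hF
  obtain ⟨K', hK'n, hK'c⟩ :=
    (Cfsg.Agent.Lib.Helper2.exists_normal_complement_iff_not_dvd_card_pResidual P₁).mpr h3
  have hi1 : (P₁ : Subgroup X).index = Nat.card K' := hK'c.index_eq_card
  have hi2 : K'.index = Nat.card (P₁ : Subgroup X) := hK'c.symm.index_eq_card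
  have hcop : (Nat.card K').Coprime p := by
    rw [← hi1, Nat.coprime_comm, Nat.Prime.coprime_iff_not_dvd hpp]
    exact P₁.not_dvd_index
  obtain ⟨k, hk⟩ := (IsPGroup.iff_card.mp P₁.isPGroup')
  have hidx' : K'.index = p ^ k := by rw [hi2, hk]
  have hmem := Cfsg.Agent.Lib.Helper33.mem_iff_coprime_of_normal_hall K' hcop hidx'
  have hconj : ∀ g x : H, orderOf (g * x * g⁻¹) = orderOf x := by
    intro g x
    have h1 : g * x * g⁻¹ = MulAut.conj g x := by rw [MulAut.conj_apply]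
    rw [h1]
    exact orderOf_injective (MulAut.conj g).toMonoidHom (MulAut.conj g).injective x
  -- `p'`-elements of `X` lie in `V`
  have hKV : ∀ n : X, (orderOf n).Coprime p → (n : H) ∈ V := by
    intro n hn
    have hnX : (n : H) ∈ (P : Subgroup H) ⊔ V := n.2
    obtain ⟨y, hy, z, hz, hyz⟩ := Subgroup.mem_sup_of_normal_right.mp hnX
    obtain ⟨j, hj⟩ := P.isPGroup' ⟨y, hy⟩
    have hj' : y ^ p ^ j = 1 := by
      have := congrArg Subtype.val hj
      simpa using this
    have hord : orderOf (n : H) = orderOf n := Subgroup.orderOf_coe n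
    apply mem_of_pow_eq_one_of_coprime V (a := orderOf (n : H)) (b := p ^ j)
    · rw [pow_orderOf_eq_one]; exact Subgroup.one_mem _
    · -- `n = y z`, so `n ^ (p^j) ≡ y ^ (p^j) = 1` modulo `V`
      have hq : ((n : H) : H ⧸ V) = (y : H ⧸ V) := by
        rw [← hyz, QuotientGroup.mk_mul, (QuotientGroup.eq_one_iff z).mpr hz, mul_one]
      have : (((n : H) ^ p ^ j : H) : H ⧸ V) = 1 := by
        rw [QuotientGroup.mk_pow, hq, ← QuotientGroup.mk_pow, hj', QuotientGroup.mk_one]
      exact (QuotientGroup.eq_one_iff _).mp this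
    · rw [hord]; exact Nat.Coprime.pow_right j hn
  have hCn : (K'.map X.subtype).Normal := by
    constructor
    rintro _ ⟨n, hn, rfl⟩ g
    have hn' : n ∈ K' := hn
    have hnc : (orderOf n).Coprime p := (hmem n).mp hn'
    have hx : g * (n : H) * g⁻¹ ∈ X := hVX (hVn.conj_mem _ (hKV n hnc) g)
    refine ⟨⟨g * (n : H) * g⁻¹, hx⟩, ?_, rfl⟩
    change (⟨g * (n : H) * g⁻¹, hx⟩ : X) ∈ K'
    rw [hmem]
    have h1 : orderOf (⟨g * (n : H) * g⁻¹, hx⟩ : X) = orderOf (g * (n : H) * g⁻¹) := by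
      rw [← Subgroup.orderOf_coe]
    have h2 : orderOf (n : X) = orderOf (n : H) := by rw [← Subgroup.orderOf_coe]
    rw [h1, hconj, ← h2]
    exact hnc
  have hcardC : Nat.card (K'.map X.subtype) = Nat.card K' :=
    Nat.card_congr (K'.equivMapOfInjective _ (Subgroup.subtype_injective _)).symm.toEquiv
  have hCbot : K'.map X.subtype = ⊥ := hO _ hCn (by rw [hcardC]; exact hcop)
  have hK'bot : K' = ⊥ :=
    (Subgroup.map_eq_bot_iff_of_injective K' (Subgroup.subtype_injective X)).mp hCbot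
  have hP₁top : (P₁ : Subgroup X) = ⊤ := by
    rw [← Subgroup.index_eq_one, hi1, hK'bot]
    exact Subgroup.card_bot
  have hVP : V ≤ (P : Subgroup H) := by
    intro v hv
    have : (⟨v, hVX hv⟩ : X) ∈ (P₁ : Subgroup X) := by rw [hP₁top]; exact Subgroup.mem_top _
    rw [hP₁coe, Subgroup.mem_subgroupOf] at this
    exact this
  exact ⟨fun v hv => h1 v hv (hVP hv), fun v hv => h2 v (h1 v hv (hVP hv)) (hVP hv)⟩

end Sep

end Cfsg.Agent.Lib.Helper82.PrinTwo
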