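import Cfsg.Agent.Lib.Helper82.GlaubSolvCount
import Cfsg.Agent.Lib.Helper82.PrinTwoA
import Cfsg.Agent.Lib.Helper79.CliffordCorr
import Cfsg.Agent.Lib.Helper81.ExtendP

set_option autoImplicit false
set_option linter.style.haveILetI false
open Cfsg
open scoped ComplexConjugate commutatorElement

/-!
Normal subgroups on which a Sylow `p`-subgroup acts without fixed points lie in the kernel of
every irreducible character of degree prime to `p`.
-/

namespace Cfsg.Agent.Lib.Helper82.KerP

universe u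

section A

variable {G : Type u} [Group G] [Finite G]

/-- A `p`-subgroup with trivial centralizer in the normal subgroup `N` forces `p ∤ |N|`. -/
theorem coprime_of_centralizer_inf_eq_bot (p : ℕ) [hp : Fact p.Prime] (P : Subgroup G)
    (hP : IsPGroup p P) (N : Subgroup G) [hNn : N.Normal]
    (hN : N ⊓ Subgroup.centralizer (P : Set G) = ⊥) : (Nat.card N).Coprime (Nat.card P) := by
  classical
  letI : MulAction P N := MulAction.compHom N ((MulAut.conjNormal (H := N)).comp P.subtype)
  have hsmul : ∀ (x : P) (n : N), ((x • n : N) : G) = (x : G) * n * (x : G)⁻¹ := by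
    intro x n
    show ((MulAut.conjNormal (x : G) n : N) : G) = _
    rw [MulAut.conjNormal_apply]
  have hfix : ∀ n : N, n ∈ MulAction.fixedPoints P N → n = 1 := by
    intro n hn
    have h1 : (n : G) ∈ N ⊓ Subgroup.centralizer (P : Set G) := by
      refine ⟨n.2, ?_⟩
      show (n : G) ∈ Subgroup.centralizer (P : Set G)
      rw [Subgroup.mem_centralizer_iff]
      intro x hx
      have h2 := hn ⟨x, hx⟩
      have h3 := congrArg Subtype.val h2
      rw [hsmul] at h3
      have h4 : x * (n : G) * x⁻¹ = (n : G) := h3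
      calc x * (n : G) = x * (n : G) * x⁻¹ * x := by group
        _ = (n : G) * x := by rw [h4]
    rw [hN, Subgroup.mem_bot] at h1
    exact Subtype.ext h1
  have hcard : Nat.card (MulAction.fixedPoints P N) = 1 := by
    rw [Nat.card_eq_one_iff_unique]
    refine ⟨⟨fun a b => Subtype.ext ((hfix a a.2).trans (hfix b b.2).symm)⟩, ⟨⟨1, ?_⟩⟩⟩
    intro x
    apply Subtype.ext
    rw [hsmul]
    simp
  have hmod := hP.card_modEq_card_fixedPoints N
  rw [hcard] at hmod
  have hnd : ¬ p ∣ Nat.card N := by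
    intro hd
    have h0 : Nat.card N ≡ 0 [MOD p] := (Nat.modEq_zero_iff_dvd).mpr hd
    have h1 : 1 ≡ 0 [MOD p] := hmod.symm.trans h0
    have h2 : p ∣ 1 := (Nat.modEq_zero_iff_dvd).mp h1
    exact (Nat.Prime.one_lt hp.out).ne' (Nat.dvd_one.mp h2)
  obtain ⟨k, hk⟩ := IsPGroup.iff_card.mp hP
  rw [hk]
  exact Nat.Coprime.pow_right k ((Nat.Prime.coprime_iff_not_dvd hp.out).mpr hnd).symm

/-- The trivial irreducible character. -/
noncomputable def trivIrr (X : Type u) [Group X] : IrrCharacter X :=
  ⟨fun _ => 1, Cfsg.Agent.Lib.Helper81.isIrrCharacter_of_mul (fun _ => (1 : ℂ))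
    (fun _ _ => by simp) rfl⟩

/-- If `C_N(P) = 1` for a `p`-subgroup `P`, the only `P`-invariant irreducible character of the
normal subgroup `N` is the trivial one (Glauberman's count). -/
theorem eq_one_of_invariant (p : ℕ) [hp : Fact p.Prime] (P : Subgroup G)
    (hP : IsPGroup p P) (N : Subgroup G) [hNn : N.Normal]
    (hN : N ⊓ Subgroup.centralizer (P : Set G) = ⊥) (θ : IrrCharacter N)
    (hinv : ∀ s ∈ P, ∀ n n' : N, (n' : G) = s * n * s⁻¹ →
      (θ : N → ℂ) n' = (θ : N → ℂ) n) : ∀ n : N, (θ : N → ℂ) n = 1 := by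
  classical
  have hnorm : ∀ s ∈ P, ∀ g ∈ N, s * g * s⁻¹ ∈ N := fun s _ g hg => hNn.conj_mem g hg s
  have hcop := coprime_of_centralizer_inf_eq_bot p P hP N hN
  haveI : Group.IsNilpotent P := hP.isNilpotent
  have hsolv : Group.IsSolvable P := inferInstance
  have hcount := Cfsg.Agent.Lib.Helper82.card_invariant_irr_eq_card_conjClasses_fixed
    N P ⊥ hnorm hcop hsolv hN.symm
  have hone : Nat.card (ConjClasses (⊥ : Subgroup G)) = 1 := by
    rw [Nat.card_eq_one_iff_unique]
    refine ⟨⟨fun a b => ?_⟩, ⟨ConjClasses.mk 1⟩⟩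
    induction a using Quotient.inductionOn with
    | h a =>
      induction b using Quotient.inductionOn with
      | h b => rw [Subsingleton.elim a b]
  rw [hone, Nat.card_eq_one_iff_unique] at hcount
  obtain ⟨hsub, _⟩ := hcount
  have h1 : (⟨θ, hinv⟩ : {χ : IrrCharacter N // ∀ s ∈ P, ∀ g g' : N, (g' : G) = s * g * s⁻¹ →
      (χ : N → ℂ) g' = (χ : N → ℂ) g}) = ⟨trivIrr N, fun _ _ _ _ _ => rfl⟩ :=
    Subsingleton.elim _ _
  have h2 : θ = trivIrr N := congrArg Subtype.val h1
  intro n
  rw [h2]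
  rfl

end A

end Cfsg.Agent.Lib.Helper82.KerP
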