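import Cfsg.Agent.Lib.Helper82.KerPA

set_option autoImplicit false
set_option linter.style.haveILetI false
open Cfsg
open scoped ComplexConjugate commutatorElement

namespace Cfsg.Agent.Lib.Helper82.KerP

universe u

section B

open Cfsg.Agent.Lib.Helper75 Cfsg.Agent.Lib.Helper79

/-- A character of degree prime to `p` has an irreducible constituent of degree prime to `p`. -/
theorem exists_constituent_coprime {H : Type u} [Group H] [Fintype H] (p : ℕ) {Ψ : H → ℂ}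
    (hΨ : IsCharacter H Ψ) {d : ℕ} (hd : Ψ 1 = (d : ℂ)) (hpd : ¬ p ∣ d) :
    ∃ ψ : IrrCharacter H, classInner Ψ (ψ : H → ℂ) ≠ 0 ∧ ¬ p ∣ charDegree (ψ : H → ℂ) := by
  classical
  haveI : Finite (IrrCharacter H) := Cfsg.Agent.Lib.Helper3.irrCharacter_finite
  haveI : Fintype (IrrCharacter H) := Fintype.ofFinite _
  obtain ⟨m, hm, hdec⟩ := Cfsg.Agent.Lib.Helper15.exists_nat_decomp hΨ
  have hsum : (d : ℂ) =
      ∑ ψ : IrrCharacter H, ((m ψ * charDegree (ψ : H → ℂ) : ℕ) : ℂ) := by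
    rw [← hd]
    conv_lhs => rw [hdec]
    rw [Finset.sum_apply]
    refine Finset.sum_congr rfl (fun ψ _ => ?_)
    rw [Pi.smul_apply, smul_eq_mul, ← Cfsg.Agent.Lib.Helper80.irr_charDegree_cast ψ]
    push_cast
    rfl
  have hsum' : d = ∑ ψ : IrrCharacter H, m ψ * charDegree (ψ : H → ℂ) := by
    exact_mod_cast hsum
  have hex : ∃ ψ : IrrCharacter H, m ψ ≠ 0 ∧ ¬ p ∣ charDegree (ψ : H → ℂ) := by
    by_contra hcon
    push Not at hcon
    apply hpd
    rw [hsum']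
    apply Finset.dvd_sum
    intro ψ _
    by_cases h0 : m ψ = 0
    · simp [h0]
    · exact Dvd.dvd.mul_left (hcon ψ h0) _
  obtain ⟨ψ, hmψ, hpψ⟩ := hex
  refine ⟨ψ, ?_, hpψ⟩
  rw [hm ψ]; exact_mod_cast hmψ

variable {G : Type u} [Group G] [Finite G]

/-- If `C_N(P) = 1` for a Sylow `p`-subgroup `P` and a normal subgroup `N`, then `N` lies in the
kernel of every irreducible character of degree prime to `p`. -/
theorem le_ker_of_coprime_degree (p : ℕ) [hp : Fact p.Prime] (P : Sylow p G) (N : Subgroup G)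
    [hNn : N.Normal]
    (hN : N ⊓ Subgroup.centralizer ((P : Subgroup G) : Set G) = ⊥) (χ : IrrCharacter G)
    (hχ : ¬ p ∣ charDegree (χ : G → ℂ)) : ∀ n ∈ N, (χ : G → ℂ) n = (χ : G → ℂ) 1 := by
  classical
  haveI : Fintype G := Fintype.ofFinite _
  haveI : Fintype N := Fintype.ofFinite _
  have hχc : IsCharacter G (χ : G → ℂ) := Cfsg.Agent.Lib.Helper3.IsIrrCharacter.isCharacter χ.2
  have hχcf : IsClassFunction G (χ : G → ℂ) :=
    Cfsg.Agent.Lib.Helper3.IsCharacter.isClassFunction hχc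
  have hres : IsCharacter N (fun n : N => (χ : G → ℂ) n) :=
    Cfsg.Agent.Lib.Helper79.isCharacter_restrict hχc N
  have hdeg : (χ : G → ℂ) 1 = (charDegree (χ : G → ℂ) : ℂ) :=
    (Cfsg.Agent.Lib.Helper80.irr_charDegree_cast χ).symm
  have hres1 : (fun n : N => (χ : G → ℂ) n) 1 = (charDegree (χ : G → ℂ) : ℂ) := by
    show (χ : G → ℂ) ((1 : N) : G) = _
    rw [Subgroup.coe_one, hdeg]
  obtain ⟨θ, hθne, _⟩ := exists_constituent_coprime p hres hres1 hχ
  -- the degree formula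
  have hcd := Cfsg.Agent.Lib.Helper79.clifford_degree N χ.2 θ.2 hθne
  obtain ⟨e, he⟩ := Cfsg.Agent.Lib.Helper25.classInner_char_nat hres
    (Cfsg.Agent.Lib.Helper3.IsIrrCharacter.isCharacter θ.2)
  obtain ⟨d, hd, _, _⟩ := Cfsg.Agent.Lib.Helper3.IsIrrCharacter.apply_one_dvd_card θ.2
  rw [he, hd, hdeg] at hcd
  have hnat : charDegree (χ : G → ℂ) = e * (inertia N (θ : N → ℂ)).index * d := by
    exact_mod_cast hcd
  have hidx : ¬ p ∣ (inertia N (θ : N → ℂ)).index := by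
    intro h
    apply hχ
    rw [hnat]
    exact Dvd.dvd.mul_right (Dvd.dvd.mul_left h e) d
  -- a conjugate of `P` lies in the inertia group
  set I : Subgroup G := inertia N (θ : N → ℂ) with hI
  have hfp := P.isPGroup'.nonempty_fixed_point_of_prime_not_dvd_card (G ⧸ I)
    (by rw [← Subgroup.index_eq_card]; exact hidx)
  obtain ⟨q, hq⟩ := hfp
  obtain ⟨g, rfl⟩ := QuotientGroup.mk_surjective q
  have hconj : ∀ x ∈ (P : Subgroup G), g⁻¹ * x * g ∈ I := by
    intro x hx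
    have h1 := hq ⟨x, hx⟩
    have h2 : ((x * g : G) : G ⧸ I) = (g : G ⧸ I) := h1
    have h3 := QuotientGroup.eq.mp h2
    have h4 : g⁻¹ * x * g = ((x * g)⁻¹ * g)⁻¹ := by group
    rw [h4]; exact I.inv_mem h3
  -- the `P`-invariant conjugate
  set θ' : N → ℂ := Cfsg.Agent.Lib.Helper75.conjFun N g⁻¹ (θ : N → ℂ) with hθ'
  have hθ'irr : IsIrrCharacter N θ' := conjFun_isIrrCharacter N g⁻¹ θ.2
  have hθ'ne : classInner (fun n : N => (χ : G → ℂ) n) θ' ≠ 0 := by
    rw [← conjFun_restrict N g⁻¹ hχcf, hθ', classInner_conjFun]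
    exact hθne
  have hθ'inv : ∀ x ∈ (P : Subgroup G), Cfsg.Agent.Lib.Helper75.conjFun N x θ' = θ' := by
    intro x hx
    rw [hθ', conjFun_conjFun]
    have h1 : g⁻¹ * x = (g⁻¹ * x * g) * g⁻¹ := by group
    rw [h1, ← conjFun_conjFun]
    have h2 : Cfsg.Agent.Lib.Helper75.conjFun N (g⁻¹ * x * g) (θ : N → ℂ) = (θ : N → ℂ) := hconj x hx
    rw [h2]
  have hone : ∀ n : N, θ' n = 1 := by
    apply eq_one_of_invariant p (P : Subgroup G) P.isPGroup' N hN ⟨θ', hθ'irr⟩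
    intro s hs n n' hnn'
    have h1 := congrFun (hθ'inv s hs) n
    rw [conjFun_apply] at h1
    have h2 : n' = ⟨s * n * s⁻¹, hNn.conj_mem n n.2 s⟩ := Subtype.ext hnn'
    show θ' n' = θ' n
    rw [h2]; exact h1
  have hinv : ∀ (g : G) (n : N), θ' ⟨g * n * g⁻¹, hNn.conj_mem (n : G) n.2 g⟩ = θ' n := by
    intro g n; rw [hone, hone]
  have hsm := Cfsg.Agent.Lib.Helper81.restrict_eq_smul_of_invariant N χ.2 hθ'irr hinv hθ'ne
  intro n hn
  have h1 := congrFun hsm ⟨n, hn⟩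
  have h2 := congrFun hsm 1
  simp only [Pi.smul_apply, smul_eq_mul, hone] at h1 h2
  rw [Subgroup.coe_one] at h2
  rw [h2]
  exact h1

end B

end Cfsg.Agent.Lib.Helper82.KerP
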