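import Cfsg.Agent.Lib.Helper82.KerPB
import Cfsg.Agent.Lib.Helper82.GlaubCompat

set_option autoImplicit false
set_option linter.style.haveILetI false
open Cfsg
open scoped ComplexConjugate commutatorElement

namespace Cfsg.Agent.Lib.Helper82.KerP

universe u

section C

/-- A normal subgroup contained in the derived subgroup of a `p`-subgroup lies in the kernel of
every irreducible character of degree prime to `p`. -/
theorem ker_of_le_commutator {X : Type u} [Group X] [Finite X] (p : ℕ) [hp : Fact p.Prime]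
    (R : Subgroup X) (hR : IsPGroup p R) (M : Subgroup X) [hMn : M.Normal]
    (hM : M ≤ ⁅R, R⁆) (χ : IrrCharacter X) (hχ : ¬ p ∣ charDegree (χ : X → ℂ)) :
    ∀ m ∈ M, (χ : X → ℂ) m = (χ : X → ℂ) 1 := by
  classical
  haveI : Fintype X := Fintype.ofFinite _
  haveI : Fintype R := Fintype.ofFinite _
  haveI : Fintype M := Fintype.ofFinite _
  haveI : Finite (IrrCharacter R) := Cfsg.Agent.Lib.Helper3.irrCharacter_finite
  haveI : Fintype (IrrCharacter R) := Fintype.ofFinite _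
  have hpp : p.Prime := hp.out
  have hχc : IsCharacter X (χ : X → ℂ) := Cfsg.Agent.Lib.Helper3.IsIrrCharacter.isCharacter χ.2
  have hresR : IsCharacter R (fun y : R => (χ : X → ℂ) y) :=
    Cfsg.Agent.Lib.Helper79.isCharacter_restrict hχc R
  have hdeg : (χ : X → ℂ) 1 = (charDegree (χ : X → ℂ) : ℂ) :=
    (Cfsg.Agent.Lib.Helper80.irr_charDegree_cast χ).symm
  have hres1 : (fun y : R => (χ : X → ℂ) y) 1 = (charDegree (χ : X → ℂ) : ℂ) := by
    show (χ : X → ℂ) ((1 : R) : X) = _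
    rw [Subgroup.coe_one, hdeg]
  obtain ⟨μ, hμne, hμp⟩ := exists_constituent_coprime p hresR hres1 hχ
  have hμc : IsCharacter R (μ : R → ℂ) := Cfsg.Agent.Lib.Helper3.IsIrrCharacter.isCharacter μ.2
  -- `μ` is linear
  obtain ⟨d, hd, hdvd, hd0⟩ := Cfsg.Agent.Lib.Helper3.IsIrrCharacter.apply_one_dvd_card μ.2
  have hdd : charDegree (μ : R → ℂ) = d := by
    have h1 := Cfsg.Agent.Lib.Helper80.irr_charDegree_cast μ
    rw [hd] at h1
    exact_mod_cast h1
  obtain ⟨k, hk⟩ := IsPGroup.iff_card.mp hR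
  rw [hk] at hdvd
  obtain ⟨j, _, hj⟩ := (Nat.dvd_prime_pow hpp).mp hdvd
  have hj0 : j = 0 := by
    by_contra hne
    apply hμp
    rw [hdd, hj]
    exact dvd_pow_self p hne
  have hμ1 : (μ : R → ℂ) 1 = 1 := by
    rw [hd, hj, hj0]; simp
  have hlin : IsCharacter R (μ : R → ℂ) ∧ (μ : R → ℂ) 1 = 1 := ⟨hμc, hμ1⟩
  -- `μ` is trivial on `M`
  have hMR : M ≤ R := hM.trans (by
    rw [Subgroup.commutator_le]
    intro a ha b hb
    rw [commutatorElement_def]
    exact R.mul_mem (R.mul_mem (R.mul_mem ha hb) (R.inv_mem ha)) (R.inv_mem hb))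
  have hμM : ∀ x : M, (μ : R → ℂ) ⟨x, hMR x.2⟩ = 1 := by
    intro x
    have hx : (x : X) ∈ ⁅R, R⁆ := hM x.2
    rw [← Subgroup.map_subtype_commutator] at hx
    obtain ⟨w, hw, hwx⟩ := hx
    have hwx' : w = ⟨x, hMR x.2⟩ := Subtype.ext hwx
    rw [← hwx']
    have h1 := Abelianization.commutator_subset_ker
      (Cfsg.Agent.Lib.Helper15.linCharUnitsHom hlin) hw
    rw [MonoidHom.mem_ker] at h1
    have h2 := congrArg (fun u : ℂˣ => (u : ℂ)) h1
    simpa [Cfsg.Agent.Lib.Helper15.linCharUnitsHom_apply] using h2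
  -- restriction in stages
  have hζ : IsIrrCharacter M (fun _ : M => (1 : ℂ)) := (trivIrr M).2
  have hζc : IsCharacter M (fun _ : M => (1 : ℂ)) :=
    Cfsg.Agent.Lib.Helper3.IsIrrCharacter.isCharacter hζ
  have hstage := Cfsg.Agent.Lib.Helper82.classInner_res_eq_natSum hMR hresR hζc
  have hterm : Cfsg.Agent.Lib.Helper82.mult (fun y : R => (χ : X → ℂ) y) (μ : R → ℂ) *
      Cfsg.Agent.Lib.Helper82.mult (fun x : M => (μ : R → ℂ) ⟨x, hMR x.2⟩)
        (fun _ : M => (1 : ℂ)) ≠ 0 := by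
    apply Nat.mul_ne_zero
    · intro h0
      apply hμne
      rw [Cfsg.Agent.Lib.Helper82.mult_spec hresR hμc, h0]
      simp
    · have hfun : (fun x : M => (μ : R → ℂ) ⟨x, hMR x.2⟩) = fun _ : M => (1 : ℂ) :=
        funext hμM
      rw [hfun]
      have h1 : classInner (fun _ : M => (1 : ℂ)) (fun _ : M => (1 : ℂ)) = ((1 : ℕ) : ℂ) := by
        rw [Cfsg.Agent.Lib.Helper3.classInner_irr hζ hζ]
        simp
      rw [Cfsg.Agent.Lib.Helper82.mult_eq_of_classInner_eq hζc hζc h1]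
      exact one_ne_zero
  have hne : classInner (fun x : M => (χ : X → ℂ) x) (fun _ : M => (1 : ℂ)) ≠ 0 := by
    have h1 : (fun x : M => (fun y : R => (χ : X → ℂ) y) ⟨x, hMR x.2⟩) =
        fun x : M => (χ : X → ℂ) x := rfl
    rw [← h1, hstage]
    have hpos : 0 < ∑ υ : IrrCharacter R,
        Cfsg.Agent.Lib.Helper82.mult (fun y : R => (χ : X → ℂ) y) (υ : R → ℂ) *
        Cfsg.Agent.Lib.Helper82.mult (fun x : M => (υ : R → ℂ) ⟨x, hMR x.2⟩)
          (fun _ : M => (1 : ℂ)) := by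
      apply Finset.sum_pos'
      · intro υ _; exact Nat.zero_le _
      · exact ⟨μ, Finset.mem_univ _, Nat.pos_of_ne_zero hterm⟩
    exact_mod_cast hpos.ne'
  have hinv : ∀ (g : X) (n : M), (fun _ : M => (1 : ℂ))
      ⟨g * n * g⁻¹, hMn.conj_mem (n : X) n.2 g⟩ = (fun _ : M => (1 : ℂ)) n := fun _ _ => rfl
  have hsm := Cfsg.Agent.Lib.Helper81.restrict_eq_smul_of_invariant M χ.2 hζ hinv hne
  intro m hm
  have h1 := congrFun hsm ⟨m, hm⟩
  have h2 := congrFun hsm 1
  simp only [Pi.smul_apply, smul_eq_mul] at h1 h2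
  rw [Subgroup.coe_one] at h2
  rw [h2]
  exact h1

end C

end Cfsg.Agent.Lib.Helper82.KerP
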