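import Cfsg.Agent.Lib.Helper82.KerPC
import Cfsg.Agent.S1492
import Cfsg.Agent.Lib.Helper15.GlaubCyc
import Cfsg.Agent.Lib.Helper25.Ind
import Cfsg.Agent.Lib.Helper3.Induced

set_option autoImplicit false
set_option linter.style.haveILetI false
open Cfsg
open scoped ComplexConjugate commutatorElement

namespace Cfsg.Agent.Lib.Helper82.KerP

universe u

section D

variable {G : Type u} [Group G] [Finite G]

/-- The core of `N P'` lies in the kernel of every irreducible character of degree prime to `p`,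
when `C_N(P) = 1`. -/
theorem core_subset_kernel (p : ℕ) [hp : Fact p.Prime] (P : Sylow p G) (N : Subgroup G)
    [hNn : N.Normal] (hN : N ⊓ Subgroup.centralizer ((P : Subgroup G) : Set G) = ⊥)
    (χ : IrrCharacter G) (hχ : ¬ p ∣ charDegree (χ : G → ℂ)) :
    ∀ g ∈ (N ⊔ ⁅(P : Subgroup G), (P : Subgroup G)⁆).normalCore,
      (χ : G → ℂ) g = (χ : G → ℂ) 1 := by
  classical
  have hNker := le_ker_of_coprime_degree p P N hN χ hχ
  obtain ⟨ψ, hψirr, hψ⟩ := Cfsg.Agent.Lib.Helper79.isIrrCharacter_deflate χ.2 N hNker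
  have hψ1 : ψ 1 = (χ : G → ℂ) 1 := by
    rw [← hψ 1, QuotientGroup.mk_one]
  have hdeg : charDegree ψ = charDegree (χ : G → ℂ) := by
    unfold charDegree; rw [hψ1]
  have hsurj : Function.Surjective (QuotientGroup.mk' N) := QuotientGroup.mk'_surjective N
  set R : Subgroup (G ⧸ N) := (P : Subgroup G).map (QuotientGroup.mk' N) with hR
  have hRp : IsPGroup p R := P.isPGroup'.map _
  set M : Subgroup (G ⧸ N) :=
    ((N ⊔ ⁅(P : Subgroup G), (P : Subgroup G)⁆).normalCore).map (QuotientGroup.mk' N) with hM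
  haveI hMn : M.Normal := Subgroup.Normal.map (Subgroup.normalCore_normal _) _ hsurj
  have hMR : M ≤ ⁅R, R⁆ := by
    rw [hM, hR, ← Subgroup.map_commutator]
    refine (Subgroup.map_mono (Subgroup.normalCore_le _)).trans ?_
    rw [Subgroup.map_sup, QuotientGroup.map_mk'_self, bot_sup_eq]
  intro g hg
  have h1 := ker_of_le_commutator p R hRp M hMR ⟨ψ, hψirr⟩ (by rw [hdeg]; exact hχ)
    (g : G ⧸ N) ⟨g, hg, rfl⟩
  have h2 : ψ (g : G ⧸ N) = ψ 1 := h1
  rw [hψ g, hψ1] at h2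
  exact h2

/-- Step 1: a `P`-invariant irreducible character of a normal `p'`-subgroup lying in the kernel of
all irreducible characters of degree prime to `p` is constant. -/
theorem invariant_const (p : ℕ) [hp : Fact p.Prime] (P : Sylow p G)
    (K₀ : Subgroup G) [hKn : K₀.Normal] (hcop : (Nat.card K₀).Coprime p)
    (hker : ∀ χ : IrrCharacter G, ¬ p ∣ charDegree (χ : G → ℂ) →
      ∀ k ∈ K₀, (χ : G → ℂ) k = (χ : G → ℂ) 1)
    (φ : IrrCharacter K₀)
    (hinv : ∀ s ∈ (P : Subgroup G), ∀ n n' : K₀, (n' : G) = s * n * s⁻¹ →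
      (φ : K₀ → ℂ) n' = (φ : K₀ → ℂ) n) :
    ∀ k : K₀, (φ : K₀ → ℂ) k = (φ : K₀ → ℂ) 1 := by
  classical
  haveI : Fintype G := Fintype.ofFinite _
  have hpp : p.Prime := hp.out
  set X : Subgroup G := K₀ ⊔ (P : Subgroup G) with hX
  haveI : Fintype X := Fintype.ofFinite _
  haveI hNXn : (K₀.subgroupOf X).Normal := Subgroup.Normal.subgroupOf hKn X
  haveI : Fintype (K₀.subgroupOf X) := Fintype.ofFinite _
  have hKX : K₀ ≤ X := le_sup_left
  have hPX : (P : Subgroup G) ≤ X := le_sup_right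
  set φX : K₀.subgroupOf X → ℂ := Cfsg.Agent.Lib.Helper75.resSub K₀ X (φ : K₀ → ℂ) with hφX
  have hφXirr : IsIrrCharacter (K₀.subgroupOf X) φX :=
    Cfsg.Agent.Lib.Helper75.isIrrCharacter_resSub hKX φ.2
  have hφcf : IsClassFunction K₀ (φ : K₀ → ℂ) :=
    Cfsg.Agent.Lib.Helper3.IsCharacter.isClassFunction
      (Cfsg.Agent.Lib.Helper3.IsIrrCharacter.isCharacter φ.2)
  -- invariance
  have hinvX : ∀ (g : X) (n : K₀.subgroupOf X),
      φX ⟨g * n * g⁻¹, hNXn.conj_mem (n : X) n.2 g⟩ = φX n := by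
    intro g n
    obtain ⟨k, hk, s, hs, hks⟩ := Subgroup.mem_sup_of_normal_left.mp g.2
    have hn : ((n : X) : G) ∈ K₀ := Subgroup.mem_subgroupOf.mp n.2
    have hsn : s * ((n : X) : G) * s⁻¹ ∈ K₀ := hKn.conj_mem _ hn s
    have h1 := hinv s hs ⟨((n : X) : G), hn⟩ ⟨s * ((n : X) : G) * s⁻¹, hsn⟩ rfl
    have h2 := hφcf ⟨s * ((n : X) : G) * s⁻¹, hsn⟩ ⟨k, hk⟩
    have hmem : (((g * n * g⁻¹ : X)) : G) ∈ K₀ :=
      Subgroup.mem_subgroupOf.mp (hNXn.conj_mem (n : X) n.2 g)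
    have h3 : (⟨(((g * n * g⁻¹ : X)) : G), hmem⟩ : K₀) =
        ⟨k, hk⟩ * ⟨s * ((n : X) : G) * s⁻¹, hsn⟩ * (⟨k, hk⟩ : K₀)⁻¹ := by
      apply Subtype.ext
      simp only [Subgroup.coe_mul, Subgroup.coe_inv, ← hks]
      group
    show (φ : K₀ → ℂ) ⟨(((g * n * g⁻¹ : X)) : G), hmem⟩ = (φ : K₀ → ℂ) ⟨((n : X) : G), hn⟩
    rw [h3, h2, h1]
  -- coprimality
  have hcardN : Nat.card (K₀.subgroupOf X) = Nat.card K₀ :=
    Nat.card_congr (Subgroup.subgroupOfEquivOfLe hKX).toEquiv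
  obtain ⟨j, hj⟩ := IsPGroup.iff_card.mp P.isPGroup'
  have hidxN : (K₀.subgroupOf X).index ∣ p ^ j := by
    have h1 : (K₀.subgroupOf X).index = K₀.relIndex X := rfl
    rw [h1, hX, Subgroup.relIndex_sup_left, ← hj]
    exact Subgroup.relIndex_dvd_card _ _
  have hcopI : (Nat.card (K₀.subgroupOf X)).Coprime (K₀.subgroupOf X).index := by
    rw [hcardN]
    exact Nat.Coprime.coprime_dvd_right hidxN (Nat.Coprime.pow_right j hcop)
  obtain ⟨φh, hcan, hφh⟩ := Cfsg.Agent.Lib.Helper15.exists_canon hcopI hφXirr hinvX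
  have hφhirr : IsIrrCharacter X φh := hcan.irr
  have hφhc : IsCharacter X φh := Cfsg.Agent.Lib.Helper3.IsIrrCharacter.isCharacter hφhirr
  -- the induced character
  set Ψ : G → ℂ := indFun X φh with hΨ
  have hΨc : IsCharacter G Ψ := Cfsg.Agent.Lib.Helper3.isCharacter_indFun X hφhc
  obtain ⟨d, hd, hdvd, hd0⟩ := Cfsg.Agent.Lib.Helper3.IsIrrCharacter.apply_one_dvd_card φ.2
  have hφh1 : φh 1 = (d : ℂ) := by
    have h1 := hφh 1
    rw [Subgroup.coe_one] at h1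
    rw [h1, ← hd]
    rfl
  have hΨ1 : Ψ 1 = ((X.index * d : ℕ) : ℂ) := by
    rw [hΨ, Cfsg.Agent.S1492.indFun_one, hφh1]
    push_cast; rfl
  have hpd : ¬ p ∣ X.index * d := by
    intro h
    rcases (Nat.Prime.dvd_mul hpp).mp h with h1 | h1
    · exact P.not_dvd_index (h1.trans (Subgroup.index_dvd_of_le hPX))
    · have h2 : p ∣ Nat.card K₀ := h1.trans hdvd
      have h3 := Nat.Coprime.eq_one_of_dvd hcop.symm h2
      exact hpp.one_lt.ne' h3
  obtain ⟨χ, hχne, hχp⟩ := exists_constituent_coprime p hΨc hΨ1 hpd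
  have hχc : IsCharacter G (χ : G → ℂ) := Cfsg.Agent.Lib.Helper3.IsIrrCharacter.isCharacter χ.2
  have hχcf : IsClassFunction G (χ : G → ℂ) :=
    Cfsg.Agent.Lib.Helper3.IsCharacter.isClassFunction hχc
  rw [hΨ, Cfsg.Agent.Lib.Helper25.frobenius_reciprocity X φh (χ : G → ℂ) hχcf] at hχne
  have hne' : classInner (fun x : X => (χ : G → ℂ) x) φh ≠ 0 := by
    rw [Cfsg.Agent.Lib.Helper3.classInner_conj_symm]
    intro h0
    apply hχne
    have := congrArg (starRingEnd ℂ) h0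
    simpa using this
  have hresX : IsCharacter X (fun x : X => (χ : G → ℂ) x) :=
    Cfsg.Agent.Lib.Helper79.isCharacter_restrict hχc X
  intro k
  have hkX : (k : G) ∈ X := hKX k.2
  have hb : (fun x : X => (χ : G → ℂ) x) ⟨k, hkX⟩ = (fun x : X => (χ : G → ℂ) x) 1 := by
    show (χ : G → ℂ) (k : G) = (χ : G → ℂ) ((1 : X) : G)
    rw [Subgroup.coe_one]
    exact hker χ hχp k k.2
  have h4 := Cfsg.Agent.S1492.constituent_eq_degree hresX hφhirr hne' ⟨k, hkX⟩ hb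
  have hkN : (⟨k, hkX⟩ : X) ∈ K₀.subgroupOf X := Subgroup.mem_subgroupOf.mpr k.2
  have h5 := hφh ⟨⟨k, hkX⟩, hkN⟩
  have h6 := hφh 1
  rw [Subgroup.coe_one] at h6
  have h7 : φX ⟨⟨k, hkX⟩, hkN⟩ = (φ : K₀ → ℂ) k := rfl
  have h8 : φX 1 = (φ : K₀ → ℂ) 1 := rfl
  rw [← h7, ← h8, ← h5, ← h6]
  exact h4

/-- A normal `p'`-subgroup lying in the kernel of all irreducible characters of degree prime to
`p` has no nontrivial elements fixed by the Sylow `p`-subgroup `P`. -/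
theorem centralizer_inf_eq_bot_of_ker (p : ℕ) [hp : Fact p.Prime] (P : Sylow p G)
    (K₀ : Subgroup G) [hKn : K₀.Normal] (hcop : (Nat.card K₀).Coprime p)
    (hker : ∀ χ : IrrCharacter G, ¬ p ∣ charDegree (χ : G → ℂ) →
      ∀ k ∈ K₀, (χ : G → ℂ) k = (χ : G → ℂ) 1) :
    K₀ ⊓ Subgroup.centralizer ((P : Subgroup G) : Set G) = ⊥ := by
  classical
  haveI : Fintype K₀ := Fintype.ofFinite _
  have hpp : p.Prime := hp.out
  have hnorm : ∀ s ∈ (P : Subgroup G), ∀ g ∈ K₀, s * g * s⁻¹ ∈ K₀ :=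
    fun s _ g hg => hKn.conj_mem g hg s
  obtain ⟨j, hj⟩ := IsPGroup.iff_card.mp P.isPGroup'
  have hcop' : (Nat.card K₀).Coprime (Nat.card (P : Subgroup G)) := by
    rw [hj]; exact Nat.Coprime.pow_right j hcop
  haveI : Group.IsNilpotent (P : Subgroup G) := P.isPGroup'.isNilpotent
  have hsolv : Group.IsSolvable (P : Subgroup G) := inferInstance
  set C : Subgroup G := K₀ ⊓ Subgroup.centralizer ((P : Subgroup G) : Set G) with hC
  have hcount := Cfsg.Agent.Lib.Helper82.card_invariant_irr_eq_card_conjClasses_fixed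
    K₀ (P : Subgroup G) C hnorm hcop' hsolv hC
  -- the invariant characters are trivial
  have htriv : ∀ φ : IrrCharacter K₀,
      (∀ s ∈ (P : Subgroup G), ∀ n n' : K₀, (n' : G) = s * n * s⁻¹ →
        (φ : K₀ → ℂ) n' = (φ : K₀ → ℂ) n) → φ = trivIrr K₀ := by
    intro φ hinv
    have hconst := invariant_const p P K₀ hcop hker φ hinv
    have hN0 : (Nat.card K₀ : ℂ) ≠ 0 := by exact_mod_cast Nat.card_pos.ne'
    have h1 : classInner (φ : K₀ → ℂ) ((trivIrr K₀ : IrrCharacter K₀) : K₀ → ℂ) =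
        (φ : K₀ → ℂ) 1 := by
      rw [Cfsg.Agent.Lib.Helper25.classInner_def]
      have h2 : ∀ g : K₀, (φ : K₀ → ℂ) g *
          (starRingEnd ℂ) (((trivIrr K₀ : IrrCharacter K₀) : K₀ → ℂ) g) = (φ : K₀ → ℂ) 1 := by
        intro g
        have h3 : ((trivIrr K₀ : IrrCharacter K₀) : K₀ → ℂ) g = 1 := rfl
        rw [h3, map_one, mul_one, hconst g]
      simp only [h2, Finset.sum_const, Finset.card_univ, nsmul_eq_mul]
      rw [← Nat.card_eq_fintype_card, ← mul_assoc, inv_mul_cancel₀ hN0, one_mul]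
    have h2 := Cfsg.Agent.Lib.Helper3.classInner_irr φ.2 (trivIrr K₀).2
    by_contra hne
    rw [if_neg (fun h => hne (Subtype.ext h)), h1] at h2
    exact Cfsg.Agent.Lib.Helper80.irr_one_ne_zero φ h2
  have hone : Nat.card {χ : IrrCharacter K₀ // ∀ s ∈ (P : Subgroup G), ∀ g g' : K₀,
      (g' : G) = s * g * s⁻¹ → (χ : K₀ → ℂ) g' = (χ : K₀ → ℂ) g} = 1 := by
    rw [Nat.card_eq_one_iff_unique]
    refine ⟨⟨fun a b => Subtype.ext ((htriv a.1 a.2).trans (htriv b.1 b.2).symm)⟩,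
      ⟨⟨trivIrr K₀, fun _ _ _ _ _ => rfl⟩⟩⟩
  rw [hone] at hcount
  rw [eq_bot_iff]
  intro c hc
  rw [Subgroup.mem_bot]
  haveI hsub : Subsingleton (ConjClasses C) := (Nat.card_eq_one_iff_unique.mp hcount.symm).1
  have h2 : ConjClasses.mk (⟨c, hc⟩ : C) = ConjClasses.mk 1 := Subsingleton.elim _ _
  rw [ConjClasses.mk_eq_mk_iff_isConj] at h2
  have h3 : (⟨c, hc⟩ : C) = 1 := isConj_one_left.mp h2
  exact congrArg Subtype.val h3

end D

end Cfsg.Agent.Lib.Helper82.KerP
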