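import Cfsg.Agent.Lib.Helper82.KerPD
import Cfsg.Agent.Lib.Helper82.PrinTwoA
import Cfsg.Agent.Lib.Helper55.Cores
import Cfsg.Agent.Lib.Helper55.SolvCore
import Cfsg.Agent.Lib.Helper80.Kernel

set_option autoImplicit false
set_option linter.style.haveILetI false
open Cfsg
open scoped ComplexConjugate commutatorElement

namespace Cfsg.Agent.Lib.Helper82.KerP

universe u

section E

variable {G : Type u} [Group G] [Finite G]

/-- An element in the kernel of every irreducible character of degree prime to `p` lies in the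
core of `N P'`, where `N` is the largest normal subgroup with `C_N(P) = 1`. -/
theorem kernel_subset_core (p : ℕ) [hp : Fact p.Prime] (P : Sylow p G) (N : Subgroup G)
    (hmax : ∀ L : Subgroup G, L.Normal →
      L ⊓ Subgroup.centralizer ((P : Subgroup G) : Set G) = ⊥ → L ≤ N)
    (g : G) (hg : ∀ χ : IrrCharacter G, ¬ p ∣ charDegree (χ : G → ℂ) →
      (χ : G → ℂ) g = (χ : G → ℂ) 1) :
    g ∈ (N ⊔ ⁅(P : Subgroup G), (P : Subgroup G)⁆).normalCore := by
  classical
  have hpp : p.Prime := hp.out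
  set K : Subgroup G := Subgroup.normalClosure {g} with hK
  haveI hKn : K.Normal := Subgroup.normalClosure_normal
  have hKker : ∀ χ : IrrCharacter G, ¬ p ∣ charDegree (χ : G → ℂ) →
      ∀ k ∈ K, (χ : G → ℂ) k = (χ : G → ℂ) 1 := by
    intro χ hχ k hk
    obtain ⟨Kχ, hKχn, hKχ, _⟩ := Cfsg.Agent.Lib.Helper80.irr_exists_ker χ
    haveI := hKχn
    have hle : K ≤ Kχ := Subgroup.normalClosure_le_normal (by
      intro x hx
      rw [Set.mem_singleton_iff] at hx
      rw [hx]
      exact (hKχ g).mpr (hg χ hχ))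
    exact (hKχ k).mp (hle hk)
  haveI hOn : (pPrimeCore p G).Normal := Cfsg.Agent.Lib.Helper55.pPrimeCore_normal' p
  have hOcop : (Nat.card (pPrimeCore p G)).Coprime p :=
    Cfsg.Agent.Lib.Helper55.pPrimeCore_card_coprime p
  -- the `p'`-part of `K`
  set K₀ : Subgroup G := K ⊓ pPrimeCore p G with hK₀
  haveI hK₀n : K₀.Normal := Subgroup.normal_inf_normal K (pPrimeCore p G)
  have hK₀cop : (Nat.card K₀).Coprime p :=
    Nat.Coprime.coprime_dvd_left (Subgroup.card_dvd_of_le inf_le_right) hOcop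
  have hK₀N : K₀ ≤ N := hmax K₀ hK₀n
    (centralizer_inf_eq_bot_of_ker p P K₀ hK₀cop (fun χ hχ k hk => hKker χ hχ k hk.1))
  -- the quotient by `O_{p'}(G)`
  have hcore : pPrimeCore p (G ⧸ pPrimeCore p G) = ⊥ :=
    Cfsg.Agent.Lib.Helper55.pPrimeCore_quotient_eq_bot p
  have hsurj : Function.Surjective (QuotientGroup.mk' (pPrimeCore p G)) :=
    QuotientGroup.mk'_surjective _
  have hO : ∀ C : Subgroup (G ⧸ pPrimeCore p G), C.Normal → (Nat.card C).Coprime p → C = ⊥ := by
    intro C hCn hCc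
    rw [eq_bot_iff, ← hcore]
    exact le_sSup ⟨hCn, hCc⟩
  set L : Subgroup (G ⧸ pPrimeCore p G) := K.map (QuotientGroup.mk' (pPrimeCore p G)) with hLdef
  haveI hLn : L.Normal := Subgroup.Normal.map hKn _ hsurj
  have hL : ∀ ψ : IrrCharacter (G ⧸ pPrimeCore p G),
      ¬ p ∣ charDegree (ψ : G ⧸ pPrimeCore p G → ℂ) →
      ∀ y ∈ L, (ψ : G ⧸ pPrimeCore p G → ℂ) y = (ψ : G ⧸ pPrimeCore p G → ℂ) 1 := by
    intro ψ hψ y hy
    obtain ⟨n, hn, rfl⟩ := hy
    have hχirr : IsIrrCharacter G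
        (fun g : G => (ψ : G ⧸ pPrimeCore p G → ℂ) (g : G ⧸ pPrimeCore p G)) :=
      Cfsg.Agent.Lib.Helper79.isIrrCharacter_inflate (pPrimeCore p G) ψ.2
    set χ : IrrCharacter G := ⟨_, hχirr⟩ with hχdef
    have hχ1 : (χ : G → ℂ) 1 = (ψ : G ⧸ pPrimeCore p G → ℂ) 1 := by
      show (ψ : G ⧸ pPrimeCore p G → ℂ) ((1 : G) : G ⧸ pPrimeCore p G) = _
      rw [QuotientGroup.mk_one]
    have hdeg : charDegree (χ : G → ℂ) = charDegree (ψ : G ⧸ pPrimeCore p G → ℂ) := by
      unfold charDegree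
      rw [hχ1]
    have := hKker χ (by rw [hdeg]; exact hψ) n hn
    rw [hχ1] at this
    exact this
  set Pbar : Sylow p (G ⧸ pPrimeCore p G) := P.mapSurjective hsurj with hPbar
  have hres := Cfsg.Agent.Lib.Helper82.PrinTwo.normal_le_of_kernel p hO L hL Pbar L le_rfl (by
      rw [Subgroup.relIndex_self]; exact fun h => hpp.one_lt.ne' (Nat.dvd_one.mp h))
  have hLP : L ≤ ⁅(Pbar : Subgroup (G ⧸ pPrimeCore p G)),
      (Pbar : Subgroup (G ⧸ pPrimeCore p G))⁆ := hres.2
  have hPbarcoe : (Pbar : Subgroup (G ⧸ pPrimeCore p G)) =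
      (P : Subgroup G).map (QuotientGroup.mk' (pPrimeCore p G)) := Sylow.coe_mapSurjective hsurj P
  have hKle : K ≤ ⁅(P : Subgroup G), (P : Subgroup G)⁆ ⊔ pPrimeCore p G := by
    rw [hPbarcoe, ← Subgroup.map_commutator, hLdef, Subgroup.map_le_iff_le_comap,
      Subgroup.comap_map_eq, QuotientGroup.ker_mk'] at hLP
    exact hLP
  have hPP : ⁅(P : Subgroup G), (P : Subgroup G)⁆ ≤ (P : Subgroup G) := by
    rw [Subgroup.commutator_le]
    intro a ha b hb
    rw [commutatorElement_def]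
    exact Subgroup.mul_mem _ (Subgroup.mul_mem _ (Subgroup.mul_mem _ ha hb)
      (Subgroup.inv_mem _ ha)) (Subgroup.inv_mem _ hb)
  have hKNP : K ≤ N ⊔ ⁅(P : Subgroup G), (P : Subgroup G)⁆ := by
    intro k hk
    obtain ⟨y, hy, u, hu, hyu⟩ := Subgroup.mem_sup_of_normal_right.mp (hKle hk)
    obtain ⟨j, hj⟩ := P.isPGroup' ⟨y, hPP hy⟩
    have hyj : y ^ p ^ j = 1 := by
      have := congrArg Subtype.val hj
      simpa using this
    have hord : orderOf u ∣ Nat.card (pPrimeCore p G) := by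
      have h := orderOf_dvd_natCard (⟨u, hu⟩ : pPrimeCore p G)
      rwa [Subgroup.orderOf_mk] at h
    have huK : u ∈ K := by
      apply Cfsg.Agent.Lib.Helper82.PrinTwo.mem_of_pow_eq_one_of_coprime K
        (a := orderOf u) (b := p ^ j)
      · rw [pow_orderOf_eq_one]; exact K.one_mem
      · have h1 : ((u : G) : G ⧸ K) = ((y⁻¹ : G) : G ⧸ K) := by
          rw [QuotientGroup.eq]
          have h2 : u⁻¹ * y⁻¹ = k⁻¹ := by rw [← hyu]; group
          rw [h2]; exact K.inv_mem hk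
        have h2 : ((u ^ p ^ j : G) : G ⧸ K) = 1 := by
          rw [QuotientGroup.mk_pow, h1, ← QuotientGroup.mk_pow, inv_pow, hyj, inv_one,
            QuotientGroup.mk_one]
        exact (QuotientGroup.eq_one_iff _).mp h2
      · exact Nat.Coprime.coprime_dvd_left hord (Nat.Coprime.pow_right j hOcop)
    have huK₀ : u ∈ K₀ := ⟨huK, hu⟩
    rw [← hyu]
    exact Subgroup.mul_mem _ (Subgroup.mem_sup_right hy) (Subgroup.mem_sup_left (hK₀N huK₀))
  exact (Subgroup.normal_le_normalCore.mpr hKNP)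
    (Subgroup.subset_normalClosure (Set.mem_singleton g))

end E

end Cfsg.Agent.Lib.Helper82.KerP
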