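import Mathlib
import Cfsg.Prelude.Def_Characters
import Cfsg.Agent.Lib.Helper15.GlaubCentral
import Cfsg.Agent.Lib.Helper15.LinearChar
import Cfsg.Agent.Lib.Helper76.CentralChar
import Cfsg.Agent.Lib.Helper3.CharOps
import Cfsg.Agent.Lib.Helper25.IndNormal

set_option autoImplicit false
set_option linter.style.haveILetI false
set_option linter.unusedSectionVars false
open Cfsg
open scoped ComplexConjugate

/-!
# The multiplicity characters of a centralised abelian subgroup

For a character `ψ` of `Γ`, subgroups `C` and `S` with `S` abelian and centralised by `C`, and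
`γ ∈ Irr(C)`, the function `x ↦ [ψ(· x)|_C, γ]` is a character of `S`.
-/

namespace Cfsg.Agent.Lib.Helper82

open Cfsg.Agent.Lib.Helper15 Cfsg.Agent.Lib.Helper25 Cfsg.Agent.Lib.Helper76

universe u

section MultFun

variable {Γ : Type u} [Group Γ] [Fintype Γ] (C S : Subgroup Γ) [Fintype C]

/-- The multiplicity function. -/
noncomputable def multFun (ψ : Γ → ℂ) (γ : C → ℂ) : S → ℂ :=
  fun x => classInner (fun c : C => ψ ((c : Γ) * (x : Γ))) γ

theorem isCharacter_multFun (hCS : C ≤ Subgroup.centralizer (S : Set Γ))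
    (hSab : ∀ a ∈ S, ∀ b ∈ S, a * b = b * a)
    {ψ : Γ → ℂ} (hψ : IsCharacter Γ ψ) {γ : C → ℂ} (hγ : IsIrrCharacter C γ) :
    IsCharacter S (multFun C S ψ γ) := by
  classical
  set D : Subgroup Γ := Subgroup.centralizer (S : Set Γ) with hD
  have hSD : S ≤ D := by
    intro s hs
    rw [hD, Subgroup.mem_centralizer_iff]
    intro t ht
    exact hSab t ht s hs
  haveI : Fintype D := Fintype.ofFinite _
  haveI : Fintype (IrrCharacter D) := Fintype.ofFinite _
  let j : C →* D := Subgroup.inclusion hCS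
  let ι : S →* D := Subgroup.inclusion hSD
  have hcen : ∀ x : S, ι x ∈ Subgroup.center D := by
    intro x
    rw [Subgroup.mem_center_iff]
    intro d
    apply Subtype.ext
    show (d : Γ) * (x : Γ) = (x : Γ) * (d : Γ)
    have hd : (d : Γ) ∈ Subgroup.centralizer (S : Set Γ) := d.2
    exact ((Subgroup.mem_centralizer_iff.mp hd) (x : Γ) x.2).symm
  have hψD : IsCharacter D (fun d : D => ψ (d : Γ)) := IsCharacter.comp_hom D.subtype hψ
  obtain ⟨n, -, hn⟩ := Cfsg.Agent.Lib.Helper3.IsCharacter.exists_mult hψD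
  have hk : ∀ η : IrrCharacter D, ∃ k : ℕ,
      classInner (fun c : C => (η : D → ℂ) (j c)) γ = (k : ℂ) :=
    fun η => Cfsg.Agent.Lib.Helper3.IsCharacter.classInner_irr_nat
      (IsCharacter.comp_hom j (Cfsg.Agent.Lib.Helper3.IsIrrCharacter.isCharacter η.2)) hγ
  choose k hk using hk
  have hval : ∀ x : S, multFun C S ψ γ x
      = ∑ η : IrrCharacter D, ((n η * k η : ℕ) : ℂ) * om η (ι x) := by
    intro x
    unfold multFun
    have h1 : (fun c : C => ψ ((c : Γ) * (x : Γ))) = fun c => ∑ η : IrrCharacter D,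
        ((n η : ℂ) * om η (ι x)) * (η : D → ℂ) (j c) := by
      funext c
      have h2 : ψ ((c : Γ) * (x : Γ)) = (fun d : D => ψ (d : Γ)) (j c * ι x) := rfl
      rw [h2, hn]
      simp only [Finset.sum_apply, Pi.smul_apply, smul_eq_mul]
      refine Finset.sum_congr rfl fun η _ => ?_
      rw [irr_mul_central' η (ι x) (hcen x)]
      ring
    rw [h1, Cfsg.Agent.Lib.Helper15.classInner_sum_left]
    refine Finset.sum_congr rfl fun η _ => ?_
    rw [Cfsg.Agent.Lib.Helper15.classInner_const_mul_left, hk]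
    push_cast
    ring
  have hfun : multFun C S ψ γ
      = ∑ η : IrrCharacter D, ((n η * k η : ℕ) : ℂ) • (fun x : S => om η (ι x)) := by
    funext x
    rw [hval x]
    simp only [Finset.sum_apply, Pi.smul_apply, smul_eq_mul]
  rw [hfun]
  apply Cfsg.Agent.Lib.Helper3.IsCharacter.sum
  intro η _
  apply Cfsg.Agent.Lib.Helper3.IsCharacter.nsmul
  have hmul : ∀ a b : S, om η (ι (a * b)) = om η (ι a) * om η (ι b) := by
    intro a b
    rw [map_mul]
    exact om_mul η (ι a) (ι b) (hcen b)
  have hone : om η (ι 1) = 1 := by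
    rw [map_one]
    exact om_one η
  exact (isCharacter_of_hom ⟨⟨fun x : S => om η (ι x), hone⟩, hmul⟩).1

end MultFun

end Cfsg.Agent.Lib.Helper82
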