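import Mathlib
import Cfsg.Prelude.Def_Characters
import Cfsg.Agent.Lib.Helper82.MultFun
import Cfsg.Agent.Lib.Helper39.SchurBoundB
import Cfsg.Agent.Lib.Helper3.CharBasic

set_option autoImplicit false
set_option linter.style.haveILetI false
set_option linter.unusedSectionVars false
open Cfsg
open scoped ComplexConjugate

/-!
# The multiplicity character of `β` takes the values `±1` off the identity
-/

namespace Cfsg.Agent.Lib.Helper82

open Cfsg.Agent.Lib.Helper15 Cfsg.Agent.Lib.Helper25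

universe u

section MultPm

variable {Γ : Type u} [Group Γ] [Fintype Γ] (C S : Subgroup Γ) [Fintype C]

theorem comm_of_isCyclic (hcyc : IsCyclic S) : ∀ a ∈ S, ∀ b ∈ S, a * b = b * a := by
  intro a ha b hb
  obtain ⟨g, hg⟩ := IsCyclic.exists_generator (α := S)
  obtain ⟨i, hi⟩ := Subgroup.mem_zpowers_iff.mp (hg ⟨a, ha⟩)
  obtain ⟨j, hj⟩ := Subgroup.mem_zpowers_iff.mp (hg ⟨b, hb⟩)
  have h := zpow_mul_comm g i j
  rw [hi, hj] at h
  exact congrArg Subtype.val h

theorem multFun_of_star {ψ : Γ → ℂ} (β : IrrCharacter C) (x : S) (βx : IrrCharacter C) (εx : ℤ)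
    (h : ∀ c : C, ψ ((c : Γ) * (x : Γ)) = (εx : ℂ) * (βx : C → ℂ) c) :
    multFun C S ψ (β : C → ℂ) x = if (βx : C → ℂ) = (β : C → ℂ) then (εx : ℂ) else 0 := by
  unfold multFun
  have h1 : (fun c : C => ψ ((c : Γ) * (x : Γ))) = fun c => (εx : ℂ) * (βx : C → ℂ) c :=
    funext h
  rw [h1, Cfsg.Agent.Lib.Helper15.classInner_const_mul_left,
    Cfsg.Agent.Lib.Helper3.classInner_irr βx.2 β.2]
  split_ifs <;> simp

theorem mult_pm_one (hCS : C ≤ Subgroup.centralizer (S : Set Γ)) (hcyc : IsCyclic S)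
    {ψ : Γ → ℂ} (hψ : IsCharacter Γ ψ) (β : IrrCharacter C) (ε₀ : ℤ) (hε₀ : ε₀ = 1 ∨ ε₀ = -1)
    (hgen : ∀ c : C, ∀ s : Γ, Subgroup.zpowers s = S →
      ψ ((c : Γ) * s) = (ε₀ : ℂ) * (β : C → ℂ) c)
    (hstar : ∀ x : S, x ≠ 1 → ∃ (βx : IrrCharacter C) (εx : ℤ), (εx = 1 ∨ εx = -1) ∧
      ∀ c : C, ψ ((c : Γ) * (x : Γ)) = (εx : ℂ) * (βx : C → ℂ) c) :
    ∀ x : S, x ≠ 1 →
      (multFun C S ψ (β : C → ℂ) x = 1 ∨ multFun C S ψ (β : C → ℂ) x = -1) ∧
        ∀ c : C, ψ ((c : Γ) * (x : Γ)) = multFun C S ψ (β : C → ℂ) x * (β : C → ℂ) c := by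
  classical
  have hSab := comm_of_isCyclic S hcyc
  have hg : IsCharacter S (multFun C S ψ (β : C → ℂ)) :=
    isCharacter_multFun C S hCS hSab hψ β.2
  -- integer values
  have hstar' : ∀ x : S, x ≠ 1 → ∃ z : ℤ, multFun C S ψ (β : C → ℂ) x = (z : ℂ) ∧
      (z = 0 ∨ z = 1 ∨ z = -1) ∧
      (z ≠ 0 → ∀ c : C, ψ ((c : Γ) * (x : Γ)) = (z : ℂ) * (β : C → ℂ) c) := by
    intro x hx
    obtain ⟨βx, εx, hεx, h⟩ := hstar x hx
    have h1 := multFun_of_star C S β x βx εx h
    by_cases hb : (βx : C → ℂ) = (β : C → ℂ)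
    · rw [if_pos hb] at h1
      refine ⟨εx, h1, ?_, ?_⟩
      · rcases hεx with h2 | h2
        · right; left; exact h2
        · right; right; exact h2
      · intro _ c
        rw [h c, hb]
    · rw [if_neg hb] at h1
      refine ⟨0, by rw [h1]; simp, Or.inl rfl, fun h0 => absurd rfl h0⟩
  -- the generator
  obtain ⟨s₀, hs₀⟩ := IsCyclic.exists_generator (α := S)
  have hS : Subgroup.zpowers (s₀ : Γ) = S := by
    apply le_antisymm
    · rw [Subgroup.zpowers_le]; exact s₀.2
    · intro y hy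
      obtain ⟨i, hi⟩ := Subgroup.mem_zpowers_iff.1 (hs₀ ⟨y, hy⟩)
      refine Subgroup.mem_zpowers_iff.2 ⟨i, ?_⟩
      have := congrArg (Subtype.val) hi
      simpa using this
  have hg0 : multFun C S ψ (β : C → ℂ) s₀ = (ε₀ : ℂ) := by
    have h1 := multFun_of_star C S (ψ := ψ) β s₀ β ε₀ (fun c => hgen c (s₀ : Γ) hS)
    rw [if_pos rfl] at h1
    exact h1
  -- the induction
  have hind : ∀ k : ℕ, s₀ ^ k ≠ 1 →
      (multFun C S ψ (β : C → ℂ) (s₀ ^ k) = 1 ∨ multFun C S ψ (β : C → ℂ) (s₀ ^ k) = -1) := by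
    intro k
    induction k using Nat.strong_induction_on with
    | _ k ih =>
      intro hk
      rcases Nat.lt_or_ge k 2 with hk2 | hk2
      · have hk01 : k = 0 ∨ k = 1 := by omega
        rcases hk01 with h | h
        · rw [h, pow_zero] at hk
          exact absurd rfl hk
        · rw [h, pow_one, hg0]
          rcases hε₀ with h2 | h2
          · left; rw [h2]; norm_num
          · right; rw [h2]; norm_num
      · have hk1 : k ≠ 1 := by omega
        have hq : (k.minFac).Prime := Nat.minFac_prime hk1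
        obtain ⟨k', hk'⟩ := Nat.minFac_dvd k
        have hk'pos : 0 < k' := by
          rcases Nat.eq_zero_or_pos k' with h | h
          · rw [h, mul_zero] at hk'
            omega
          · exact h
        have hk'lt : k' < k := by
          have h2 : 2 ≤ k.minFac := hq.two_le
          calc k' < 2 * k' := by omega
            _ ≤ k.minFac * k' := Nat.mul_le_mul_right _ h2
            _ = k := hk'.symm
        have hpow : (s₀ ^ k') ^ k.minFac = s₀ ^ k := by
          rw [← pow_mul, mul_comm, ← hk']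
        have hk'1 : s₀ ^ k' ≠ 1 := by
          intro h
          apply hk
          rw [← hpow, h, one_pow]
        obtain ⟨z₂, hz₂, hz₂c, -⟩ := hstar' (s₀ ^ k) hk
        have hih := ih k' hk'lt hk'1
        have hz₁ : ∃ z₁ : ℤ, (z₁ = 1 ∨ z₁ = -1) ∧
            (z₁ : ℂ) = multFun C S ψ (β : C → ℂ) (s₀ ^ k') := by
          rcases hih with h | h
          · exact ⟨1, Or.inl rfl, by rw [h]; norm_num⟩
          · exact ⟨-1, Or.inr rfl, by rw [h]; norm_num⟩
        obtain ⟨z₁, hz₁c, hz₁⟩ := hz₁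
        have hdvd := Cfsg.Agent.Lib.Helper39.int_dvd_sub_of_char hq hg (s₀ ^ k') z₁ z₂ hz₁
          (by rw [hpow, hz₂])
        rcases hz₂c with h | h | h
        · exfalso
          rw [h, sub_zero] at hdvd
          have h1 : ((k.minFac : ℕ) : ℤ) ∣ 1 := by
            rcases hz₁c with h2 | h2
            · rw [h2] at hdvd; exact hdvd
            · rw [h2] at hdvd; exact (dvd_neg.mp hdvd)
          have h2 : k.minFac ∣ 1 := by exact_mod_cast h1
          have h3 := Nat.dvd_one.mp h2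
          exact hq.one_lt.ne' h3
        · left; rw [hz₂, h]; norm_num
        · right; rw [hz₂, h]; norm_num
  intro x hx
  have hxk : ∃ k : ℕ, s₀ ^ k = x := by
    have h1 := hs₀ x
    rw [← mem_powers_iff_mem_zpowers, Submonoid.mem_powers_iff] at h1
    exact h1
  obtain ⟨k, rfl⟩ := hxk
  have hpm := hind k hx
  refine ⟨hpm, ?_⟩
  obtain ⟨z, hz, -, hzc⟩ := hstar' (s₀ ^ k) hx
  have hz0 : z ≠ 0 := by
    intro h0
    rw [h0] at hz
    rcases hpm with h | h
    · rw [h] at hz; norm_num at hz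
    · rw [h] at hz; norm_num at hz
  intro c
  rw [hz]
  exact hzc hz0 c

end MultPm

end Cfsg.Agent.Lib.Helper82
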