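import Mathlib
import Cfsg.Prelude.Def_ClassicalGeometry
import Cfsg.Prelude.Def_GeometricClasses
import Cfsg.Agent.Lib.Helper46.OmDefs

/-! OM-UE3 of the Om hive (helper46, S5991), by helper82: if `dim ker N^2 - dim ker N = dim ker N - 1`
(`N = f - 1`, `f` an isometry) then the form on `ker N` has rank `≤ 1`. -/

set_option autoImplicit false
set_option linter.unusedSectionVars false
set_option linter.unusedVariables false

namespace Cfsg.Agent.Lib.Helper46.Om

open Module
open Cfsg.Agent.Lib.Helper2.BG Cfsg.Agent.Lib.Helper99 Cfsg.Agent.Lib.Helper48.Ti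
open Cfsg.Agent.Lib.Helper5.Hy (Plus Orth Fix)

section abstract

variable {F V : Type*} [Field F] [Fintype F] [AddCommGroup V] [Module F V] [FiniteDimensional F V]
variable {B : V →ₗ[F] V →ₗ[F] F}

/-- OM-UE3 -/
theorem unip_rank_one (hs : ∀ u v, B u v = B v u) {f : Module.End F V} (hf : Isom B f)
    (hdim : finrank F ↥(LinearMap.ker ((f - 1) * (f - 1))) + 1 = 2 * finrank F ↥(Fix f)) :
    ∃ δ : F, ∀ w ∈ Fix f, B w w ≠ 0 → IsSquare (B w w * δ) := by
  classical
  set N : Module.End F V := f - 1 with hN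
  have hKK2 : LinearMap.ker N ≤ LinearMap.ker (N * N) := by
    intro k hk
    rw [LinearMap.mem_ker, Module.End.mul_apply, LinearMap.mem_ker.mp hk, map_zero]
  have hRK : (LinearMap.ker (N * N)).map N ≤ LinearMap.ker N := by
    rintro _ ⟨u, hu, rfl⟩
    rw [LinearMap.mem_ker]
    have := LinearMap.mem_ker.mp hu
    rwa [Module.End.mul_apply] at this
  have hfk : ∀ k ∈ LinearMap.ker N, f k = k := by
    intro k hk
    have := LinearMap.mem_ker.mp hk
    rw [hN, LinearMap.sub_apply, Module.End.one_apply, sub_eq_zero] at this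
    exact this
  have horth : ∀ k ∈ LinearMap.ker N, ∀ u, B k (N u) = 0 := by
    intro k hk u
    rw [hN, LinearMap.sub_apply, Module.End.one_apply, map_sub]
    have := hf k u
    rw [hfk k hk] at this
    rw [this, sub_self]
  have hRorth : ∀ ρ ∈ (LinearMap.ker (N * N)).map N, ∀ k ∈ LinearMap.ker N, B k ρ = 0 := by
    rintro _ ⟨u, hu, rfl⟩ k hk
    exact horth k hk u
  have hRdim : finrank F ↥((LinearMap.ker (N * N)).map N) + finrank F ↥(LinearMap.ker N)
      = finrank F ↥(LinearMap.ker (N * N)) := by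
    have h1 := LinearMap.finrank_range_add_finrank_ker (N.domRestrict (LinearMap.ker (N * N)))
    rw [LinearMap.range_domRestrict, LinearMap.ker_domRestrict] at h1
    have h2 : finrank F ↥(Submodule.comap (LinearMap.ker (N * N)).subtype (LinearMap.ker N))
        = finrank F ↥(LinearMap.ker N) :=
      (Submodule.comapSubtypeEquivOfLe hKK2).finrank_eq
    rw [h2] at h1
    exact h1
  set K : Submodule F V := LinearMap.ker N with hK
  set R : Submodule F V := (LinearMap.ker (N * N)).map N with hR
  have hdimK : finrank F ↥R + 1 = finrank F ↥K := by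
    have : finrank F ↥(LinearMap.ker (N * N)) + 1 = 2 * finrank F ↥K := hdim
    omega
  obtain ⟨w0, hw0K, hw0R⟩ : ∃ w0 ∈ K, w0 ∉ R := by
    by_contra h
    push Not at h
    have hKR : K ≤ R := h
    have := Submodule.finrank_mono hKR
    omega
  have hw0 : w0 ≠ 0 := fun h => hw0R (h ▸ R.zero_mem)
  have hsup : R ⊔ Submodule.span F {w0} = K := by
    apply Submodule.eq_of_le_of_finrank_le
    · exact sup_le hRK ((Submodule.span_singleton_le_iff_mem _ _).mpr hw0K)
    · have h1 := Submodule.finrank_sup_add_finrank_inf_eq R (Submodule.span F {w0})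
      have h2 : R ⊓ Submodule.span F {w0} = ⊥ := by
        rw [eq_bot_iff]
        rintro x ⟨hxR, hxs⟩
        obtain ⟨c, rfl⟩ := Submodule.mem_span_singleton.mp hxs
        by_cases hc : c = 0
        · simp [hc]
        · exfalso
          apply hw0R
          have := R.smul_mem c⁻¹ hxR
          rwa [smul_smul, inv_mul_cancel₀ hc, one_smul] at this
      rw [h2, finrank_bot, add_zero, finrank_span_singleton hw0] at h1
      omega
  refine ⟨B w0 w0, fun w hw _ => ?_⟩
  have hwK : w ∈ K := hw
  rw [← hsup] at hwK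
  obtain ⟨ρ, hρ, y, hy, rfl⟩ := Submodule.mem_sup.mp hwK
  obtain ⟨c, rfl⟩ := Submodule.mem_span_singleton.mp hy
  have hρK := hRK hρ
  have e1 : B ρ ρ = 0 := hRorth ρ hρ ρ hρK
  have e2 : B w0 ρ = 0 := hRorth ρ hρ w0 hw0K
  have e3 : B ρ w0 = 0 := by rw [hs]; exact e2
  refine ⟨c * B w0 w0, ?_⟩
  simp only [map_add, map_smul, LinearMap.add_apply, LinearMap.smul_apply, smul_eq_mul, e1, e2, e3]
  ring

end abstract

end Cfsg.Agent.Lib.Helper46.Om
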