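import Mathlib
import Cfsg.Agent.Lib.Helper14.P4Defs
import Cfsg.Agent.Lib.Helper43.InvolMatrix

set_option autoImplicit false

/-! S6000 hive (helper14), leaf P4-I2A: non-scalar involutions of `GL 4 F` are conjugate,
up to a scalar, to `Z1` or `CZ`. -/

namespace Cfsg.Agent.Lib.Helper14.P4

open Matrix

variable {F : Type*} [Field F] [Fintype F]

omit [Fintype F] in
theorem i2a_one_ne_neg_one (h2 : (2 : F) ≠ 0) : (1 : F) ≠ -1 := by
  intro h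
  apply h2
  have : (2 : F) = 1 + 1 := by norm_num
  rw [this]
  nth_rewrite 2 [h]
  rw [add_neg_cancel]

omit [Fintype F] in
theorem i2a_mZ1_ne_smul (h2 : (2 : F) ≠ 0) (a : F) :
    (mZ1 : Matrix (Fin 4) (Fin 4) F) ≠ a • (1 : Matrix (Fin 4) (Fin 4) F) := by
  intro h
  have h0 := congrFun (congrFun h 0) 0
  have h1 := congrFun (congrFun h 2) 2
  simp [mZ1] at h0 h1
  exact i2a_one_ne_neg_one h2 (h0.trans h1.symm)

omit [Fintype F] in
theorem i2a_mCZ_ne_smul (h2 : (2 : F) ≠ 0) (a : F) :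
    (mCZ : Matrix (Fin 4) (Fin 4) F) ≠ a • (1 : Matrix (Fin 4) (Fin 4) F) := by
  intro h
  have h0 := congrFun (congrFun h 0) 0
  have h1 := congrFun (congrFun h 3) 3
  simp [mCZ] at h0 h1
  exact i2a_one_ne_neg_one h2 (h0.trans h1.symm)

/-- `rmin` of a non-scalar involution of size 4 is 1 or 2. -/
theorem i2a_rmin_mem (h2 : (2 : F) ≠ 0) {M : Matrix (Fin 4) (Fin 4) F} (hM : M * M = 1)
    (hns : ∀ a : F, M ≠ a • (1 : Matrix (Fin 4) (Fin 4) F)) :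
    Cfsg.Agent.Lib.Helper43.rmin M = 1 ∨ Cfsg.Agent.Lib.Helper43.rmin M = 2 := by
  have hM' : M * M = ((1 : F) * 1) • (1 : Matrix (Fin 4) (Fin 4) F) := by
    rw [mul_one, one_smul]; exact hM
  have hsum := Cfsg.Agent.Lib.Helper43.edim_add_edim h2 (one_ne_zero) hM'
  have h1 : Cfsg.Agent.Lib.Helper43.edim M 1 ≠ 4 :=
    fun h => hns 1 (Cfsg.Agent.Lib.Helper43.eq_smul_one_of_edim_eq h)
  have h2' : Cfsg.Agent.Lib.Helper43.edim M (-1) ≠ 4 :=
    fun h => hns (-1) (Cfsg.Agent.Lib.Helper43.eq_smul_one_of_edim_eq h)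
  have hmin := Cfsg.Agent.Lib.Helper43.rmin_split h2 (one_ne_zero) hM'
  rcases min_choice (Cfsg.Agent.Lib.Helper43.edim M 1) (Cfsg.Agent.Lib.Helper43.edim M (-1))
    with h | h
  · have := min_le_right (Cfsg.Agent.Lib.Helper43.edim M 1) (Cfsg.Agent.Lib.Helper43.edim M (-1))
    omega
  · have := min_le_left (Cfsg.Agent.Lib.Helper43.edim M 1) (Cfsg.Agent.Lib.Helper43.edim M (-1))
    omega

omit [Fintype F] in
theorem i2a_neg_two_ne_zero (h2 : (2 : F) ≠ 0) : (-2 : F) ≠ 0 := neg_ne_zero.mpr h2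

omit [Fintype F] in
theorem i2a_rank_diag1 {t : F} (ht : t ≠ 0) :
    (Matrix.diagonal ![0, 0, 0, t]).rank = 1 := by
  classical
  rw [Matrix.rank_diagonal]
  have : ∀ j : Fin 4, (![0, 0, 0, t] j ≠ 0) ↔ j = 3 := by
    intro j
    fin_cases j <;> simp [ht]
  exact (Fintype.card_congr (Equiv.subtypeEquivRight this)).trans (by decide)

omit [Fintype F] in
theorem i2a_rank_diag2 {t : F} (ht : t ≠ 0) :
    (Matrix.diagonal ![0, 0, t, t]).rank = 2 := by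
  classical
  rw [Matrix.rank_diagonal]
  have : ∀ j : Fin 4, (![0, 0, t, t] j ≠ 0) ↔ (j = 2 ∨ j = 3) := by
    intro j
    fin_cases j <;> simp [ht]
  exact (Fintype.card_congr (Equiv.subtypeEquivRight this)).trans (by decide)

omit [Fintype F] in
theorem i2a_rank_diag2' {t : F} (ht : t ≠ 0) :
    (Matrix.diagonal ![t, t, 0, 0]).rank = 2 := by
  classical
  rw [Matrix.rank_diagonal]
  have : ∀ j : Fin 4, (![t, t, 0, 0] j ≠ 0) ↔ (j = 0 ∨ j = 1) := by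
    intro j
    fin_cases j <;> simp [ht]
  exact (Fintype.card_congr (Equiv.subtypeEquivRight this)).trans (by decide)

theorem i2a_rmin_mCZ (h2 : (2 : F) ≠ 0) :
    Cfsg.Agent.Lib.Helper43.rmin (mCZ : Matrix (Fin 4) (Fin 4) F) = 1 := by
  have hle := Cfsg.Agent.Lib.Helper43.rmin_le (mCZ : Matrix (Fin 4) (Fin 4) F) 1
  have hd : (mCZ : Matrix (Fin 4) (Fin 4) F) - (1 : F) • (1 : Matrix (Fin 4) (Fin 4) F)
      = Matrix.diagonal ![0, 0, 0, (-2 : F)] := by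
    ext a b; fin_cases a <;> fin_cases b <;> simp [mCZ] <;> norm_num
  rw [hd, i2a_rank_diag1 (i2a_neg_two_ne_zero h2)] at hle
  rcases i2a_rmin_mem h2 mCZ_mul_self (i2a_mCZ_ne_smul h2) with h | h
  · exact h
  · omega

theorem i2a_rmin_mZ1 (h2 : (2 : F) ≠ 0) :
    Cfsg.Agent.Lib.Helper43.rmin (mZ1 : Matrix (Fin 4) (Fin 4) F) = 2 := by
  have hM' : (mZ1 : Matrix (Fin 4) (Fin 4) F) * mZ1
      = ((1 : F) * 1) • (1 : Matrix (Fin 4) (Fin 4) F) := by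
    rw [mul_one, one_smul]; exact mZ1_mul_self
  have hmin := Cfsg.Agent.Lib.Helper43.rmin_split h2 (one_ne_zero) hM'
  have e1 := Cfsg.Agent.Lib.Helper43.rank_sub_add_edim (mZ1 : Matrix (Fin 4) (Fin 4) F) 1
  have e2 := Cfsg.Agent.Lib.Helper43.rank_sub_add_edim (mZ1 : Matrix (Fin 4) (Fin 4) F) (-1)
  have hd1 : (mZ1 : Matrix (Fin 4) (Fin 4) F) - (1 : F) • (1 : Matrix (Fin 4) (Fin 4) F)
      = Matrix.diagonal ![0, 0, (-2 : F), (-2 : F)] := by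
    ext a b; fin_cases a <;> fin_cases b <;> simp [mZ1] <;> norm_num
  have hd2 : (mZ1 : Matrix (Fin 4) (Fin 4) F) - (-1 : F) • (1 : Matrix (Fin 4) (Fin 4) F)
      = Matrix.diagonal ![(2 : F), (2 : F), 0, 0] := by
    ext a b; fin_cases a <;> fin_cases b <;> simp [mZ1] <;> norm_num
  rw [hd1, i2a_rank_diag2 (i2a_neg_two_ne_zero h2)] at e1
  rw [hd2, i2a_rank_diag2' h2] at e2
  have h3 : Cfsg.Agent.Lib.Helper43.edim (mZ1 : Matrix (Fin 4) (Fin 4) F) 1 = 2 := by omega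
  have h4 : Cfsg.Agent.Lib.Helper43.edim (mZ1 : Matrix (Fin 4) (Fin 4) F) (-1) = 2 := by omega
  rw [hmin, h3, h4]
  rfl

/-- P4-I2A.  Non-scalar involutions of `GL 4 F` are conjugate, up to a scalar, to `Z1` or `CZ`. -/
theorem conj_of_sq_eq_one (h2 : (2 : F) ≠ 0) (x : GL (Fin 4) F)
    (hx : (x : Matrix (Fin 4) (Fin 4) F) * (x : Matrix (Fin 4) (Fin 4) F) = 1)
    (hns : ∀ c : F, (x : Matrix (Fin 4) (Fin 4) F) ≠ c • 1) :
    ∃ (g : GL (Fin 4) F) (s : F), s ≠ 0 ∧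
      ((((g⁻¹ * x * g : GL (Fin 4) F)) : Matrix (Fin 4) (Fin 4) F) = s • mZ1 ∨
        (((g⁻¹ * x * g : GL (Fin 4) F)) : Matrix (Fin 4) (Fin 4) F) = s • mCZ) := by
  classical
  have hx1 : (x : Matrix (Fin 4) (Fin 4) F) * (x : Matrix (Fin 4) (Fin 4) F)
      = (1 : F) • (1 : Matrix (Fin 4) (Fin 4) F) := by rw [one_smul]; exact hx
  have hZ : (mZ1 : Matrix (Fin 4) (Fin 4) F) * mZ1 = (1 : F) • (1 : Matrix (Fin 4) (Fin 4) F) := by
    rw [one_smul]; exact mZ1_mul_self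
  have hC : (mCZ : Matrix (Fin 4) (Fin 4) F) * mCZ = (1 : F) • (1 : Matrix (Fin 4) (Fin 4) F) := by
    rw [one_smul]; exact mCZ_mul_self
  have key : ∀ M' : Matrix (Fin 4) (Fin 4) F, M' * M' = (1 : F) • (1 : Matrix (Fin 4) (Fin 4) F) →
      (∀ a : F, M' ≠ a • (1 : Matrix (Fin 4) (Fin 4) F)) →
      Cfsg.Agent.Lib.Helper43.rmin (x : Matrix (Fin 4) (Fin 4) F)
        = Cfsg.Agent.Lib.Helper43.rmin M' →
      ∃ (g : GL (Fin 4) F) (s : F), s ≠ 0 ∧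
        (((g⁻¹ * x * g : GL (Fin 4) F)) : Matrix (Fin 4) (Fin 4) F) = s • M' := by
    intro M' hM' hns' hr
    obtain ⟨P, P', hPP', s, hs, hconj⟩ := Cfsg.Agent.Lib.Helper43.exists_conj_smul h2
      (by norm_num : 1 ≤ 4) one_ne_zero one_ne_zero hx1 hM' hns hns' hr
    have hP'P : P' * P = 1 := mul_eq_one_comm.mp hPP'
    refine ⟨⟨P', P, hP'P, hPP'⟩, s, hs, ?_⟩
    rw [Units.val_mul, Units.val_mul]
    exact hconj
  rcases i2a_rmin_mem h2 hx hns with h | h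
  · obtain ⟨g, s, hs, hg⟩ := key mCZ hC (i2a_mCZ_ne_smul h2) (by rw [h, i2a_rmin_mCZ h2])
    exact ⟨g, s, hs, Or.inr hg⟩
  · obtain ⟨g, s, hs, hg⟩ := key mZ1 hZ (i2a_mZ1_ne_smul h2) (by rw [h, i2a_rmin_mZ1 h2])
    exact ⟨g, s, hs, Or.inl hg⟩

end Cfsg.Agent.Lib.Helper14.P4
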