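import Mathlib
import Cfsg.Prelude.Def_Characters
import Cfsg.Agent.Lib.Helper3.CharOps
import Cfsg.Agent.Lib.Helper12.PermChar3
import Cfsg.Agent.Lib.Helper80.JointEigen
import Cfsg.Agent.Lib.Helper82.FrobArith2

set_option autoImplicit false
set_option linter.style.haveILetI false
set_option linter.unusedSectionVars false
open Cfsg
open scoped ComplexConjugate

/-!
# Characters of an abelian group taking the values `±1` off the identity

Such a character is `b ρ + ε μ` with `ρ` the regular character, `ε = ±1` and `μ` a linear character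
with `μ² = 1`.
-/

namespace Cfsg.Agent.Lib.Helper82

theorem char_pm_one_struct {S : Type*} [Group S] [Fintype S] (hcomm : ∀ a b : S, a * b = b * a)
    {f : S → ℂ} (hf : IsCharacter S f) (hpm : ∀ x : S, x ≠ 1 → f x = 1 ∨ f x = -1) :
    ∃ (ε : ℤ) (μ : S → ℂ) (b : ℕ), (ε = 1 ∨ ε = -1) ∧ IsCharacter S μ ∧ μ 1 = 1 ∧
      (∀ x, μ x * μ x = 1) ∧ (∀ x, x ≠ 1 → f x = (ε : ℂ) * μ x) ∧
      f 1 = (b : ℂ) * (Nat.card S : ℂ) + (ε : ℂ) := by
  classical
  haveI : IsMulCommutative S := ⟨⟨hcomm⟩⟩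
  haveI : Fintype (IrrCharacter S) := Fintype.ofFinite _
  have hlin : ∀ ν : IrrCharacter S, (ν : S → ℂ) 1 = 1 :=
    fun ν => (Cfsg.Agent.Lib.Helper80.irr_isLinear_of_comm ν).2
  have hreg : ∀ g : S, ∑ ν : IrrCharacter S, (ν : S → ℂ) g
      = if g = 1 then (Nat.card S : ℂ) else 0 := by
    intro g
    rw [← Cfsg.Agent.Lib.Helper12.PermChar.regular_char g]
    refine Finset.sum_congr rfl (fun ν _ => ?_)
    rw [hlin ν, one_mul]
  have hcard : Fintype.card (IrrCharacter S) = Nat.card S := by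
    have h1 := hreg 1
    rw [if_pos rfl] at h1
    simp only [hlin, Finset.sum_const, Finset.card_univ, nsmul_eq_mul, mul_one] at h1
    exact_mod_cast h1
  obtain ⟨n, hn, hdec⟩ := Cfsg.Agent.Lib.Helper3.IsCharacter.exists_mult hf
  have hfx : ∀ x : S, f x = ∑ ν : IrrCharacter S, (n ν : ℂ) * (ν : S → ℂ) x := by
    intro x
    conv_lhs => rw [hdec]
    simp only [Finset.sum_apply, Pi.smul_apply, smul_eq_mul]
  have hf1 : f 1 = ((∑ ν : IrrCharacter S, n ν : ℕ) : ℂ) := by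
    rw [hfx 1]
    push_cast
    refine Finset.sum_congr rfl (fun ν _ => ?_)
    rw [hlin ν, mul_one]
  have hnorm : classInner f f = ((∑ ν : IrrCharacter S, (n ν) ^ 2 : ℕ) : ℂ) := by
    conv_lhs => rw [hdec]
    rw [Cfsg.Agent.Lib.Helper3.classInner_sum_sum]
    push_cast
    refine Finset.sum_congr rfl (fun ν _ => ?_)
    rw [Complex.conj_natCast, sq]
  have hS0 : (Nat.card S : ℂ) ≠ 0 := by
    have : 0 < Nat.card S := Nat.card_pos
    exact_mod_cast this.ne'
  have hSpos : 0 < Nat.card S := Nat.card_pos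
  have hsumsq : ∑ x : S, f x * conj (f x)
      = ((∑ ν : IrrCharacter S, n ν : ℕ) : ℂ) ^ 2 + ((Nat.card S : ℂ) - 1) := by
    rw [← Finset.add_sum_erase Finset.univ _ (Finset.mem_univ (1 : S))]
    have h1 : ∀ x ∈ Finset.univ.erase (1 : S), f x * conj (f x) = 1 := by
      intro x hx
      have hx1 : x ≠ 1 := (Finset.mem_erase.mp hx).1
      rcases hpm x hx1 with h | h
      · rw [h]; simp
      · rw [h]; simp
    rw [Finset.sum_congr rfl h1, Finset.sum_const, Finset.card_erase_of_mem (Finset.mem_univ _),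
      Finset.card_univ, nsmul_eq_mul, mul_one, hf1, Complex.conj_natCast,
      ← Nat.card_eq_fintype_card, Nat.cast_pred hSpos, sq]
  have hK : Fintype.card (IrrCharacter S) * (∑ ν : IrrCharacter S, (n ν) ^ 2) + 1
      = (∑ ν : IrrCharacter S, n ν) ^ 2 + Fintype.card (IrrCharacter S) := by
    rw [hcard]
    have h1 : classInner f f = (Nat.card S : ℂ)⁻¹ *
        (((∑ ν : IrrCharacter S, n ν : ℕ) : ℂ) ^ 2 + ((Nat.card S : ℂ) - 1)) := by
      unfold classInner
      rw [hsumsq]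
    rw [hnorm] at h1
    have h2 : (Nat.card S : ℂ) * ((∑ ν : IrrCharacter S, (n ν) ^ 2 : ℕ) : ℂ) + 1
        = ((∑ ν : IrrCharacter S, n ν : ℕ) : ℂ) ^ 2 + (Nat.card S : ℂ) := by
      rw [h1]
      field_simp
      ring
    exact_mod_cast h2
  have hm : 0 < Fintype.card (IrrCharacter S) := by rw [hcard]; exact hSpos
  obtain ⟨ν₀, b, hrest, h0⟩ := frob_arith_struct n (∑ ν : IrrCharacter S, n ν)
    (∑ ν : IrrCharacter S, (n ν) ^ 2) hm rfl hK rfl
  -- the value of `f`
  have hval : ∀ x : S, f x = (b : ℂ) * (if x = 1 then (Nat.card S : ℂ) else 0)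
      + ((n ν₀ : ℂ) - (b : ℂ)) * (ν₀ : S → ℂ) x := by
    intro x
    rw [hfx x, ← hreg x, Finset.mul_sum]
    have h1 : ∀ ν : IrrCharacter S, (n ν : ℂ) * (ν : S → ℂ) x
        = (b : ℂ) * (ν : S → ℂ) x + ((n ν : ℂ) - (b : ℂ)) * (ν : S → ℂ) x := by
      intro ν; ring
    rw [Finset.sum_congr rfl (fun ν _ => h1 ν), Finset.sum_add_distrib]
    congr 1
    rw [Finset.sum_eq_single ν₀]
    · intro ν _ hν
      rw [hrest ν hν, sub_self, zero_mul]
    · intro h
      exact absurd (Finset.mem_univ _) h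
  have hεdef : ∃ ε : ℤ, (ε = 1 ∨ ε = -1) ∧ ((n ν₀ : ℂ) - (b : ℂ)) = (ε : ℂ) := by
    rcases h0 with h | h
    · refine ⟨1, Or.inl rfl, ?_⟩
      rw [h]
      push_cast
      ring
    · refine ⟨-1, Or.inr rfl, ?_⟩
      rw [← h]
      push_cast
      ring
  obtain ⟨ε, hε, hεeq⟩ := hεdef
  have hεsq : (ε : ℂ) * (ε : ℂ) = 1 := by
    rcases hε with h | h <;> rw [h] <;> norm_num
  have hoff : ∀ x : S, x ≠ 1 → f x = (ε : ℂ) * (ν₀ : S → ℂ) x := by
    intro x hx
    rw [hval x, if_neg hx, mul_zero, zero_add, hεeq]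
  refine ⟨ε, (ν₀ : S → ℂ), b, hε, Cfsg.Agent.Lib.Helper3.IsIrrCharacter.isCharacter ν₀.2, hlin ν₀,
    ?_, hoff, ?_⟩
  · intro x
    by_cases hx : x = 1
    · rw [hx, hlin ν₀, mul_one]
    · have h1 := hoff x hx
      have h2 : f x * f x = 1 := by
        rcases hpm x hx with h | h <;> rw [h] <;> norm_num
      rw [h1] at h2
      have h3 : ((ε : ℂ) * (ε : ℂ)) * ((ν₀ : S → ℂ) x * (ν₀ : S → ℂ) x) = 1 := by
        rw [← h2]; ring
      rw [hεsq, one_mul] at h3
      exact h3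
  · rw [hval 1, if_pos rfl, hlin ν₀, mul_one, hεeq]

end Cfsg.Agent.Lib.Helper82
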