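import Cfsg.Agent.Lib.Helper82.PrinTwoA
import Cfsg.Agent.S4611

set_option autoImplicit false
open Cfsg
open scoped ComplexConjugate commutatorElement

/-!
The one-sided consequence of Fong's description of the principal block of a `p`-solvable group:
if all members of `p'`-degree of the principal block have `N ≥ O_{p'}(G)` in their kernel, then
`O_{p'}(G / N) = 1`, and `N ≠ G` unless `G` is a `p'`-group.
-/

namespace Cfsg.Agent.Lib.Helper82.PrinTwo

universe u

theorem one_sided {G : Type u} [Group G] [Finite G] (p : ℕ) [hp : Fact p.Prime]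
    (M : Ideal AlgInt) (hM : IsPModular p M) (hps : IsPSolvable p G)
    (N : Subgroup G) [hNn : N.Normal] (hKN : pPrimeCore p G ≤ N)
    (hyp : ∀ χ : IrrCharacter G, χ ∈ principalBlock M G → ¬ p ∣ charDegree (χ : G → ℂ) →
      ∀ n ∈ N, (χ : G → ℂ) n = (χ : G → ℂ) 1) :
    (∀ V : Subgroup G, V.Normal → N ≤ V → ¬ p ∣ N.relIndex V → V ≤ N) ∧
      (N = ⊤ → (Nat.card G).Coprime p) := by
  classical
  haveI hKn : (pPrimeCore p G).Normal := Cfsg.Agent.Lib.Helper55.pPrimeCore_normal' p
  have hcore : pPrimeCore p (G ⧸ pPrimeCore p G) = ⊥ :=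
    Cfsg.Agent.Lib.Helper55.pPrimeCore_quotient_eq_bot p
  have hsurj : Function.Surjective (QuotientGroup.mk' (pPrimeCore p G)) :=
    QuotientGroup.mk'_surjective _
  have hO : ∀ C : Subgroup (G ⧸ pPrimeCore p G), C.Normal → (Nat.card C).Coprime p → C = ⊥ := by
    intro C hCn hCc
    rw [eq_bot_iff, ← hcore]
    exact le_sSup ⟨hCn, hCc⟩
  set L : Subgroup (G ⧸ pPrimeCore p G) := N.map (QuotientGroup.mk' (pPrimeCore p G)) with hLdef
  haveI hLn : L.Normal := Subgroup.Normal.map hNn _ hsurj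
  have hL : ∀ ψ : IrrCharacter (G ⧸ pPrimeCore p G),
      ¬ p ∣ charDegree (ψ : G ⧸ pPrimeCore p G → ℂ) →
      ∀ y ∈ L, (ψ : G ⧸ pPrimeCore p G → ℂ) y = (ψ : G ⧸ pPrimeCore p G → ℂ) 1 := by
    intro ψ hψ y hy
    obtain ⟨n, hn, rfl⟩ := hy
    have hχirr : IsIrrCharacter G (fun g : G => (ψ : G ⧸ pPrimeCore p G → ℂ) (g : G ⧸ pPrimeCore p G)) :=
      Cfsg.Agent.Lib.Helper79.isIrrCharacter_inflate (pPrimeCore p G) ψ.2
    set χ : IrrCharacter G := ⟨_, hχirr⟩ with hχdef
    have hχ1 : (χ : G → ℂ) 1 = (ψ : G ⧸ pPrimeCore p G → ℂ) 1 := by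
      show (ψ : G ⧸ pPrimeCore p G → ℂ) ((1 : G) : G ⧸ pPrimeCore p G) = _
      rw [QuotientGroup.mk_one]
    have hmemB : χ ∈ principalBlock M G := by
      rw [Cfsg.Agent.S4611.mem_principalBlock_iff p M hM hps χ]
      intro k hk
      rw [hχ1]
      show (ψ : G ⧸ pPrimeCore p G → ℂ) ((k : G) : G ⧸ pPrimeCore p G) = _
      rw [(QuotientGroup.eq_one_iff k).mpr hk]
    have hdeg : charDegree (χ : G → ℂ) = charDegree (ψ : G ⧸ pPrimeCore p G → ℂ) := by
      unfold charDegree
      rw [hχ1]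
    have := hyp χ hmemB (by rw [hdeg]; exact hψ) n hn
    rw [hχ1] at this
    exact this
  obtain ⟨P⟩ := (inferInstance : Nonempty (Sylow p (G ⧸ pPrimeCore p G)))
  have hcomap : (L.comap (QuotientGroup.mk' (pPrimeCore p G))) = N := by
    rw [hLdef, Subgroup.comap_map_eq, QuotientGroup.ker_mk', sup_eq_left]
    exact hKN
  constructor
  · intro V hVn hNV hidx
    haveI hV'n : (V.map (QuotientGroup.mk' (pPrimeCore p G))).Normal :=
      Subgroup.Normal.map hVn _ hsurj
    have hLV : L ≤ V.map (QuotientGroup.mk' (pPrimeCore p G)) := Subgroup.map_mono hNV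
    have hrel : L.relIndex (V.map (QuotientGroup.mk' (pPrimeCore p G))) = N.relIndex V := by
      rw [← Subgroup.relIndex_comap, hcomap]
    have hres := normal_le_of_kernel p hO L hL P (V.map (QuotientGroup.mk' (pPrimeCore p G))) hLV
      (by rw [hrel]; exact hidx)
    have h1 : V.map (QuotientGroup.mk' (pPrimeCore p G)) ≤ L := hres.1
    rw [Subgroup.map_le_iff_le_comap, hcomap] at h1
    exact h1
  · intro hNtop
    have hLtop : L = ⊤ := by
      rw [hLdef, hNtop]; exact Subgroup.map_top_of_surjective _ hsurj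
    have hres := normal_le_of_kernel p hO L hL P ⊤ le_top
      (by
        rw [hLtop, Subgroup.relIndex_top_right, Subgroup.index_top]
        exact (Nat.Prime.one_lt hp.out).ne' ∘ Nat.dvd_one.mp)
    have h2 : (⊤ : Subgroup (G ⧸ pPrimeCore p G)) ≤
        ⁅(P : Subgroup (G ⧸ pPrimeCore p G)), (P : Subgroup (G ⧸ pPrimeCore p G))⁆ := hres.2
    have hPP : ⁅(P : Subgroup (G ⧸ pPrimeCore p G)), (P : Subgroup (G ⧸ pPrimeCore p G))⁆ ≤
        (P : Subgroup (G ⧸ pPrimeCore p G)) := by
      rw [Subgroup.commutator_le]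
      intro a ha b hb
      rw [commutatorElement_def]
      exact Subgroup.mul_mem _ (Subgroup.mul_mem _ (Subgroup.mul_mem _ ha hb)
        (Subgroup.inv_mem _ ha)) (Subgroup.inv_mem _ hb)
    have hPtop : (P : Subgroup (G ⧸ pPrimeCore p G)) = ⊤ := top_le_iff.mp (h2.trans hPP)
    have hpg : IsPGroup p (G ⧸ pPrimeCore p G) := by
      intro g
      obtain ⟨k, hk⟩ := P.isPGroup' ⟨g, by rw [hPtop]; exact Subgroup.mem_top g⟩
      refine ⟨k, ?_⟩
      have := congrArg Subtype.val hk
      simpa using this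
    have hsub : Subsingleton (G ⧸ pPrimeCore p G) := by
      by_contra hns
      rw [not_subsingleton_iff_nontrivial] at hns
      haveI := hns
      haveI : Group.IsNilpotent (G ⧸ pPrimeCore p G) := hpg.isNilpotent
      have hlt := IsSolvable.commutator_lt_top_of_nontrivial (G ⧸ pPrimeCore p G)
      have hct : commutator (G ⧸ pPrimeCore p G) = ⊤ := by
        rw [commutator_def]
        have h3 := h2
        rw [hPtop] at h3
        exact top_le_iff.mp h3
      exact (ne_of_lt hlt) hct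
    have hKtop : pPrimeCore p G = ⊤ := QuotientGroup.subgroup_eq_top_of_subsingleton _ hsub
    have hc := Cfsg.Agent.Lib.Helper55.pPrimeCore_card_coprime (G := G) p
    rw [hKtop, Subgroup.card_top] at hc
    exact hc

end Cfsg.Agent.Lib.Helper82.PrinTwo
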