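import Mathlib
import Cfsg.Agent.Lib.Helper81.Q4Defs
import Cfsg.Agent.Lib.Helper8.GUSpJ
import Cfsg.Agent.Lib.Helper99.SpMax

/-! S6002 hive (helper81), leaf Q4-I2A: non-scalar involutions of `Sp_4(F)` are conjugate in
`Sp_4(F)`. -/

set_option autoImplicit false

namespace Cfsg.Agent.Lib.Helper81.Q4

open Matrix Module

section abstractI2A

universe u v

variable {F : Type v} [Field F] {V : Type u} [AddCommGroup V] [Module F V]

/-- an isometric involution which is not `±1` has an adapted symplectic family -/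
theorem i2a_exists_family (h2 : (2 : F) ≠ 0) (ω : LinearMap.BilinForm F V)
    (halt : ω.IsAlt) (hnd : ω.Nondegenerate) (X : V →ₗ[F] V)
    (hXX : ∀ v, X (X v) = v) (hXω : ∀ u v, ω (X u) (X v) = ω u v)
    (hne1 : ∃ v, X v ≠ v) (hne2 : ∃ v, X v ≠ -v) :
    ∃ e f : Fin 2 → V, (∀ i k, ω (e i) (e k) = 0) ∧ (∀ i k, ω (f i) (f k) = 0) ∧
      (∀ i k, ω (e i) (f k) = if i = k then 1 else 0) ∧
      X (e 0) = e 0 ∧ X (f 0) = f 0 ∧ X (e 1) = -e 1 ∧ X (f 1) = -f 1 := by
  have hanti : ∀ x y, ω x y = - ω y x := fun x y => by rw [halt.neg_eq]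
  -- orthogonality of the eigenspaces
  have horth : ∀ a b, X a = a → X b = -b → ω a b = 0 := by
    intro a b ha hb
    have h1 : ω (X a) (X b) = ω a b := hXω a b
    rw [ha, hb, map_neg] at h1
    have h3 : (2 : F) * ω a b = 0 := by linear_combination -h1
    rcases mul_eq_zero.1 h3 with h | h
    · exact absurd h h2
    · exact h
  have horth' : ∀ a b, X a = -a → X b = b → ω a b = 0 := by
    intro a b ha hb
    rw [hanti, horth b a hb ha, neg_zero]
  -- the + part
  obtain ⟨v1, hv1⟩ := hne2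
  set e0 : V := v1 + X v1 with he0
  have he0X : X e0 = e0 := by
    rw [he0, map_add, hXX, add_comm]
  have he0ne : e0 ≠ 0 := by
    intro h
    apply hv1
    rw [he0] at h
    exact (eq_neg_of_add_eq_zero_right h)
  obtain ⟨z1, hz1⟩ : ∃ z, ω e0 z ≠ 0 := by
    by_contra hcon
    push_neg at hcon
    exact he0ne (hnd.1 e0 hcon)
  have hXz1 : ω e0 (X z1) = ω e0 z1 := by
    have := hXω e0 z1
    rw [he0X] at this
    exact this
  set c1 : F := 2 * ω e0 z1 with hc1
  have hc1ne : c1 ≠ 0 := mul_ne_zero h2 hz1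
  set f0 : V := c1⁻¹ • (z1 + X z1) with hf0
  have hf0X : X f0 = f0 := by
    rw [hf0, map_smul, map_add, hXX, add_comm]
  have hef0 : ω e0 f0 = 1 := by
    rw [hf0, map_smul, map_add, hXz1, smul_eq_mul]
    rw [hc1]
    field_simp
    ring
  -- the - part
  obtain ⟨v2, hv2⟩ := hne1
  set e1 : V := v2 - X v2 with he1
  have he1X : X e1 = -e1 := by
    rw [he1, map_sub, hXX, neg_sub]
  have he1ne : e1 ≠ 0 := by
    intro h
    apply hv2
    rw [he1] at h
    exact (sub_eq_zero.1 h).symm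
  obtain ⟨z2, hz2⟩ : ∃ z, ω e1 z ≠ 0 := by
    by_contra hcon
    push_neg at hcon
    exact he1ne (hnd.1 e1 hcon)
  have hXz2 : ω e1 (X z2) = - ω e1 z2 := by
    have := hXω e1 z2
    rw [he1X, map_neg, LinearMap.neg_apply] at this
    rw [← this, neg_neg]
  set c2 : F := 2 * ω e1 z2 with hc2
  have hc2ne : c2 ≠ 0 := mul_ne_zero h2 hz2
  set f1 : V := c2⁻¹ • (z2 - X z2) with hf1
  have hf1X : X f1 = -f1 := by
    rw [hf1, map_smul, map_sub, hXX, ← smul_neg, neg_sub]
  have hef1 : ω e1 f1 = 1 := by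
    rw [hf1, map_smul, map_sub, hXz2, smul_eq_mul]
    rw [hc2]
    field_simp
    ring
  refine ⟨![e0, e1], ![f0, f1], ?_, ?_, ?_, he0X, hf0X, he1X, hf1X⟩
  · intro i k
    fin_cases i <;> fin_cases k
    · exact halt e0
    · exact horth e0 e1 he0X he1X
    · exact horth' e1 e0 he1X he0X
    · exact halt e1
  · intro i k
    fin_cases i <;> fin_cases k
    · exact halt f0
    · exact horth f0 f1 hf0X hf1X
    · exact horth' f1 f0 hf1X hf0X
    · exact halt f1
  · intro i k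
    fin_cases i <;> fin_cases k
    · simpa using hef0
    · simpa using horth e0 f1 he0X hf1X
    · simpa using horth' e1 f0 he1X hf0X
    · simpa using hef1

/-- any two such involutions are related by an isometry -/
theorem i2a_exists_conj [FiniteDimensional F V] (h2 : (2 : F) ≠ 0) (ω : LinearMap.BilinForm F V)
    (halt : ω.IsAlt) (hnd : ω.Nondegenerate) (hfr : finrank F V = 2 * 2)
    (X : V →ₗ[F] V) (hXX : ∀ v, X (X v) = v) (hXω : ∀ u v, ω (X u) (X v) = ω u v)
    (hX1 : ∃ v, X v ≠ v) (hX2 : ∃ v, X v ≠ -v)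
    (Y : V →ₗ[F] V) (hYY : ∀ v, Y (Y v) = v) (hYω : ∀ u v, ω (Y u) (Y v) = ω u v)
    (hY1 : ∃ v, Y v ≠ v) (hY2 : ∃ v, Y v ≠ -v) :
    ∃ T : V ≃ₗ[F] V, (∀ u v, ω (T u) (T v) = ω u v) ∧ ∀ v, T (Y v) = X (T v) := by
  classical
  obtain ⟨e, f, hee, hff, hef, h0, h1, h2', h3⟩ :=
    i2a_exists_family h2 ω halt hnd Y hYY hYω hY1 hY2
  obtain ⟨e', f', hee', hff', hef', h0', h1', h2'', h3'⟩ :=
    i2a_exists_family h2 ω halt hnd X hXX hXω hX1 hX2
  have hfe_of : ∀ (e f : Fin 2 → V), (∀ i k, ω (e i) (f k) = if i = k then 1 else 0) →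
      ∀ i k, ω (f i) (e k) = if i = k then -1 else 0 := by
    intro e f hef i k
    rw [← halt.neg_eq, hef]
    by_cases h : i = k
    · rw [if_pos h, if_pos h.symm]
    · rw [if_neg h, if_neg (Ne.symm h), neg_zero]
  have hfe := hfe_of e f hef
  have hfe' := hfe_of e' f' hef'
  obtain ⟨b, hb⟩ := Cfsg.Agent.Lib.Helper8.GUSp.exists_basis_of_family ω 2 hfr e f hee hff hef hfe
  obtain ⟨b', hb'⟩ :=
    Cfsg.Agent.Lib.Helper8.GUSp.exists_basis_of_family ω 2 hfr e' f' hee' hff' hef' hfe'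
  have hbl : ∀ i, b (Sum.inl i) = e i := fun i => by rw [hb]; rfl
  have hbr : ∀ i, b (Sum.inr i) = f i := fun i => by rw [hb]; rfl
  have hbl' : ∀ i, b' (Sum.inl i) = e' i := fun i => by rw [hb']; rfl
  have hbr' : ∀ i, b' (Sum.inr i) = f' i := fun i => by rw [hb']; rfl
  let T : V ≃ₗ[F] V := b.equiv b' (Equiv.refl _)
  have hT : ∀ x, T (b x) = b' x := by
    intro x
    show b.equiv b' (Equiv.refl _) (b x) = b' x
    rw [Basis.equiv_apply]
    rfl
  have hTe : ∀ i, T (e i) = e' i := fun i => by rw [← hbl, hT, hbl']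
  have hTf : ∀ i, T (f i) = f' i := fun i => by rw [← hbr, hT, hbr']
  refine ⟨T, ?_, ?_⟩
  · have h1 : ω.compl₁₂ (T : V →ₗ[F] V) (T : V →ₗ[F] V) = ω := by
      apply LinearMap.ext_basis b b
      intro x y
      rw [LinearMap.compl₁₂_apply]
      show ω (T (b x)) (T (b y)) = _
      rw [hT, hT]
      rcases x with i | i <;> rcases y with k | k
      · rw [hbl, hbl, hbl', hbl', hee, hee']
      · rw [hbl, hbr, hbl', hbr', hef, hef']
      · rw [hbr, hbl, hbr', hbl', hfe, hfe']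
      · rw [hbr, hbr, hbr', hbr', hff, hff']
    intro u v
    have := congrArg (fun B : LinearMap.BilinForm F V => B u v) h1
    simpa [LinearMap.compl₁₂_apply] using this
  · have h5 : (T : V →ₗ[F] V) ∘ₗ Y = X ∘ₗ (T : V →ₗ[F] V) := by
      apply b.ext
      refine Sum.forall.2 ⟨Fin.forall_fin_two.2 ⟨?_, ?_⟩, Fin.forall_fin_two.2 ⟨?_, ?_⟩⟩
      · simp only [LinearMap.comp_apply, LinearEquiv.coe_coe]
        rw [hbl, h0, hTe, h0']
      · simp only [LinearMap.comp_apply, LinearEquiv.coe_coe]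
        rw [hbl, h2', map_neg, hTe, h2'']
      · simp only [LinearMap.comp_apply, LinearEquiv.coe_coe]
        rw [hbr, h1, hTf, h1']
      · simp only [LinearMap.comp_apply, LinearEquiv.coe_coe]
        rw [hbr, h3, map_neg, hTf, h3']
    intro v
    have := congrArg (fun S : V →ₗ[F] V => S v) h5
    simpa using this

end abstractI2A

section concreteI2A

variable {F : Type*} [Field F]

open Cfsg.Agent.Lib.Helper99

/-- the data of a non-scalar symplectic involution, in linear-map form -/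
theorem i2a_data (x : GL I4 F) (hx : x ∈ Cfsg.spGL 2 F) (hx2 : x * x = 1) (hxs : ¬ IsScalar x) :
    (∀ v, Matrix.toLin' (x : Matrix I4 I4 F) (Matrix.toLin' (x : Matrix I4 I4 F) v) = v) ∧
    (∀ u v, sympB 2 (Matrix.toLin' (x : Matrix I4 I4 F) u) (Matrix.toLin' (x : Matrix I4 I4 F) v)
      = sympB 2 u v) ∧
    (∃ v, Matrix.toLin' (x : Matrix I4 I4 F) v ≠ v) ∧
    (∃ v, Matrix.toLin' (x : Matrix I4 I4 F) v ≠ -v) := by
  have hxp := (mem_spGL_iff 2 x).1 hx
  have hxx : (x : Matrix I4 I4 F) * (x : Matrix I4 I4 F) = 1 := by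
    rw [← Units.val_mul, hx2, Units.val_one]
  refine ⟨?_, ?_, ?_, ?_⟩
  · intro v
    rw [Matrix.toLin'_apply, Matrix.toLin'_apply, Matrix.mulVec_mulVec, hxx, Matrix.one_mulVec]
  · intro u v
    rw [Matrix.toLin'_apply, Matrix.toLin'_apply, sympB_apply, sympB_apply]
    exact hxp u v
  · by_contra hcon
    push_neg at hcon
    apply hxs
    refine ⟨1, ?_⟩
    rw [one_smul]
    apply Matrix.toLin'.injective
    apply LinearMap.ext
    intro v
    rw [hcon v, Matrix.toLin'_one]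
    rfl
  · by_contra hcon
    push_neg at hcon
    apply hxs
    refine ⟨-1, ?_⟩
    apply Matrix.toLin'.injective
    apply LinearMap.ext
    intro v
    rw [hcon v, map_smul, Matrix.toLin'_one]
    simp

variable [Fintype F]

/-- Q4-I2A.  Non-scalar involutions of `Sp_4(F)` are conjugate in `Sp_4(F)`. -/
theorem conj_of_sq_eq_one (h2 : (2 : F) ≠ 0) (x y : GL I4 F)
    (hx : x ∈ Cfsg.spGL 2 F) (hy : y ∈ Cfsg.spGL 2 F)
    (hx2 : x * x = 1) (hy2 : y * y = 1) (hxs : ¬ IsScalar x) (hys : ¬ IsScalar y) :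
    ∃ g ∈ Cfsg.spGL 2 F, g⁻¹ * x * g = y := by
  classical
  obtain ⟨hXX, hXω, hX1, hX2⟩ := i2a_data x hx hx2 hxs
  obtain ⟨hYY, hYω, hY1, hY2⟩ := i2a_data y hy hy2 hys
  have hfr : finrank F (I4 → F) = 2 * 2 := by
    rw [Module.finrank_fintype_fun_eq_card, Fintype.card_sum, Fintype.card_fin]
  obtain ⟨T, hTω, hTY⟩ := i2a_exists_conj h2 (sympB (F := F) 2) (sympB_isAlt 2)
    (sympB_nondegenerate 2) hfr _ hXX hXω hX1 hX2 _ hYY hYω hY1 hY2
  refine ⟨glOfEquiv 2 T, ?_, ?_⟩
  · rw [mem_spGL_iff]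
    intro u v
    rw [glOfEquiv_mulVec, glOfEquiv_mulVec, ← sympB_apply, ← sympB_apply]
    exact hTω u v
  · -- x * g = g * y
    have hkey : x * glOfEquiv 2 T = glOfEquiv 2 T * y := by
      apply Units.ext
      rw [Units.val_mul, Units.val_mul]
      apply Matrix.toLin'.injective
      apply LinearMap.ext
      intro v
      rw [Matrix.toLin'_mul, Matrix.toLin'_mul, LinearMap.comp_apply, LinearMap.comp_apply,
        Matrix.toLin'_apply ((glOfEquiv 2 T : GL I4 F) : Matrix I4 I4 F),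
        Matrix.toLin'_apply ((glOfEquiv 2 T : GL I4 F) : Matrix I4 I4 F),
        glOfEquiv_mulVec, glOfEquiv_mulVec]
      exact (hTY v).symm
    rw [mul_assoc, hkey, inv_mul_cancel_left]

end concreteI2A

end Cfsg.Agent.Lib.Helper81.Q4
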