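import Mathlib
import Cfsg.Prelude.Def_LieTypeChar
import Cfsg.Agent.Lib.Helper20.SqCore
import Cfsg.Agent.Lib.Helper5.AutPSLnSylow
import Cfsg.Agent.Lib.Helper9.UniInv

/-! # Sq hive (helper20, S4625): leaf SQ-PSL (helper82)

`U` = upper unitriangular matrices in `SL_n(F)` (helper5's `AutPSLn.Uni n F`, a `2`-group of odd index),
generated by its involutions in characteristic 2 (helper9's `UniInv.closure_inv_eq_uni`, column peeling).
-/

set_option autoImplicit false

namespace Cfsg.Agent.Lib.Helper20.Sq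

open Cfsg.Agent.Lib.Helper5.AutPSLn (Uni Uni_isPGroup Uni_index_not_dvd)
open Cfsg.Agent.Lib.Helper9.UniInv (invSet closure_inv_eq_uni)

/-- SQ-PSL. `U` = upper unitriangular matrices in `SL_n(F)`; generated by the transvections `1 + t E_ij`, `i < j`
(involutions); `|U| = q^(n(n-1)/2)`, `|SL_n| = ∏ (q^n - q^i) / (q - 1)`. -/
theorem sq_psl (F : Type) [Field F] [Fintype F] [CharP F 2] (n : ℕ) (hn : 2 ≤ n) :
    SqD (Matrix.SpecialLinearGroup (Fin n) F) := by
  haveI : Fact (Nat.Prime 2) := ⟨Nat.prime_two⟩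
  haveI : NeZero n := ⟨by omega⟩
  refine sqD_of_isPGroup (Uni n F) (Uni_isPGroup 2) (Uni_index_not_dvd 2)
    (sq_of_closure_involutions _ (invSet n F) closure_inv_eq_uni (fun s hs => ?_))
  rw [sq, hs.2]

end Cfsg.Agent.Lib.Helper20.Sq
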