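import Mathlib
import Cfsg.Prelude.Def_Characters
import Cfsg.Prelude.Def_CharExt
import Cfsg.Agent.Lib.Helper15.GlaubCyc
import Cfsg.Agent.Lib.Helper15.DetChar
import Cfsg.Agent.Lib.Helper15.Gallagher
import Cfsg.Agent.Lib.Helper75.CliffordCorr
import Cfsg.Agent.Lib.Helper25.IndNormal

set_option autoImplicit false
set_option linter.style.haveILetI false
set_option linter.unusedSectionVars false
open Cfsg
open scoped ComplexConjugate

/-!
# The values of a canonical extension on `C x`, for an arbitrary element `x` of the acting group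

Isaacs 13.6 applied inside `G ⟨x⟩`.
-/

namespace Cfsg.Agent.Lib.Helper82

open Cfsg.Agent.Lib.Helper15 Cfsg.Agent.Lib.Helper25 Cfsg.Agent.Lib.Helper75

/-- A character whose restriction to a subgroup is irreducible is irreducible. -/
theorem isIrrCharacter_of_res_irr {G : Type*} [Group G] [Fintype G] (N : Subgroup G) {ψ : G → ℂ}
    (hψ : IsCharacter G ψ) (hN : IsIrrCharacter N (fun n : N => ψ n)) : IsIrrCharacter G ψ := by
  obtain ⟨n, ρ, rfl⟩ := hψ
  have h := resRep_irreducible ρ N hN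
  refine ⟨n, ρ, ?_, rfl⟩
  rw [Cfsg.Agent.Lib.Helper3.isIrreducible_iff] at h ⊢
  exact ⟨h.1, fun S hS => h.2 S (fun g v hv => hS g v hv)⟩

/-- The determinantal order of a restriction divides the determinantal order. -/
theorem detOrder_res_dvd {G : Type*} [Group G] [Finite G] {χ : G → ℂ} (hχ : IsCharacter G χ)
    (H : Subgroup G) : detOrder (fun h : H => χ h) ∣ detOrder χ := by
  unfold detOrder
  apply orderOf_dvd_of_pow_eq_one
  funext h
  rw [Pi.pow_apply, detChar_restrict hχ H h]
  have := congrFun (pow_orderOf_eq_one (detChar χ)) (h : G)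
  rw [Pi.pow_apply] at this
  exact this

section StarAt

variable {Γ : Type*} [Group Γ] [Fintype Γ] (G : Subgroup Γ) [hG : G.Normal]

theorem exists_star_at (x : Γ) (hcop : (Nat.card G).Coprime (orderOf x))
    {χh : Γ → ℂ} (hχh : IsCharacter Γ χh) (hres : IsIrrCharacter G (fun g : G => χh g))
    (hdet : (detOrder χh).Coprime (orderOf x))
    (C : Subgroup Γ) (hC : C = G ⊓ Subgroup.centralizer ({x} : Set Γ)) :
    ∃ (β : IrrCharacter C) (ε : ℤ), (ε = 1 ∨ ε = -1) ∧
      ∀ c : C, χh ((c : Γ) * x) = (ε : ℂ) * (β : C → ℂ) c := by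
  classical
  set Γx : Subgroup Γ := G ⊔ Subgroup.zpowers x with hΓx
  have hGΓx : G ≤ Γx := le_sup_left
  have hxΓx : x ∈ Γx := (le_sup_right : Subgroup.zpowers x ≤ Γx) (Subgroup.mem_zpowers x)
  haveI : Fintype Γx := Fintype.ofFinite _
  haveI hN'n : (G.subgroupOf Γx).Normal := hG.subgroupOf Γx
  haveI : Fintype (G.subgroupOf Γx) := Fintype.ofFinite _
  set a' : Γx := ⟨x, hxΓx⟩ with ha'
  haveI : Fintype (fixSub (G.subgroupOf Γx) a') := Fintype.ofFinite _
  have hord : orderOf a' = orderOf x := Subgroup.orderOf_mk x hxΓx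
  have hcardN' : Nat.card (G.subgroupOf Γx) = Nat.card G :=
    Nat.card_congr (Subgroup.subgroupOfEquivOfLe hGΓx).toEquiv
  have hcop' : (Nat.card (G.subgroupOf Γx)).Coprime (orderOf a') := by
    rw [hcardN', hord]
    exact hcop
  have hdisj : G ⊓ Subgroup.zpowers x = ⊥ := by
    apply disjoint_iff.mp
    apply Subgroup.disjoint_of_coprime_natCard
    rw [Nat.card_zpowers]
    exact hcop
  have hidx' : (G.subgroupOf Γx).index = orderOf a' := by
    rw [hord]
    show G.relIndex (G ⊔ Subgroup.zpowers x) = orderOf x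
    rw [Subgroup.relIndex_sup_left, ← Subgroup.inf_relIndex_right, hdisj,
      Subgroup.relIndex_bot_left, Nat.card_zpowers]
  set χh' : Γx → ℂ := fun y => χh (y : Γ) with hχh'
  have hχh'c : IsCharacter Γx χh' := IsCharacter.comp_hom Γx.subtype hχh
  have hres' : IsIrrCharacter (G.subgroupOf Γx) (fun n : G.subgroupOf Γx => χh' n) :=
    isIrrCharacter_resSub hGΓx hres
  have hcan : IsCanon (G.subgroupOf Γx) χh' := by
    refine ⟨isIrrCharacter_of_res_irr (G.subgroupOf Γx) hχh'c hres', hres', ?_⟩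
    rw [hidx', hord]
    have h1 : detOrder χh' ∣ detOrder χh := detOrder_res_dvd hχh Γx
    exact (Nat.Coprime.coprime_dvd_left h1 hdet).symm
  obtain ⟨β', ε, hε, hstar⟩ := exists_star_eq hcop' hidx' hcan
  -- transport to `C`
  have hCΓx : C ≤ Γx := by
    rw [hC]
    exact inf_le_left.trans hGΓx
  have hjmem : ∀ c : C, (Subgroup.inclusion hCΓx c : Γx) ∈ fixSub (G.subgroupOf Γx) a' := by
    intro c
    rw [mem_fixSub]
    have hc : (c : Γ) ∈ G ⊓ Subgroup.centralizer ({x} : Set Γ) := by
      rw [← hC]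
      exact c.2
    refine ⟨hc.1, ?_⟩
    apply Subtype.ext
    show (c : Γ) * x = x * (c : Γ)
    exact (Subgroup.mem_centralizer_singleton_iff.mp hc.2)
  let j : C →* fixSub (G.subgroupOf Γx) a' :=
    (Subgroup.inclusion hCΓx).codRestrict (fixSub (G.subgroupOf Γx) a') hjmem
  have hjsurj : Function.Surjective j := by
    intro c'
    have hc' := mem_fixSub.mp c'.2
    have h1 : ((c' : Γx) : Γ) ∈ C := by
      rw [hC]
      refine ⟨hc'.1, ?_⟩
      show ((c' : Γx) : Γ) ∈ Subgroup.centralizer ({x} : Set Γ)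
      rw [Subgroup.mem_centralizer_singleton_iff]
      exact congrArg Subtype.val hc'.2
    refine ⟨⟨((c' : Γx) : Γ), h1⟩, ?_⟩
    apply Subtype.ext
    apply Subtype.ext
    rfl
  refine ⟨⟨fun c => (β' : fixSub (G.subgroupOf Γx) a' → ℂ) (j c),
    IsIrrCharacter.comp_surj j hjsurj β'.2⟩, ε, hε, ?_⟩
  intro c
  exact hstar (j c)

end StarAt

end Cfsg.Agent.Lib.Helper82
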