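import Cfsg.Agent.S1492
import Cfsg.Agent.Lib.Helper80.Kernel
import Cfsg.Agent.Lib.Helper79.Basic
import Cfsg.Agent.Lib.Helper79.PG1
import Cfsg.Agent.Lib.Helper25.Ind
import Cfsg.Agent.Lib.Helper25.ZKer
import Cfsg.Agent.Lib.Helper12.PermChar3
import Cfsg.Agent.Lib.Helper15.IrrCrit
import Cfsg.Agent.Lib.Helper3.Induced

set_option autoImplicit false
open Cfsg
open scoped ComplexConjugate commutatorElement

/-!
Character-theoretic separation lemmas used for the statement on extendibility of the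
`p'`-degree characters of a Sylow normalizer.
-/

namespace Cfsg.Agent.Lib.Helper82.SylExt

universe u

section Sep

variable {H : Type u} [Group H] [Finite H]

/-- Irreducible characters having a normal subgroup `A` in their kernel separate the elements
outside `A` from the identity. -/
theorem exists_irr_sep (A : Subgroup H) [A.Normal] {n : H} (hn : n ∉ A) :
    ∃ θ : IrrCharacter H, (∀ y ∈ A, (θ : H → ℂ) y = (θ : H → ℂ) 1) ∧
      (θ : H → ℂ) n ≠ (θ : H → ℂ) 1 := by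
  classical
  haveI : Fintype (H ⧸ A) := Fintype.ofFinite _
  haveI : Finite (IrrCharacter (H ⧸ A)) := Cfsg.Agent.Lib.Helper3.irrCharacter_finite
  haveI : Fintype (IrrCharacter (H ⧸ A)) := Fintype.ofFinite _
  have hne : ((n : H ⧸ A)) ≠ 1 := by
    intro h
    exact hn ((QuotientGroup.eq_one_iff n).mp h)
  have h0 := Cfsg.Agent.Lib.Helper12.PermChar.regular_char (G := H ⧸ A) (n : H ⧸ A)
  rw [if_neg hne] at h0
  have h1 := Cfsg.Agent.Lib.Helper12.PermChar.regular_char (G := H ⧸ A) (1 : H ⧸ A)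
  rw [if_pos rfl] at h1
  by_contra hcon
  push Not at hcon
  have hall : ∀ β : IrrCharacter (H ⧸ A),
      (β : H ⧸ A → ℂ) (n : H ⧸ A) = (β : H ⧸ A → ℂ) 1 := by
    intro β
    have h2 := hcon ⟨fun h : H => (β : H ⧸ A → ℂ) (h : H ⧸ A),
      Cfsg.Agent.Lib.Helper79.isIrrCharacter_inflate A β.2⟩ (by
        intro y hy
        show (β : H ⧸ A → ℂ) (y : H ⧸ A) = (β : H ⧸ A → ℂ) ((1 : H) : H ⧸ A)
        rw [(QuotientGroup.eq_one_iff y).mpr hy, QuotientGroup.mk_one])
    exact h2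
  have h3 : (∑ χ : IrrCharacter (H ⧸ A), (χ : H ⧸ A → ℂ) 1 * (χ : H ⧸ A → ℂ) (n : H ⧸ A)) =
      ∑ χ : IrrCharacter (H ⧸ A), (χ : H ⧸ A → ℂ) 1 * (χ : H ⧸ A → ℂ) 1 :=
    Finset.sum_congr rfl (fun χ _ => by rw [hall χ])
  rw [h0, h1] at h3
  have hcard : (Nat.card (H ⧸ A) : ℂ) ≠ 0 := by exact_mod_cast Nat.card_pos.ne'
  exact hcard h3.symm

/-- The degree of an irreducible character divides the index of any subgroup contained in its
kernel. -/
theorem charDegree_dvd_index_of_le_ker (A : Subgroup H) (θ : IrrCharacter H)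
    (h : ∀ y ∈ A, (θ : H → ℂ) y = (θ : H → ℂ) 1) : charDegree (θ : H → ℂ) ∣ A.index := by
  obtain ⟨K, _, hK, hdvd⟩ := Cfsg.Agent.Lib.Helper80.irr_exists_ker θ
  have hAK : A ≤ K := fun y hy => (hK y).mpr (h y hy)
  exact hdvd.trans (Subgroup.index_dvd_of_le hAK)

/-- Let `A` be a normal subgroup of index prime to `p` and `x ∈ A` outside the derived subgroup of
`A`.  Then some irreducible character of degree prime to `p` has `A'` in its kernel but not `x`. -/
theorem exists_irr_coprime_sep (p : ℕ) [Fact p.Prime] (A : Subgroup H) [hA : A.Normal]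
    (hidx : ¬ p ∣ A.index) {x : H} (hx : x ∈ A) (hx' : x ∉ ⁅A, A⁆) :
    ∃ θ : IrrCharacter H, ¬ p ∣ charDegree (θ : H → ℂ) ∧
      (∀ y ∈ ⁅A, A⁆, (θ : H → ℂ) y = (θ : H → ℂ) 1) ∧ (θ : H → ℂ) x ≠ (θ : H → ℂ) 1 := by
  classical
  haveI : Fintype H := Fintype.ofFinite _
  haveI : Fintype A := Fintype.ofFinite _
  haveI : Finite (IrrCharacter H) := Cfsg.Agent.Lib.Helper3.irrCharacter_finite
  haveI : Fintype (IrrCharacter H) := Fintype.ofFinite _
  have ha : (⟨x, hx⟩ : A) ∉ commutator A := by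
    intro h
    apply hx'
    rw [← Subgroup.map_subtype_commutator]
    exact ⟨⟨x, hx⟩, h, rfl⟩
  obtain ⟨φ, hφ⟩ := Cfsg.Agent.Lib.Helper79.exists_linear_apply_ne_one ha
  set lamF : A → ℂ := fun y => ((φ y : ℂˣ) : ℂ) with hlamF
  have hlam : IsIrrCharacter A lamF := Cfsg.Agent.Lib.Helper79.isIrrCharacter_of_monoidHom φ
  have hlamc : IsCharacter A lamF := Cfsg.Agent.Lib.Helper3.IsIrrCharacter.isCharacter hlam
  set Ψ : H → ℂ := indFun A lamF with hΨdef
  have hΨ : IsCharacter H Ψ := Cfsg.Agent.Lib.Helper3.isCharacter_indFun A hlamc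
  have hΨ1 : Ψ 1 = (A.index : ℂ) := by
    rw [hΨdef, Cfsg.Agent.S1492.indFun_one]
    simp [hlamF]
  obtain ⟨m, hm, hdec⟩ := Cfsg.Agent.Lib.Helper15.exists_nat_decomp hΨ
  have hsum : (A.index : ℂ) =
      ∑ ψ : IrrCharacter H, ((m ψ * charDegree (ψ : H → ℂ) : ℕ) : ℂ) := by
    rw [← hΨ1]
    conv_lhs => rw [hdec]
    rw [Finset.sum_apply]
    refine Finset.sum_congr rfl (fun ψ _ => ?_)
    rw [Pi.smul_apply, smul_eq_mul, ← Cfsg.Agent.Lib.Helper80.irr_charDegree_cast ψ]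
    push_cast
    rfl
  have hsum' : A.index = ∑ ψ : IrrCharacter H, m ψ * charDegree (ψ : H → ℂ) := by
    exact_mod_cast hsum
  have hex : ∃ ψ : IrrCharacter H, m ψ ≠ 0 ∧ ¬ p ∣ charDegree (ψ : H → ℂ) := by
    by_contra hcon
    push Not at hcon
    apply hidx
    rw [hsum']
    apply Finset.dvd_sum
    intro ψ _
    by_cases h0 : m ψ = 0
    · simp [h0]
    · exact Dvd.dvd.mul_left (hcon ψ h0) _
  obtain ⟨ψ, hmψ, hpψ⟩ := hex
  have hinner : classInner Ψ (ψ : H → ℂ) ≠ 0 := by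
    rw [hm ψ]; exact_mod_cast hmψ
  refine ⟨ψ, hpψ, ?_, ?_⟩
  · haveI hZn : (⁅A, A⁆ : Subgroup H).Normal := Subgroup.commutator_normal A A
    have hZA : ⁅A, A⁆ ≤ A := Subgroup.commutator_le_right A A
    have htriv : ∀ z : A, (z : H) ∈ ⁅A, A⁆ → lamF z = lamF 1 := by
      intro z hz
      rw [← Subgroup.map_subtype_commutator] at hz
      obtain ⟨w, hw, hwz⟩ := hz
      have hwz' : w = z := Subtype.ext hwz
      subst hwz'
      have h1 := Abelianization.commutator_subset_ker φ hw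
      rw [MonoidHom.mem_ker] at h1
      simp [hlamF, h1]
    have hΨtriv := (Cfsg.Agent.Lib.Helper25.indFun_trivial_on_iff A ⁅A, A⁆ hZA hlamc).mpr htriv
    intro y hy
    exact Cfsg.Agent.S1492.constituent_eq_degree hΨ ψ.2 hinner y (hΨtriv y hy)
  · intro hxker
    have hcf : IsClassFunction H (ψ : H → ℂ) :=
      Cfsg.Agent.Lib.Helper3.IsCharacter.isClassFunction
        (Cfsg.Agent.Lib.Helper3.IsIrrCharacter.isCharacter ψ.2)
    have hfr := Cfsg.Agent.Lib.Helper25.frobenius_reciprocity A lamF (ψ : H → ℂ) hcf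
    have h1 : classInner lamF (fun h : A => (ψ : H → ℂ) h) ≠ 0 := by
      rw [← hfr]; exact hinner
    have h2 : classInner (fun h : A => (ψ : H → ℂ) h) lamF ≠ 0 := by
      rw [Cfsg.Agent.Lib.Helper3.classInner_conj_symm]
      intro h
      apply h1
      simpa using h
    have hres : IsCharacter A (fun h : A => (ψ : H → ℂ) h) :=
      Cfsg.Agent.Lib.Helper79.isCharacter_restrict
        (Cfsg.Agent.Lib.Helper3.IsIrrCharacter.isCharacter ψ.2) A
    have h3 := Cfsg.Agent.S1492.constituent_eq_degree hres hlam h2 ⟨x, hx⟩ hxker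
    apply hφ
    have h4 : ((φ ⟨x, hx⟩ : ℂˣ) : ℂ) = ((φ 1 : ℂˣ) : ℂ) := h3
    rw [map_one] at h4
    exact Units.ext (by simpa using h4)

end Sep

end Cfsg.Agent.Lib.Helper82.SylExt
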