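import Cfsg.Agent.Lib.Helper82.SylExtA
import Cfsg.Agent.S0078
import Cfsg.Agent.Lib.Helper2.Tate5
import Cfsg.Agent.Lib.Helper2.PResidual
import Cfsg.Agent.Lib.Helper33.NormalPComp
import Mathlib.GroupTheory.Focal

set_option autoImplicit false
open Cfsg
open scoped ComplexConjugate commutatorElement Pointwise

/-!
Group-theoretic part: Burnside's fusion argument modulo a normal subgroup, and Tate's theorem.
-/

namespace Cfsg.Agent.Lib.Helper82.SylExt

universe u

section Grp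

variable {G : Type u} [Group G] [Finite G] {p : ℕ} [hp : Fact p.Prime] (P : Sylow p G)

/-- Burnside's fusion argument modulo a normal subgroup `K₁` with `K₁ ∩ P = P'`: inside a normal
subgroup `M ≥ P` with `N_M(P) = P`, fusion in `P` is trivial modulo `P'`. -/
theorem fusion_mod (K₁ M : Subgroup G) [hK : K₁.Normal] (hPM : (P : Subgroup G) ≤ M)
    (h5a : ⁅(P : Subgroup G), (P : Subgroup G)⁆ ≤ K₁)
    (h5b : ∀ x ∈ (P : Subgroup G), x ∈ K₁ → x ∈ ⁅(P : Subgroup G), (P : Subgroup G)⁆)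
    (h5c : ∀ n ∈ M, n ∈ Subgroup.normalizer ((P : Subgroup G) : Set G) → n ∈ (P : Subgroup G))
    {x u : G} (hx : x ∈ (P : Subgroup G)) (hu : u ∈ M) (hy : u * x * u⁻¹ ∈ (P : Subgroup G)) :
    x⁻¹ * (u * x * u⁻¹) ∈ ⁅(P : Subgroup G), (P : Subgroup G)⁆ := by
  classical
  set y := u * x * u⁻¹ with hydef
  set C : Subgroup G :=
    (Subgroup.centralizer ({(y : G ⧸ K₁)} : Set (G ⧸ K₁))).comap (QuotientGroup.mk' K₁) ⊓ M with hC
  have hmemC : ∀ g : G, g ∈ C ↔ (⁅g, y⁆ ∈ K₁ ∧ g ∈ M) := by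
    intro g
    rw [hC, Subgroup.mem_inf, Subgroup.mem_comap, Subgroup.mem_centralizer_iff]
    apply and_congr_left'
    constructor
    · intro h
      have h1 := h (y : G ⧸ K₁) rfl
      rw [← QuotientGroup.eq_one_iff]
      show QuotientGroup.mk' K₁ ⁅g, y⁆ = 1
      rw [map_commutatorElement, commutatorElement_eq_one_iff_mul_comm]
      exact h1.symm
    · intro h z hz
      rw [Set.mem_singleton_iff] at hz
      subst hz
      have h1 : QuotientGroup.mk' K₁ ⁅g, y⁆ = 1 := (QuotientGroup.eq_one_iff _).mpr h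
      rw [map_commutatorElement, commutatorElement_eq_one_iff_mul_comm] at h1
      exact h1.symm
  have hPC : (P : Subgroup G) ≤ C := by
    intro a ha
    rw [hmemC]
    exact ⟨h5a (Subgroup.commutator_mem_commutator ha hy), hPM ha⟩
  have hQC : ((u • P : Sylow p G) : Subgroup G) ≤ C := by
    intro g hg
    rw [Sylow.coe_subgroup_smul, Subgroup.mem_smul_pointwise_iff_exists] at hg
    obtain ⟨a, ha, rfl⟩ := hg
    rw [MulAut.smul_def, MulAut.conj_apply, hmemC]
    refine ⟨?_, ?_⟩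
    · have e : ⁅u * a * u⁻¹, y⁆ = u * ⁅a, x⁆ * u⁻¹ := by
        rw [hydef, commutatorElement_def, commutatorElement_def]; group
      rw [e]
      exact hK.conj_mem _ (h5a (Subgroup.commutator_mem_commutator ha hx)) u
    · exact M.mul_mem (M.mul_mem hu (hPM ha)) (M.inv_mem hu)
  -- Sylow conjugacy inside `C`
  let P₁ : Sylow p C := (u • P).subtype hQC
  let P₂ : Sylow p C := P.subtype hPC
  obtain ⟨c, hc⟩ := MulAction.exists_smul_eq C P₁ P₂
  have hcu : ∀ a ∈ (P : Subgroup G), ((c : G) * u) * a * ((c : G) * u)⁻¹ ∈ (P : Subgroup G) := by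
    intro a ha
    have h1 : u * a * u⁻¹ ∈ ((u • P : Sylow p G) : Subgroup G) := by
      rw [Sylow.coe_subgroup_smul, Subgroup.mem_smul_pointwise_iff_exists]
      exact ⟨a, ha, by rw [MulAut.smul_def, MulAut.conj_apply]⟩
    have h2 : (⟨u * a * u⁻¹, hQC h1⟩ : C) ∈ (P₁ : Subgroup C) := by
      rw [Sylow.coe_subtype, Subgroup.mem_subgroupOf]
      exact h1
    have h3 : c * ⟨u * a * u⁻¹, hQC h1⟩ * c⁻¹ ∈ ((c • P₁ : Sylow p C) : Subgroup C) := by
      rw [Sylow.coe_subgroup_smul, Subgroup.mem_smul_pointwise_iff_exists]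
      exact ⟨_, h2, by rw [MulAut.smul_def, MulAut.conj_apply]⟩
    rw [hc, Sylow.coe_subtype, Subgroup.mem_subgroupOf] at h3
    have e : ((c : G) * u) * a * ((c : G) * u)⁻¹ =
        ((c * ⟨u * a * u⁻¹, hQC h1⟩ * c⁻¹ : C) : G) := by
      simp only [Subgroup.coe_mul, Subgroup.coe_inv]
      group
    rw [e]
    exact h3
  have hcuN : (c : G) * u ∈ Subgroup.normalizer ((P : Subgroup G) : Set G) := by
    refine Sylow.smul_eq_iff_mem_normalizer.mp ?_
    have hle : ((((c : G) * u) • P : Sylow p G) : Subgroup G) ≤ (P : Subgroup G) := by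
      intro g hg
      rw [Sylow.coe_subgroup_smul, Subgroup.mem_smul_pointwise_iff_exists] at hg
      obtain ⟨a, ha, rfl⟩ := hg
      rw [MulAut.smul_def, MulAut.conj_apply]
      exact hcu a ha
    apply Sylow.ext
    exact ((((c : G) * u) • P).is_maximal' P.isPGroup' hle).symm
  have hcM : (c : G) ∈ M := ((hmemC _).mp c.2).2
  have hcK : ⁅(c : G), y⁆ ∈ K₁ := ((hmemC _).mp c.2).1
  have haP : (c : G) * u ∈ (P : Subgroup G) := h5c _ (M.mul_mem hcM hu) hcuN
  -- now compare modulo `K₁`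
  have e1 : ((c : G) * u) * x * ((c : G) * u)⁻¹ = (c : G) * y * (c : G)⁻¹ := by
    rw [hydef]; group
  have hq1 : ((((c : G) * u) * x * ((c : G) * u)⁻¹ : G) : G ⧸ K₁) = (x : G ⧸ K₁) := by
    have h1 : ⁅(c : G) * u, x⁆ ∈ K₁ := h5a (Subgroup.commutator_mem_commutator haP hx)
    have e : ((c : G) * u) * x * ((c : G) * u)⁻¹ = ⁅(c : G) * u, x⁆ * x := by
      rw [commutatorElement_def]; group
    rw [e, QuotientGroup.mk_mul, (QuotientGroup.eq_one_iff _).mpr h1, one_mul]
  have hq2 : (((c : G) * y * (c : G)⁻¹ : G) : G ⧸ K₁) = (y : G ⧸ K₁) := by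
    have e : (c : G) * y * (c : G)⁻¹ = ⁅(c : G), y⁆ * y := by
      rw [commutatorElement_def]; group
    rw [e, QuotientGroup.mk_mul, (QuotientGroup.eq_one_iff _).mpr hcK, one_mul]
  have hxy : (x : G ⧸ K₁) = (y : G ⧸ K₁) := by
    rw [← hq1, e1, hq2]
  have hK1 : x⁻¹ * y ∈ K₁ := QuotientGroup.eq.mp hxy
  exact h5b _ ((P : Subgroup G).mul_mem ((P : Subgroup G).inv_mem hx) hy) hK1

/-- Under the hypotheses of `fusion_mod`, the normal subgroup `M` has a normal `p`-complement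
(Tate's theorem), given as a complement to `P` in `M`. -/
theorem exists_compl_in (K₁ M : Subgroup G) [hK : K₁.Normal] (hPM : (P : Subgroup G) ≤ M)
    (h5a : ⁅(P : Subgroup G), (P : Subgroup G)⁆ ≤ K₁)
    (h5b : ∀ x ∈ (P : Subgroup G), x ∈ K₁ → x ∈ ⁅(P : Subgroup G), (P : Subgroup G)⁆)
    (h5c : ∀ n ∈ M, n ∈ Subgroup.normalizer ((P : Subgroup G) : Set G) → n ∈ (P : Subgroup G)) :
    ∃ K' : Subgroup M, K'.Normal ∧ K'.IsComplement' ((P.subtype hPM : Sylow p M) : Subgroup M) := by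
  classical
  set PM : Sylow p M := P.subtype hPM with hPMdef
  have hPMcoe : (PM : Subgroup M) = (P : Subgroup G).subgroupOf M := Sylow.coe_subtype _ _
  have hmapP : (PM : Subgroup M).map M.subtype = (P : Subgroup G) := by
    rw [hPMcoe]; exact Subgroup.map_subgroupOf_eq_of_le hPM
  have hfoc : (PM : Subgroup M).focalSubgroup ≤ ⁅(PM : Subgroup M), (PM : Subgroup M)⁆ := by
    rw [Subgroup.focalSubgroup_def, Subgroup.closure_le]
    rintro g ⟨hgP, x, hx, u, rfl⟩
    rw [SetLike.mem_coe, ← Subgroup.mem_map_iff_mem M.subtype_injective,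
      Subgroup.map_commutator, hmapP]
    have hxP : (x : G) ∈ (P : Subgroup G) := by
      rw [hPMcoe, Subgroup.mem_subgroupOf] at hx; exact hx
    have hgP' : ((⁅x, u⁆ : M) : G) ∈ (P : Subgroup G) := by
      rw [hPMcoe, Subgroup.mem_subgroupOf] at hgP; exact hgP
    have e0 : ((⁅x, u⁆ : M) : G) = (x : G) * u * (x : G)⁻¹ * (u : G)⁻¹ := by
      rw [commutatorElement_def]; simp
    have h1 : (u : G) * (x : G)⁻¹ * (u : G)⁻¹ ∈ (P : Subgroup G) := by
      have e : (u : G) * (x : G)⁻¹ * (u : G)⁻¹ = (x : G)⁻¹ * ((⁅x, u⁆ : M) : G) := by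
        rw [e0]; group
      rw [e]
      exact (P : Subgroup G).mul_mem ((P : Subgroup G).inv_mem hxP) hgP'
    have h2 := fusion_mod P K₁ M hPM h5a h5b h5c ((P : Subgroup G).inv_mem hxP) u.2 h1
    have e : M.subtype ⁅x, u⁆ = ((x : G)⁻¹)⁻¹ * ((u : G) * (x : G)⁻¹ * (u : G)⁻¹) := by
      show ((⁅x, u⁆ : M) : G) = _
      rw [e0]; group
    rw [e]
    exact h2
  have h1 : commutator M ⊓ (PM : Subgroup M) ≤ ⁅(PM : Subgroup M), (PM : Subgroup M)⁆ := by
    rw [Subgroup.commutator_inf_eq_focalSubgroup PM]; exact hfoc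
  have hExt := Cfsg.Agent.S0078.extFp_of_focal_le PM (PM : Subgroup M) le_rfl h1
  have h2 := Cfsg.Agent.Lib.Helper2.tate (PM : Subgroup M) PM le_rfl hExt
  rw [Cfsg.Agent.Lib.Helper2.pResidual_eq_bot_of_isPGroup PM.isPGroup', Subgroup.map_bot] at h2
  have h3 := Cfsg.Agent.Lib.Helper2.not_dvd_card_pResidual_of_inf_eq_bot PM (le_bot_iff.mp h2)
  exact (Cfsg.Agent.Lib.Helper2.exists_normal_complement_iff_not_dvd_card_pResidual PM).mpr h3

end Grp

end Cfsg.Agent.Lib.Helper82.SylExt
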