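import Cfsg.Agent.Lib.Helper25.TypeP3

set_option autoImplicit false
set_option linter.unusedSectionVars false
set_option linter.unusedVariables false

namespace Cfsg.Agent.Lib.Helper82

open Cfsg

section TypePGrp

variable {L : Type*} [Group L] [Fintype L] (K W₁ W₂ : Subgroup L) [hK : K.Normal]

/-- elements of `W₂` commute with elements of `W₁`. -/
theorem tp_comm
    (hC : ∀ x ∈ W₁, x ≠ 1 → K ⊓ Subgroup.centralizer ({x} : Set L) = W₂)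
    {c x : L} (hc : c ∈ W₂) (hx : x ∈ W₁) : c * x = x * c := by
  by_cases hx1 : x = 1
  · rw [hx1, mul_one, one_mul]
  · have h := hC x hx hx1
    rw [← h] at hc
    have h2 : c ∈ Subgroup.centralizer ({x} : Set L) := hc.2
    rw [Subgroup.mem_centralizer_singleton_iff] at h2
    exact h2

/-- the set of products `c x` as a subgroup. -/
def tpProd
    (hC : ∀ x ∈ W₁, x ≠ 1 → K ⊓ Subgroup.centralizer ({x} : Set L) = W₂) : Subgroup L where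
  carrier := {g | ∃ c ∈ W₂, ∃ x ∈ W₁, g = c * x}
  one_mem' := ⟨1, W₂.one_mem, 1, W₁.one_mem, (mul_one 1).symm⟩
  mul_mem' := by
    rintro a b ⟨c, hc, x, hx, rfl⟩ ⟨c', hc', x', hx', rfl⟩
    refine ⟨c * c', W₂.mul_mem hc hc', x * x', W₁.mul_mem hx hx', ?_⟩
    have h := tp_comm K W₁ W₂ hC hc' hx
    calc c * x * (c' * x') = c * (x * c') * x' := by group
      _ = c * (c' * x) * x' := by rw [h]
      _ = c * c' * (x * x') := by group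
  inv_mem' := by
    rintro a ⟨c, hc, x, hx, rfl⟩
    refine ⟨c⁻¹, W₂.inv_mem hc, x⁻¹, W₁.inv_mem hx, ?_⟩
    have h := tp_comm K W₁ W₂ hC (W₂.inv_mem hc) (W₁.inv_mem hx)
    rw [h, mul_inv_rev]

/-- every element of `W₁ ⊔ W₂` is a product `c x`. -/
theorem tp_decomp_sup
    (hC : ∀ x ∈ W₁, x ≠ 1 → K ⊓ Subgroup.centralizer ({x} : Set L) = W₂)
    {w : L} (hw : w ∈ W₁ ⊔ W₂) : ∃ c ∈ W₂, ∃ x ∈ W₁, w = c * x := by
  have h : W₁ ⊔ W₂ ≤ tpProd K W₁ W₂ hC := by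
    apply sup_le
    · intro x hx
      exact ⟨1, W₂.one_mem, x, hx, (one_mul x).symm⟩
    · intro c hc
      exact ⟨c, hc, 1, W₁.one_mem, (mul_one c).symm⟩
  exact h hw

/-- `k x ∈ K` forces `x = 1`. -/
theorem tp_eq_one_of_mem (hKW₁ : K ⊓ W₁ = ⊥) {k x : L} (hk : k ∈ K) (hx : x ∈ W₁)
    (h : k * x ∈ K) : x = 1 := by
  have hxK : x ∈ K := by
    have := K.mul_mem (K.inv_mem hk) h
    rwa [inv_mul_cancel_left] at this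
  have : x ∈ K ⊓ W₁ := ⟨hxK, hx⟩
  rw [hKW₁] at this
  exact Subgroup.mem_bot.mp this

/-- the isomorphism `W₁ ≃* L ⧸ K`. -/
noncomputable def tpEquiv (hKW₁ : K ⊓ W₁ = ⊥) (hKW₁' : K ⊔ W₁ = ⊤) : W₁ ≃* L ⧸ K :=
  MulEquiv.ofBijective ((QuotientGroup.mk' K).comp W₁.subtype) (by
    constructor
    · rw [injective_iff_map_eq_one]
      intro x hx
      have h1 : (x : L) ∈ K := by
        have : (QuotientGroup.mk (x : L) : L ⧸ K) = 1 := hx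
        exact (QuotientGroup.eq_one_iff (x : L)).mp this
      have : (x : L) ∈ K ⊓ W₁ := ⟨h1, x.2⟩
      rw [hKW₁] at this
      exact Subtype.ext (Subgroup.mem_bot.mp this)
    · intro q
      obtain ⟨g, rfl⟩ := QuotientGroup.mk'_surjective K q
      obtain ⟨k, hk, w, hw, rfl⟩ := Cfsg.Agent.Lib.Helper25.typeP_decomp K W₁ hKW₁' g
      refine ⟨⟨w, hw⟩, ?_⟩
      show (QuotientGroup.mk w : L ⧸ K) = (QuotientGroup.mk (k * w) : L ⧸ K)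
      rw [QuotientGroup.mk_mul, (QuotientGroup.eq_one_iff k).mpr hk, one_mul])

theorem tpEquiv_apply (hKW₁ : K ⊓ W₁ = ⊥) (hKW₁' : K ⊔ W₁ = ⊤) (x : W₁) :
    tpEquiv K W₁ hKW₁ hKW₁' x = (QuotientGroup.mk (x : L) : L ⧸ K) := rfl

theorem tpEquiv_symm_mk (hKW₁ : K ⊓ W₁ = ⊥) (hKW₁' : K ⊔ W₁ = ⊤) {k x : L} (hk : k ∈ K)
    (hx : x ∈ W₁) :
    (tpEquiv K W₁ hKW₁ hKW₁').symm (QuotientGroup.mk (k * x) : L ⧸ K) = ⟨x, hx⟩ := by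
  rw [MulEquiv.symm_apply_eq, tpEquiv_apply]
  show (QuotientGroup.mk (k * x) : L ⧸ K) = (QuotientGroup.mk x : L ⧸ K)
  rw [QuotientGroup.mk_mul, (QuotientGroup.eq_one_iff k).mpr hk, one_mul]

/-- the projection `L →* W₁`. -/
noncomputable def tpProj (hKW₁ : K ⊓ W₁ = ⊥) (hKW₁' : K ⊔ W₁ = ⊤) : L →* W₁ :=
  (tpEquiv K W₁ hKW₁ hKW₁').symm.toMonoidHom.comp (QuotientGroup.mk' K)

theorem tpProj_mul (hKW₁ : K ⊓ W₁ = ⊥) (hKW₁' : K ⊔ W₁ = ⊤) {k x : L} (hk : k ∈ K)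
    (hx : x ∈ W₁) : tpProj K W₁ hKW₁ hKW₁' (k * x) = ⟨x, hx⟩ :=
  tpEquiv_symm_mk K W₁ hKW₁ hKW₁' hk hx

/-- the projection `W₁ ⊔ W₂ →* W₂`. -/
noncomputable def tpProj₂ (hKW₁ : K ⊓ W₁ = ⊥) (hKW₁' : K ⊔ W₁ = ⊤) (hW₂K : W₂ ≤ K)
    (hC : ∀ x ∈ W₁, x ≠ 1 → K ⊓ Subgroup.centralizer ({x} : Set L) = W₂) :
    ↥(W₁ ⊔ W₂) →* W₂ where
  toFun w := ⟨(w : L) * ((tpProj K W₁ hKW₁ hKW₁' (w : L) : W₁) : L)⁻¹, by
    obtain ⟨c, hc, x, hx, hw⟩ := tp_decomp_sup K W₁ W₂ hC w.2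
    rw [hw, tpProj_mul K W₁ hKW₁ hKW₁' (hW₂K hc) hx]
    show c * x * x⁻¹ ∈ W₂
    rw [mul_inv_cancel_right]
    exact hc⟩
  map_one' := by
    apply Subtype.ext
    show ((1 : ↥(W₁ ⊔ W₂)) : L) * ((tpProj K W₁ hKW₁ hKW₁' ((1 : ↥(W₁ ⊔ W₂)) : L) : W₁) : L)⁻¹ = 1
    rw [Subgroup.coe_one, map_one, Subgroup.coe_one, inv_one, mul_one]
  map_mul' := by
    intro w w'
    apply Subtype.ext
    obtain ⟨c, hc, x, hx, hw⟩ := tp_decomp_sup K W₁ W₂ hC w.2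
    obtain ⟨c', hc', x', hx', hw'⟩ := tp_decomp_sup K W₁ W₂ hC w'.2
    show ((w * w' : ↥(W₁ ⊔ W₂)) : L) * ((tpProj K W₁ hKW₁ hKW₁' ((w * w' : ↥(W₁ ⊔ W₂)) : L) : W₁) : L)⁻¹
      = ((w : L) * ((tpProj K W₁ hKW₁ hKW₁' (w : L) : W₁) : L)⁻¹)
        * ((w' : L) * ((tpProj K W₁ hKW₁ hKW₁' (w' : L) : W₁) : L)⁻¹)
    rw [Subgroup.coe_mul, map_mul, Subgroup.coe_mul, hw, hw',
      tpProj_mul K W₁ hKW₁ hKW₁' (hW₂K hc) hx, tpProj_mul K W₁ hKW₁ hKW₁' (hW₂K hc') hx']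
    show c * x * (c' * x') * (x * x')⁻¹ = c * x * x⁻¹ * (c' * x' * x'⁻¹)
    have h := tp_comm K W₁ W₂ hC hc' hx
    calc c * x * (c' * x') * (x * x')⁻¹ = c * (x * c') * x⁻¹ := by group
      _ = c * (c' * x) * x⁻¹ := by rw [h]
      _ = c * x * x⁻¹ * (c' * x' * x'⁻¹) := by group

theorem tpProj₂_mul (hKW₁ : K ⊓ W₁ = ⊥) (hKW₁' : K ⊔ W₁ = ⊤) (hW₂K : W₂ ≤ K)
    (hC : ∀ x ∈ W₁, x ≠ 1 → K ⊓ Subgroup.centralizer ({x} : Set L) = W₂)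
    (w : ↥(W₁ ⊔ W₂)) {c x : L} (hc : c ∈ W₂) (hx : x ∈ W₁) (hw : (w : L) = c * x) :
    tpProj₂ K W₁ W₂ hKW₁ hKW₁' hW₂K hC w = ⟨c, hc⟩ := by
  apply Subtype.ext
  show (w : L) * ((tpProj K W₁ hKW₁ hKW₁' (w : L) : W₁) : L)⁻¹ = c
  rw [hw, tpProj_mul K W₁ hKW₁ hKW₁' (hW₂K hc) hx]
  show c * x * x⁻¹ = c
  rw [mul_inv_cancel_right]

end TypePGrp

end Cfsg.Agent.Lib.Helper82
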