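import Cfsg.Agent.S4446
import Cfsg.Agent.S4451
import Cfsg.Agent.Lib.Helper82.TypePGrp
import Cfsg.Agent.Lib.Helper80.JointEigen
import Cfsg.Agent.Lib.Helper76.RelDeg
import Cfsg.Agent.Lib.Helper79.Ito
import Cfsg.Agent.Lib.Helper3.Complete

set_option autoImplicit false
set_option linter.unusedSectionVars false
set_option linter.unusedVariables false

namespace Cfsg.Agent.Lib.Helper82

open Cfsg
open scoped ComplexConjugate

section TypePData

variable {L : Type*} [Group L] [Fintype L] (K W₁ W₂ : Subgroup L) [hK : K.Normal]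
  [Fintype K] [Fintype W₂]

/-- the data attached to an irreducible character `β` of `W₂`: a canonical extension `χh`
of an invariant irreducible character of `K` which corresponds to `β`. -/
structure TPData (β : IrrCharacter W₂) (χh : L → ℂ) : Prop where
  irr : IsIrrCharacter L χh
  res : IsIrrCharacter K (fun k : K => χh k)
  det : (detOrder χh).Coprime (Nat.card W₁)
  star : ∃ ε₀ : ℤ, (ε₀ = 1 ∨ ε₀ = -1) ∧ ∀ c : W₂, ∀ s : L, Subgroup.zpowers s = W₁ →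
    χh ((c : L) * s) = (ε₀ : ℂ) * (β : W₂ → ℂ) c

theorem tp_cop (hKW₁ : K ⊓ W₁ = ⊥) (hKW₁' : K ⊔ W₁ = ⊤)
    (hHall : Nat.Coprime (Nat.card W₁) W₁.index) : (Nat.card K).Coprime (Nat.card W₁) := by
  rw [Cfsg.Agent.Lib.Helper25.typeP_index_eq K W₁ hKW₁ hKW₁'] at hHall
  exact hHall.symm

theorem tp_norm : ∀ s ∈ W₁, ∀ g ∈ K, s * g * s⁻¹ ∈ K :=
  fun s _ g hg => hK.conj_mem g hg s

theorem tp_centralizer_eq (hW₁ : W₁ ≠ ⊥) (hW₁c : IsCyclic W₁)
    (hC : ∀ x ∈ W₁, x ≠ 1 → K ⊓ Subgroup.centralizer ({x} : Set L) = W₂) :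
    W₂ = K ⊓ Subgroup.centralizer (W₁ : Set L) := by
  obtain ⟨a, haW, ha1, hgen⟩ := Cfsg.Agent.Lib.Helper25.typeP_exists_gen W₁ hW₁ hW₁c
  rw [← hC a haW ha1]
  congr 1
  apply le_antisymm
  · intro g hg
    rw [Subgroup.mem_centralizer_iff]
    intro x hx
    have hxa := hgen x hx
    have hg' : a ∈ Subgroup.centralizer ({g} : Set L) := by
      rw [Subgroup.mem_centralizer_singleton_iff]
      have : g ∈ Subgroup.centralizer ({a} : Set L) := hg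
      rw [Subgroup.mem_centralizer_singleton_iff] at this
      exact this.symm
    have h2 : Subgroup.zpowers a ≤ Subgroup.centralizer ({g} : Set L) :=
      (Subgroup.zpowers_le).mpr hg'
    have h3 : x ∈ Subgroup.centralizer ({g} : Set L) := h2 hxa
    rw [Subgroup.mem_centralizer_singleton_iff] at h3
    exact h3
  · apply Subgroup.centralizer_le
    intro y hy
    rw [Set.mem_singleton_iff] at hy
    rw [hy]
    exact haW

/-- existence of the data for every `β`. -/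
theorem tp_exists_data (hKW₁ : K ⊓ W₁ = ⊥) (hKW₁' : K ⊔ W₁ = ⊤) (hW₁ : W₁ ≠ ⊥)
    (hW₁c : IsCyclic W₁) (hHall : Nat.Coprime (Nat.card W₁) W₁.index) (hW₂K : W₂ ≤ K)
    (hC : ∀ x ∈ W₁, x ≠ 1 → K ⊓ Subgroup.centralizer ({x} : Set L) = W₂)
    (β : IrrCharacter W₂) : ∃ χh : L → ℂ, TPData K W₁ W₂ β χh := by
  have h := (Cfsg.Agent.S4446.result K W₁ (tp_norm K W₁) (tp_cop K W₁ hKW₁ hKW₁' hHall) hKW₁'
    hW₁c W₂ (tp_centralizer_eq K W₁ W₂ hW₁ hW₁c hC) hW₂K).2.2 β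
  obtain ⟨χ, χh, ε, hinv, hext, hdet, hε, hstar⟩ := h
  refine ⟨(χh : L → ℂ), χh.2, ?_, hdet, ε, hε, hstar⟩
  have : (fun k : K => (χh : L → ℂ) k) = (χ : K → ℂ) := funext hext
  rw [this]
  exact χ.2

theorem tp_inv_of_class {χh : L → ℂ} (hχ : IsIrrCharacter L χh) :
    ∀ s ∈ W₁, ∀ g g' : K, (g' : L) = s * g * s⁻¹ → χh g' = χh g := by
  intro s _ g g' hgg'
  rw [hgg']
  exact Cfsg.Agent.Lib.Helper3.IsCharacter.isClassFunction
    (Cfsg.Agent.Lib.Helper3.IsIrrCharacter.isCharacter hχ) g s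

/-- the restriction to `K` is determined by `β`. -/
theorem tp_data_unique (hKW₁ : K ⊓ W₁ = ⊥) (hKW₁' : K ⊔ W₁ = ⊤) (hW₁ : W₁ ≠ ⊥)
    (hW₁c : IsCyclic W₁) (hHall : Nat.Coprime (Nat.card W₁) W₁.index) (hW₂K : W₂ ≤ K)
    (hC : ∀ x ∈ W₁, x ≠ 1 → K ⊓ Subgroup.centralizer ({x} : Set L) = W₂)
    {β : IrrCharacter W₂} {χh χh' : L → ℂ} (h : TPData K W₁ W₂ β χh)
    (h' : TPData K W₁ W₂ β χh') : ∀ k : K, χh k = χh' k := by
  have h2 := (Cfsg.Agent.S4446.result K W₁ (tp_norm K W₁) (tp_cop K W₁ hKW₁ hKW₁' hHall) hKW₁'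
    hW₁c W₂ (tp_centralizer_eq K W₁ W₂ hW₁ hW₁c hC) hW₂K).2.1
  obtain ⟨ε, hε, hstar⟩ := h.star
  obtain ⟨ε', hε', hstar'⟩ := h'.star
  have h3 := h2 ⟨fun k : K => χh k, h.res⟩ ⟨fun k : K => χh' k, h'.res⟩ ⟨χh, h.irr⟩ ⟨χh', h'.irr⟩
    (tp_inv_of_class K W₁ h.irr) (tp_inv_of_class K W₁ h'.irr) (fun g => rfl) (fun g => rfl)
    h.det h'.det β ε ε' hε hε' hstar hstar'
  intro k
  exact congrFun (congrArg Subtype.val h3) k

end TypePData

end Cfsg.Agent.Lib.Helper82
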