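import Cfsg.Agent.Lib.Helper82.TypePAbs

set_option autoImplicit false
set_option linter.unusedSectionVars false
set_option linter.unusedVariables false
set_option linter.style.haveILetI false

namespace Cfsg.Agent.Lib.Helper82

open Cfsg
open scoped ComplexConjugate

section TypePHom

variable {L : Type*} [Group L] [Fintype L] (K W₁ W₂ : Subgroup L) [hK : K.Normal]

theorem tp_exists_ne_one (hW₁ : W₁ ≠ ⊥) : ∃ x ∈ W₁, x ≠ 1 := by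
  by_contra hcon
  apply hW₁
  rw [eq_bot_iff]
  intro x hx
  rw [Subgroup.mem_bot]
  by_contra hx1
  exact hcon ⟨x, hx, hx1⟩

/-- two homomorphisms on `W₁ ⊔ W₂` agreeing outside `W₂` are equal. -/
theorem tp_hom_ext (hKW₁ : K ⊓ W₁ = ⊥) (hW₁ : W₁ ≠ ⊥) (hW₂K : W₂ ≤ K)
    (ω ω' : ↥(W₁ ⊔ W₂) →* ℂˣ)
    (h : ∀ w : ↥(W₁ ⊔ W₂), (w : L) ∉ W₂ → ω w = ω' w) : ω = ω' := by
  obtain ⟨x₀, hx₀, hx₀1⟩ := tp_exists_ne_one W₁ hW₁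
  have hx₀K : ∀ {k : L}, k ∈ K → k * x₀ ∉ W₂ := fun hk hmem =>
    hx₀1 (tp_eq_one_of_mem K W₁ hKW₁ hk hx₀ (hW₂K hmem))
  have hle : W₁ ≤ W₁ ⊔ W₂ := le_sup_left
  apply MonoidHom.ext
  intro w
  by_cases hw : (w : L) ∈ W₂
  · have h1 : ((w * ⟨x₀, hle hx₀⟩ : ↥(W₁ ⊔ W₂)) : L) ∉ W₂ := hx₀K (hW₂K hw)
    have h2 : ((⟨x₀, hle hx₀⟩ : ↥(W₁ ⊔ W₂)) : L) ∉ W₂ := by
      have := hx₀K (K.one_mem)
      rwa [one_mul] at this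
    have e1 := h _ h1
    have e2 := h _ h2
    rw [map_mul, map_mul, e2] at e1
    exact mul_right_cancel e1
  · exact h w hw

/-- signs and homomorphisms are determined by the signed values outside `W₂`. -/
theorem tp_sign_hom_ext (hKW₁ : K ⊓ W₁ = ⊥) (hW₁ : W₁ ≠ ⊥) (hW₂K : W₂ ≤ K)
    (hodd₁ : Odd (Nat.card W₁)) (ω ω' : ↥(W₁ ⊔ W₂) →* ℂˣ) (δ δ' : ℂ)
    (hδ : δ = 1 ∨ δ = -1) (hδ' : δ' = 1 ∨ δ' = -1)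
    (h : ∀ w : ↥(W₁ ⊔ W₂), (w : L) ∉ W₂ →
      δ * ((ω w : ℂˣ) : ℂ) = δ' * ((ω' w : ℂˣ) : ℂ)) : δ = δ' ∧ ω = ω' := by
  obtain ⟨x₀, hx₀, hx₀1⟩ := tp_exists_ne_one W₁ hW₁
  have hle : W₁ ≤ W₁ ⊔ W₂ := le_sup_left
  have hsq1 : x₀ * x₀ ≠ 1 := by
    intro hsq
    have h2 : orderOf x₀ ∣ 2 := orderOf_dvd_of_pow_eq_one (by rw [pow_two]; exact hsq)
    have h3 : orderOf x₀ ∣ Nat.card W₁ := Subgroup.orderOf_dvd_natCard W₁ hx₀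
    have h4 : orderOf x₀ ≠ 1 := fun h => hx₀1 (orderOf_eq_one_iff.mp h)
    have h5 : orderOf x₀ = 2 := by
      rcases (Nat.dvd_prime Nat.prime_two).mp h2 with h | h
      · exact absurd h h4
      · exact h
    rw [h5] at h3
    exact (Nat.not_even_iff_odd.mpr hodd₁) (even_iff_two_dvd.mpr h3)
  have hnot : ∀ {x : L}, x ∈ W₁ → x ≠ 1 → x ∉ W₂ := by
    intro x hx hx1 hmem
    apply hx1
    have := tp_eq_one_of_mem K W₁ hKW₁ K.one_mem hx (by rw [one_mul]; exact hW₂K hmem)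
    exact this
  have e1 := h ⟨x₀, hle hx₀⟩ (hnot hx₀ hx₀1)
  have e2 := h (⟨x₀, hle hx₀⟩ * ⟨x₀, hle hx₀⟩) (hnot (W₁.mul_mem hx₀ hx₀) hsq1)
  rw [map_mul, map_mul, Units.val_mul, Units.val_mul] at e2
  have hδsq : δ * δ = 1 := by rcases hδ with h | h <;> rw [h] <;> ring
  have hδ'sq : δ' * δ' = 1 := by rcases hδ' with h | h <;> rw [h] <;> ring
  obtain ⟨a, ha⟩ : ∃ a : ℂ, a = ((ω ⟨x₀, hle hx₀⟩ : ℂˣ) : ℂ) := ⟨_, rfl⟩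
  obtain ⟨b, hb⟩ : ∃ b : ℂ, b = ((ω' ⟨x₀, hle hx₀⟩ : ℂˣ) : ℂ) := ⟨_, rfl⟩
  rw [← ha, ← hb] at e1 e2
  have ha0 : a ≠ 0 := by rw [ha]; exact Units.ne_zero _
  have hab : a * a = b * b := by
    have : (δ * a) * (δ * a) = (δ' * b) * (δ' * b) := by rw [e1]
    calc a * a = (δ * δ) * (a * a) := by rw [hδsq, one_mul]
      _ = (δ * a) * (δ * a) := by ring
      _ = (δ' * b) * (δ' * b) := this
      _ = (δ' * δ') * (b * b) := by ring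
      _ = b * b := by rw [hδ'sq, one_mul]
  rw [← hab] at e2
  have hδeq : δ = δ' := mul_right_cancel₀ (mul_ne_zero ha0 ha0) e2
  refine ⟨hδeq, ?_⟩
  apply tp_hom_ext K W₁ W₂ hKW₁ hW₁ hW₂K
  intro w hw
  have e3 := h w hw
  rw [← hδeq] at e3
  have hδ0 : δ ≠ 0 := by rcases hδ with h | h <;> rw [h] <;> norm_num
  exact Units.ext (mul_left_cancel₀ hδ0 e3)

/-- the restriction of `ω` to `W₂` as an irreducible character. -/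
noncomputable def tpBeta (ω : ↥(W₁ ⊔ W₂) →* ℂˣ) : IrrCharacter W₂ :=
  ⟨fun c : W₂ => ((ω (Subgroup.inclusion le_sup_right c) : ℂˣ) : ℂ),
    Cfsg.Agent.Lib.Helper79.isIrrCharacter_of_monoidHom
      (ω.comp (Subgroup.inclusion (le_sup_right : W₂ ≤ W₁ ⊔ W₂)))⟩

theorem tpBeta_apply (ω : ↥(W₁ ⊔ W₂) →* ℂˣ) (c : W₂) :
    (tpBeta W₁ W₂ ω : W₂ → ℂ) c = ((ω ⟨(c : L), le_sup_right (a := W₁) c.2⟩ : ℂˣ) : ℂ) := rfl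

/-- the linear character of `L ⧸ K` attached to `ω`. -/
noncomputable def tpLam (hKW₁ : K ⊓ W₁ = ⊥) (hKW₁' : K ⊔ W₁ = ⊤) (ω : ↥(W₁ ⊔ W₂) →* ℂˣ) :
    (L ⧸ K) →* ℂˣ :=
  (ω.comp (Subgroup.inclusion (le_sup_left : W₁ ≤ W₁ ⊔ W₂))).comp
    (tpEquiv K W₁ hKW₁ hKW₁').symm.toMonoidHom

theorem tpLam_apply (hKW₁ : K ⊓ W₁ = ⊥) (hKW₁' : K ⊔ W₁ = ⊤) (ω : ↥(W₁ ⊔ W₂) →* ℂˣ)
    {k x : L} (hk : k ∈ K) (hx : x ∈ W₁) :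
    Cfsg.Agent.Lib.Helper25.quotFun K (tpLam K W₁ W₂ hKW₁ hKW₁' ω) (k * x)
      = ((ω ⟨x, le_sup_left (b := W₂) hx⟩ : ℂˣ) : ℂ) := by
  show ((ω (Subgroup.inclusion (le_sup_left : W₁ ≤ W₁ ⊔ W₂)
    ((tpEquiv K W₁ hKW₁ hKW₁').symm (QuotientGroup.mk (k * x) : L ⧸ K))) : ℂˣ) : ℂ) = _
  rw [tpEquiv_symm_mk K W₁ hKW₁ hKW₁' hk hx]
  rfl

/-- the homomorphism on `W₁ ⊔ W₂` with given components. -/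
noncomputable def tpOmega (hKW₁ : K ⊓ W₁ = ⊥) (hKW₁' : K ⊔ W₁ = ⊤) (hW₂K : W₂ ≤ K)
    (hC : ∀ x ∈ W₁, x ≠ 1 → K ⊓ Subgroup.centralizer ({x} : Set L) = W₂)
    (b : W₂ →* ℂˣ) (ν : (L ⧸ K) →* ℂˣ) : ↥(W₁ ⊔ W₂) →* ℂˣ :=
  (b.comp (tpProj₂ K W₁ W₂ hKW₁ hKW₁' hW₂K hC)) *
    ((ν.comp (QuotientGroup.mk' K)).comp (W₁ ⊔ W₂).subtype)

theorem tpOmega_apply (hKW₁ : K ⊓ W₁ = ⊥) (hKW₁' : K ⊔ W₁ = ⊤) (hW₂K : W₂ ≤ K)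
    (hC : ∀ x ∈ W₁, x ≠ 1 → K ⊓ Subgroup.centralizer ({x} : Set L) = W₂)
    (b : W₂ →* ℂˣ) (ν : (L ⧸ K) →* ℂˣ) (w : ↥(W₁ ⊔ W₂)) {c x : L} (hc : c ∈ W₂) (hx : x ∈ W₁)
    (hw : (w : L) = c * x) :
    tpOmega K W₁ W₂ hKW₁ hKW₁' hW₂K hC b ν w = b ⟨c, hc⟩ * ν (QuotientGroup.mk x : L ⧸ K) := by
  show b (tpProj₂ K W₁ W₂ hKW₁ hKW₁' hW₂K hC w) * ν (QuotientGroup.mk (w : L) : L ⧸ K) = _
  rw [tpProj₂_mul K W₁ W₂ hKW₁ hKW₁' hW₂K hC w hc hx hw, hw, QuotientGroup.mk_mul,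
    (QuotientGroup.eq_one_iff c).mpr (hW₂K hc), one_mul]

theorem tpBeta_tpOmega (hKW₁ : K ⊓ W₁ = ⊥) (hKW₁' : K ⊔ W₁ = ⊤) (hW₂K : W₂ ≤ K)
    (hC : ∀ x ∈ W₁, x ≠ 1 → K ⊓ Subgroup.centralizer ({x} : Set L) = W₂)
    (b : W₂ →* ℂˣ) (ν : (L ⧸ K) →* ℂˣ) (c : W₂) :
    (tpBeta W₁ W₂ (tpOmega K W₁ W₂ hKW₁ hKW₁' hW₂K hC b ν) : W₂ → ℂ) c = ((b c : ℂˣ) : ℂ) := by
  rw [tpBeta_apply, tpOmega_apply K W₁ W₂ hKW₁ hKW₁' hW₂K hC b ν _ c.2 W₁.one_mem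
    (by rw [mul_one])]
  rw [QuotientGroup.mk_one, map_one, mul_one]

theorem tpLam_tpOmega (hKW₁ : K ⊓ W₁ = ⊥) (hKW₁' : K ⊔ W₁ = ⊤) (hW₂K : W₂ ≤ K)
    (hC : ∀ x ∈ W₁, x ≠ 1 → K ⊓ Subgroup.centralizer ({x} : Set L) = W₂)
    (b : W₂ →* ℂˣ) (ν : (L ⧸ K) →* ℂˣ) :
    Cfsg.Agent.Lib.Helper25.quotFun K
      (tpLam K W₁ W₂ hKW₁ hKW₁' (tpOmega K W₁ W₂ hKW₁ hKW₁' hW₂K hC b ν))
      = Cfsg.Agent.Lib.Helper25.quotFun K ν := by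
  funext g
  obtain ⟨k, hk, x, hx, rfl⟩ := Cfsg.Agent.Lib.Helper25.typeP_decomp K W₁ hKW₁' g
  rw [tpLam_apply K W₁ W₂ hKW₁ hKW₁' _ hk hx,
    tpOmega_apply K W₁ W₂ hKW₁ hKW₁' hW₂K hC b ν _ W₂.one_mem hx (by rw [one_mul])]
  show ((b 1 * ν (QuotientGroup.mk x : L ⧸ K) : ℂˣ) : ℂ)
    = ((ν (QuotientGroup.mk (k * x) : L ⧸ K) : ℂˣ) : ℂ)
  rw [map_one, one_mul, QuotientGroup.mk_mul, (QuotientGroup.eq_one_iff k).mpr hk, one_mul]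

end TypePHom

end Cfsg.Agent.Lib.Helper82
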