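import Cfsg.Agent.Lib.Helper82.TypePHom

set_option autoImplicit false
set_option linter.unusedSectionVars false
set_option linter.unusedVariables false
set_option linter.style.haveILetI false

namespace Cfsg.Agent.Lib.Helper82

open Cfsg
open scoped ComplexConjugate

section TypePMain

variable {L : Type*} [Group L] [Fintype L] (K W₁ W₂ : Subgroup L) [hK : K.Normal]

theorem tp_main (hKW₁ : K ⊓ W₁ = ⊥) (hKW₁' : K ⊔ W₁ = ⊤) (hW₁ : W₁ ≠ ⊥) (hW₁c : IsCyclic W₁)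
    (hHall : Nat.Coprime (Nat.card W₁) W₁.index) (hW₂ : W₂ ≠ ⊥) (hW₂c : IsCyclic W₂)
    (hW₂K : W₂ ≤ K)
    (hC : ∀ x ∈ W₁, x ≠ 1 → K ⊓ Subgroup.centralizer ({x} : Set L) = W₂)
    (hodd : Odd (Nat.card ↥(W₁ ⊔ W₂))) :
    ∃ (μ : (↥(W₁ ⊔ W₂) →* ℂˣ) → (L → ℂ)) (δ : (↥(W₁ ⊔ W₂) →* ℂˣ) → ℂ),
      Function.Injective μ ∧ (∀ ω, Cfsg.IsIrrCharacter L (μ ω)) ∧ (∀ ω, δ ω = 1 ∨ δ ω = -1) ∧
      (∀ ω ω' : ↥(W₁ ⊔ W₂) →* ℂˣ, (∀ w : ↥(W₁ ⊔ W₂), (w : L) ∈ W₂ → ω w = ω' w) →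
        δ ω = δ ω' ∧ Cfsg.indFun (W₁ ⊔ W₂) (fun w => (ω w : ℂ) - (ω' w : ℂ))
          = δ ω • (μ ω - μ ω')) ∧
      (∀ ω, ∀ w : ↥(W₁ ⊔ W₂), (w : L) ∉ W₂ → μ ω w = δ ω * (ω w : ℂ)) ∧
      (∀ θ : L → ℂ, Cfsg.IsIrrCharacter L θ → (∀ ω, θ ≠ μ ω) →
        ∀ w : ↥(W₁ ⊔ W₂), (w : L) ∉ W₂ → θ w = 0) ∧
      (∀ ω, ∃ n : ℤ, μ ω 1 - δ ω = n * (Nat.card W₁ : ℂ)) := by
  classical
  have hodd₁ : Odd (Nat.card W₁) :=
    hodd.of_dvd_nat (Subgroup.card_dvd_of_le (le_sup_left : W₁ ≤ W₁ ⊔ W₂))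
  choose χhOf hdata using (fun β : IrrCharacter W₂ =>
    tp_exists_data K W₁ W₂ hKW₁ hKW₁' hW₁ hW₁c hHall hW₂K hC β)
  choose εOf hεOf using (fun β : IrrCharacter W₂ =>
    tp_data_values K W₁ W₂ hKW₁ hKW₁' hW₁ hW₁c hHall hW₂c hW₂K hC hodd₁ (hdata β))
  obtain ⟨μ, hμ⟩ : ∃ μ : (↥(W₁ ⊔ W₂) →* ℂˣ) → (L → ℂ), μ = fun ω =>
    Cfsg.Agent.Lib.Helper25.quotFun K (tpLam K W₁ W₂ hKW₁ hKW₁' ω) * χhOf (tpBeta W₁ W₂ ω) :=
    ⟨_, rfl⟩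
  obtain ⟨δ, hδdef⟩ : ∃ δ : (↥(W₁ ⊔ W₂) →* ℂˣ) → ℂ, δ = fun ω =>
    ((εOf (tpBeta W₁ W₂ ω) : ℤ) : ℂ) := ⟨_, rfl⟩
  have hμa : ∀ ω g, μ ω g = Cfsg.Agent.Lib.Helper25.quotFun K (tpLam K W₁ W₂ hKW₁ hKW₁' ω) g
      * χhOf (tpBeta W₁ W₂ ω) g := fun ω g => by rw [hμ]; rfl
  have hδa : ∀ ω, δ ω = ((εOf (tpBeta W₁ W₂ ω) : ℤ) : ℂ) := fun ω => by rw [hδdef]
  -- irreducibility
  have hirr : ∀ ω, IsIrrCharacter L (μ ω) := by
    intro ω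
    have : μ ω = Cfsg.Agent.Lib.Helper25.quotFun K (tpLam K W₁ W₂ hKW₁ hKW₁' ω)
        * χhOf (tpBeta W₁ W₂ ω) := by rw [hμ]
    rw [this]
    exact Cfsg.Agent.Lib.Helper15.isIrrCharacter_mul_ext K (hdata _).irr (hdata _).res
      (Cfsg.Agent.Lib.Helper25.quotFun_irr K _) (Cfsg.Agent.Lib.Helper25.quotFun_coset K _)
  -- signs
  have hδ : ∀ ω, δ ω = 1 ∨ δ ω = -1 := by
    intro ω
    rw [hδa]
    rcases (hεOf (tpBeta W₁ W₂ ω)).1 with h | h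
    · left; rw [h]; norm_num
    · right; rw [h]; norm_num
  -- values off `W₂`
  have hle₁ : W₁ ≤ W₁ ⊔ W₂ := le_sup_left
  have hle₂ : W₂ ≤ W₁ ⊔ W₂ := le_sup_right
  have hval : ∀ ω, ∀ w : ↥(W₁ ⊔ W₂), (w : L) ∉ W₂ → μ ω w = δ ω * ((ω w : ℂˣ) : ℂ) := by
    intro ω w hw
    obtain ⟨c, hc, x, hx, hwcx⟩ := tp_decomp_sup K W₁ W₂ hC w.2
    have hx1 : x ≠ 1 := by
      intro hx1
      apply hw
      rw [hwcx, hx1, mul_one]
      exact hc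
    have hx1' : (⟨x, hx⟩ : W₁) ≠ 1 := fun h => hx1 (congrArg Subtype.val h)
    have h1 := (hεOf (tpBeta W₁ W₂ ω)).2.1 ⟨c, hc⟩ ⟨x, hx⟩ hx1'
    have hww : w = ⟨c, hle₂ hc⟩ * ⟨x, hle₁ hx⟩ := Subtype.ext hwcx
    rw [hμa, hδa, hwcx, tpLam_apply K W₁ W₂ hKW₁ hKW₁' ω (hW₂K hc) hx, h1, tpBeta_apply, hww,
      map_mul, Units.val_mul]
    ring
  -- injectivity
  have hinj : Function.Injective μ := by
    intro ω ω' hωω'
    have := tp_sign_hom_ext K W₁ W₂ hKW₁ hW₁ hW₂K hodd₁ ω ω' (δ ω) (δ ω') (hδ ω) (hδ ω')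
      (fun w hw => by rw [← hval ω w hw, ← hval ω' w hw, hωω'])
    exact this.2
  -- the other characters
  have hother : ∀ θ : L → ℂ, Cfsg.IsIrrCharacter L θ → (∀ ω, θ ≠ μ ω) →
      ∀ w : ↥(W₁ ⊔ W₂), (w : L) ∉ W₂ → θ w = 0 := by
    intro θ hθ hne w hw
    have hθcf := Cfsg.Agent.Lib.Helper3.IsCharacter.isClassFunction
      (Cfsg.Agent.Lib.Helper3.IsIrrCharacter.isCharacter hθ)
    obtain ⟨ψ, hψ, hψne⟩ := Cfsg.Agent.Lib.Helper79.exists_irr_constituent_restrict K hθ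
    have hψne' : classInner ψ (fun k : K => θ k) ≠ 0 := by
      rw [Cfsg.Agent.Lib.Helper3.classInner_conj_symm]
      intro h0
      apply hψne
      have := congrArg conj h0
      rwa [Complex.conj_conj, map_zero] at this
    by_cases hinv : ∀ x ∈ W₁, Cfsg.Agent.Lib.Helper75.conjFun K x ψ = ψ
    · exfalso
      obtain ⟨β, ψh, hd, hext⟩ :=
        tp_data_of_invariant K W₁ W₂ hKW₁ hKW₁' hW₁ hW₁c hHall hW₂K hC hψ hinv
      have huniq := tp_data_unique K W₁ W₂ hKW₁ hKW₁' hW₁ hW₁c hHall hW₂K hC (hdata β) hd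
      have hres : (fun k : K => χhOf β k) = ψ := funext (fun k => (huniq k).trans (hext k))
      have hne' : classInner (fun k : K => χhOf β k) (fun k : K => θ k) ≠ 0 := by
        rw [hres]
        exact hψne'
      obtain ⟨ν, hν⟩ := tp_gallagher K W₁ hKW₁ hKW₁' hW₁c (hdata β).irr (hdata β).res hθ hne'
      haveI : IsMulCommutative W₂ := ⟨⟨fun a b => by
        letI := hW₂c.commGroup
        exact mul_comm a b⟩⟩
      have hlin := Cfsg.Agent.Lib.Helper80.irr_isLinear_of_comm β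
      have h1 : tpBeta W₁ W₂ (tpOmega K W₁ W₂ hKW₁ hKW₁' hW₂K hC
          (Cfsg.Agent.Lib.Helper15.linCharUnitsHom hlin) ν) = β := by
        apply Subtype.ext
        funext c
        rw [tpBeta_tpOmega, Cfsg.Agent.Lib.Helper15.linCharUnitsHom_apply]
      apply hne (tpOmega K W₁ W₂ hKW₁ hKW₁' hW₂K hC
          (Cfsg.Agent.Lib.Helper15.linCharUnitsHom hlin) ν)
      rw [hμ]
      show θ = Cfsg.Agent.Lib.Helper25.quotFun K (tpLam K W₁ W₂ hKW₁ hKW₁' _)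
        * χhOf (tpBeta W₁ W₂ _)
      rw [h1, tpLam_tpOmega]
      exact hν
    · rw [not_forall] at hinv
      obtain ⟨x, hx⟩ := hinv
      rw [Classical.not_imp] at hx
      have hmoved : ∃ x ∈ W₁, Cfsg.Agent.Lib.Helper75.conjFun K x ψ ≠ ψ := ⟨x, hx.1, hx.2⟩
      have hfree := Cfsg.Agent.Lib.Helper25.typeP_not_fixed K W₁ W₂ hKW₁ hKW₁' hW₁ hW₁c hHall
        hW₂c hC hψ hmoved
      have hirrI := Cfsg.Agent.Lib.Helper25.typeP_ind_irreducible K W₁ hKW₁ hKW₁' hψ hfree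
      have h1 : classInner (indFun K ψ) θ = classInner ψ (fun k : K => θ k) :=
        Cfsg.Agent.Lib.Helper25.frobenius_reciprocity K ψ θ hθcf
      rw [Cfsg.Agent.Lib.Helper3.classInner_irr hirrI hθ] at h1
      have h2 : indFun K ψ = θ := by
        by_contra hcon
        rw [if_neg hcon] at h1
        exact hψne' h1.symm
      rw [← h2]
      apply indFun_normal_eq_zero
      intro hwK
      obtain ⟨c, hc, x', hx', hwcx⟩ := tp_decomp_sup K W₁ W₂ hC w.2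
      rw [hwcx] at hwK
      have := tp_eq_one_of_mem K W₁ hKW₁ (hW₂K hc) hx' hwK
      apply hw
      rw [hwcx, this, mul_one]
      exact hc
  refine ⟨μ, δ, hinj, hirr, hδ, ?_, hval, hother, ?_⟩
  · intro ω ω' hag
    have hβ : tpBeta W₁ W₂ ω = tpBeta W₁ W₂ ω' := by
      apply Subtype.ext
      funext c
      rw [tpBeta_apply, tpBeta_apply, hag ⟨(c : L), hle₂ c.2⟩ c.2]
    have hδeq : δ ω = δ ω' := by rw [hδa, hδa, hβ]
    refine ⟨hδeq, ?_⟩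
    exact ind_sub_eq_of_exceptional (W₁ ⊔ W₂) (fun w => (w : L) ∈ W₂) μ δ hinj hirr hδ hval
      hother ω ω' hag hδeq
  · intro ω
    obtain ⟨n, hn⟩ := (hεOf (tpBeta W₁ W₂ ω)).2.2
    refine ⟨n, ?_⟩
    rw [hμa, hδa]
    have h1 : Cfsg.Agent.Lib.Helper25.quotFun K (tpLam K W₁ W₂ hKW₁ hKW₁' ω) 1 = 1 := by
      unfold Cfsg.Agent.Lib.Helper25.quotFun
      rw [QuotientGroup.mk_one, map_one, Units.val_one]
    rw [h1, one_mul]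
    exact hn

end TypePMain

end Cfsg.Agent.Lib.Helper82
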