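import Cfsg.Agent.Lib.Helper82.TypePData

set_option autoImplicit false
set_option linter.unusedSectionVars false
set_option linter.unusedVariables false
set_option linter.style.haveILetI false

namespace Cfsg.Agent.Lib.Helper82

open Cfsg
open scoped ComplexConjugate

section TypePVals

variable {L : Type*} [Group L] [Fintype L] (K W₁ W₂ : Subgroup L) [hK : K.Normal]
  [Fintype K] [Fintype W₂]

/-- a linear character of a group of odd order with square one is trivial. -/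
theorem linChar_eq_one_of_sq {S : Type*} [Group S] [Finite S] (hodd : Odd (Nat.card S))
    {μ : S → ℂ} (hμ : IsCharacter S μ) (hμ1 : μ 1 = 1) (hsq : ∀ x : S, μ x * μ x = 1) (x : S) :
    μ x = 1 := by
  have hmul := Cfsg.Agent.Lib.Helper15.linChar_mul ⟨hμ, hμ1⟩
  have hpow : ∀ n : ℕ, μ (x ^ n) = (μ x) ^ n := by
    intro n
    induction n with
    | zero => rw [pow_zero, pow_zero, hμ1]
    | succ n ih => rw [pow_succ, pow_succ, hmul, ih]
  have h1 : (μ x) ^ Nat.card S = 1 := by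
    rw [← hpow, pow_card_eq_one', hμ1]
  obtain ⟨k, hk⟩ := hodd
  rw [hk, pow_succ, pow_mul, sq, hsq x, one_pow, one_mul] at h1
  exact h1

/-- the values of the canonical extension off `K` and the degree congruence. -/
theorem tp_data_values (hKW₁ : K ⊓ W₁ = ⊥) (hKW₁' : K ⊔ W₁ = ⊤) (hW₁ : W₁ ≠ ⊥)
    (hW₁c : IsCyclic W₁) (hHall : Nat.Coprime (Nat.card W₁) W₁.index) (hW₂c : IsCyclic W₂)
    (hW₂K : W₂ ≤ K)
    (hC : ∀ x ∈ W₁, x ≠ 1 → K ⊓ Subgroup.centralizer ({x} : Set L) = W₂)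
    (hodd : Odd (Nat.card W₁))
    {β : IrrCharacter W₂} {χh : L → ℂ} (h : TPData K W₁ W₂ β χh) :
    ∃ ε : ℤ, (ε = 1 ∨ ε = -1) ∧
      (∀ c : W₂, ∀ x : W₁, x ≠ 1 → χh ((c : L) * x) = (ε : ℂ) * (β : W₂ → ℂ) c) ∧
      ∃ n : ℤ, χh 1 - (ε : ℂ) = n * (Nat.card W₁ : ℂ) := by
  obtain ⟨ε₀, hε₀, hstar⟩ := h.star
  have h2 := Cfsg.Agent.S4451.result K W₁ (tp_norm K W₁) (tp_cop K W₁ hKW₁ hKW₁' hHall) hKW₁'
    hW₁c W₂ (tp_centralizer_eq K W₁ W₂ hW₁ hW₁c hC) hW₂K hC ⟨fun k : K => χh k, h.res⟩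
    (tp_inv_of_class K W₁ h.irr) ⟨χh, h.irr⟩ (fun g => rfl) h.det β ε₀ hε₀ hstar
  obtain ⟨ε, hε, ⟨μ', hμ', hμ'1, hμ'sq, hval⟩, -, hdvd⟩ := h2
  refine ⟨ε, hε, ?_, ?_⟩
  · intro c x hx
    have h3 := hval c x hx
    rw [linChar_eq_one_of_sq hodd hμ' hμ'1 hμ'sq x, mul_one] at h3
    exact h3
  · haveI : IsMulCommutative W₂ := ⟨⟨fun a b => by
      letI := hW₂c.commGroup
      exact mul_comm a b⟩⟩
    have hβ1 : (β : W₂ → ℂ) 1 = 1 := (Cfsg.Agent.Lib.Helper80.irr_isLinear_of_comm β).2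
    have hβd : (charDegree (β : W₂ → ℂ) : ℂ) = 1 := by
      rw [← Cfsg.Agent.Lib.Helper76.Rel.irr_one_eq_charDegree β.2]
      exact hβ1
    have hβd' : charDegree (β : W₂ → ℂ) = 1 := by exact_mod_cast hβd
    have hχd : χh 1 = (charDegree (fun k : K => χh k) : ℂ) := by
      have := Cfsg.Agent.Lib.Helper76.Rel.irr_one_eq_charDegree h.res
      rw [← this]
      rfl
    obtain ⟨n, hn⟩ := hdvd
    refine ⟨n, ?_⟩
    rw [hχd]
    have hn' : ((charDegree (fun k : K => χh k) : ℤ) : ℂ) - (ε : ℂ) * ((charDegree (β : W₂ → ℂ) : ℤ) : ℂ)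
        = ((Nat.card W₁ : ℤ) : ℂ) * (n : ℂ) := by
      exact_mod_cast congrArg (fun z : ℤ => (z : ℂ)) hn
    rw [hβd'] at hn'
    push_cast at hn'
    rw [mul_one] at hn'
    rw [hn', mul_comm]

theorem tp_index_eq (hKW₁ : K ⊓ W₁ = ⊥) (hKW₁' : K ⊔ W₁ = ⊤) : K.index = Nat.card W₁ := by
  rw [Subgroup.index_eq_card]
  exact Cfsg.Agent.Lib.Helper25.typeP_card_quotient K W₁ hKW₁ hKW₁'

/-- every invariant irreducible character of `K` arises. -/
theorem tp_data_of_invariant (hKW₁ : K ⊓ W₁ = ⊥) (hKW₁' : K ⊔ W₁ = ⊤) (hW₁ : W₁ ≠ ⊥)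
    (hW₁c : IsCyclic W₁) (hHall : Nat.Coprime (Nat.card W₁) W₁.index) (hW₂K : W₂ ≤ K)
    (hC : ∀ x ∈ W₁, x ≠ 1 → K ⊓ Subgroup.centralizer ({x} : Set L) = W₂)
    {ψ : K → ℂ} (hψ : IsIrrCharacter K ψ)
    (hinv : ∀ x ∈ W₁, Cfsg.Agent.Lib.Helper75.conjFun K x ψ = ψ) :
    ∃ (β : IrrCharacter W₂) (ψh : L → ℂ), TPData K W₁ W₂ β ψh ∧ ∀ k : K, ψh k = ψ k := by
  have hψcf := Cfsg.Agent.Lib.Helper3.IsCharacter.isClassFunction
    (Cfsg.Agent.Lib.Helper3.IsIrrCharacter.isCharacter hψ)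
  have hidx := tp_index_eq K W₁ hKW₁ hKW₁'
  have hcopI : (Nat.card K).Coprime K.index := by
    rw [hidx]
    exact tp_cop K W₁ hKW₁ hKW₁' hHall
  obtain ⟨ψh, hcan, hext⟩ := Cfsg.Agent.Lib.Helper15.exists_canon hcopI hψ (fun g n =>
    congrFun (Cfsg.Agent.Lib.Helper25.typeP_invariant K W₁ hKW₁' hψcf hinv g) n)
  have hdet : (detOrder ψh).Coprime (Nat.card W₁) := by
    rw [← hidx]
    exact hcan.det.symm
  have h1 := (Cfsg.Agent.S4446.result K W₁ (tp_norm K W₁) (tp_cop K W₁ hKW₁ hKW₁' hHall) hKW₁'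
    hW₁c W₂ (tp_centralizer_eq K W₁ W₂ hW₁ hW₁c hC) hW₂K).1 ⟨fun k : K => ψh k, hcan.res⟩
    ⟨ψh, hcan.irr⟩ (tp_inv_of_class K W₁ hcan.irr) (fun g => rfl) hdet
  obtain ⟨⟨β, ε⟩, ⟨hε, hstar⟩, -⟩ := h1.1
  exact ⟨β, ψh, ⟨hcan.irr, hcan.res, hdet, ε, hε, hstar⟩, hext⟩

/-- Gallagher for the cyclic quotient `L ⧸ K`: an irreducible character lying over the restriction
of an extension `χ` is `χ` times a linear character of the quotient. -/
theorem tp_gallagher (hKW₁ : K ⊓ W₁ = ⊥) (hKW₁' : K ⊔ W₁ = ⊤) (hW₁c : IsCyclic W₁)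
    {χ θ : L → ℂ} (hχ : IsIrrCharacter L χ) (hχK : IsIrrCharacter K (fun k : K => χ k))
    (hθ : IsIrrCharacter L θ)
    (hne : classInner (fun k : K => χ k) (fun k : K => θ k) ≠ 0) :
    ∃ ν : (L ⧸ K) →* ℂˣ, θ = Cfsg.Agent.Lib.Helper25.quotFun K ν * χ := by
  classical
  have hχcf := Cfsg.Agent.Lib.Helper3.IsCharacter.isClassFunction
    (Cfsg.Agent.Lib.Helper3.IsIrrCharacter.isCharacter hχ)
  have hθcf := Cfsg.Agent.Lib.Helper3.IsCharacter.isClassFunction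
    (Cfsg.Agent.Lib.Helper3.IsIrrCharacter.isCharacter hθ)
  have hcyc := Cfsg.Agent.Lib.Helper25.typeP_quotient_cyclic K W₁ hKW₁' hW₁c
  letI : CommGroup (L ⧸ K) := IsCyclic.commGroup
  have : Fintype ((L ⧸ K) →* ℂˣ) := Fintype.ofFinite _
  have hsum : indFun K (fun k : K => χ k)
      = ∑ ν : (L ⧸ K) →* ℂˣ, Cfsg.Agent.Lib.Helper25.quotFun K ν * χ := by
    funext g
    rw [Cfsg.Agent.Lib.Helper25.indFun_restrict_eq K χ hχcf g, Finset.sum_apply]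
    simp only [Pi.mul_apply]
    rw [← Finset.sum_mul]
    have hsum := Cfsg.Agent.Lib.Helper25.sum_hom_apply (L ⧸ K) (QuotientGroup.mk g : L ⧸ K)
    have hsum' : ∑ β : (L ⧸ K) →* ℂˣ, Cfsg.Agent.Lib.Helper25.quotFun K β g =
        if (QuotientGroup.mk g : L ⧸ K) = 1 then (Nat.card (L ⧸ K) : ℂ) else 0 := hsum
    rw [hsum']
    have hcardQ : (Nat.card (L ⧸ K) : ℂ) = (Nat.card K : ℂ)⁻¹ * (Nat.card L : ℂ) := by
      have h1 : Nat.card L = Nat.card (L ⧸ K) * Nat.card K :=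
        Subgroup.card_eq_card_quotient_mul_card_subgroup K
      have hK0 : (Nat.card K : ℂ) ≠ 0 := by exact_mod_cast Nat.card_pos.ne'
      rw [h1]
      push_cast
      field_simp
    by_cases hg : g ∈ K
    · rw [if_pos hg, if_pos ((QuotientGroup.eq_one_iff g).mpr hg), hcardQ]
    · rw [if_neg hg, if_neg (fun h => hg ((QuotientGroup.eq_one_iff g).mp h)), zero_mul]
  have h1 : classInner (indFun K (fun k : K => χ k)) θ
      = classInner (fun k : K => χ k) (fun k : K => θ k) :=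
    Cfsg.Agent.Lib.Helper25.frobenius_reciprocity K _ θ hθcf
  rw [hsum, Cfsg.Agent.Lib.Helper3.classInner_sum_left] at h1
  rw [← h1] at hne
  obtain ⟨ν, -, hν⟩ := Finset.exists_ne_zero_of_sum_ne_zero hne
  refine ⟨ν, ?_⟩
  have hirr : IsIrrCharacter L (Cfsg.Agent.Lib.Helper25.quotFun K ν * χ) :=
    Cfsg.Agent.Lib.Helper15.isIrrCharacter_mul_ext K hχ hχK
      (Cfsg.Agent.Lib.Helper25.quotFun_irr K ν) (Cfsg.Agent.Lib.Helper25.quotFun_coset K ν)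
  rw [Cfsg.Agent.Lib.Helper3.classInner_irr hirr hθ] at hν
  by_contra hcon
  apply hν
  rw [if_neg (fun h => hcon h.symm)]

end TypePVals

end Cfsg.Agent.Lib.Helper82
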