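import Mathlib
import Cfsg.Prelude.Def_Classical
import Cfsg.Prelude.Def_LieClassical
import Cfsg.Agent.Lib.Helper65.UndDefs
import Cfsg.Agent.Lib.Helper55.TuPEEL
import Cfsg.Agent.Lib.Helper55.UndC1
import Cfsg.Agent.Lib.Helper46.TuGA

/-!
# S5954 hive ("Und", owner helper65), leaf UND-C4 `dvd_finrank_nd_moved`, and the core of UND-C5
(`c5_core`: `exists_nd_blocks` with UND-C3 as a hypothesis).
-/

set_option autoImplicit false

namespace Cfsg.Agent.Lib.Helper65.Und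

open Cfsg.Agent.Lib.Helper40.Herm Cfsg.Agent.Lib.Helper2.BG Cfsg.Agent.Lib.Helper14.Tu Polynomial Module

section absC
variable {F : Type*} [Field F] [Fintype F] {q : ℕ} {hF : Fintype.card F = q ^ 2}
  {V : Type*} [AddCommGroup V] [Module F V] [FiniteDimensional F V]
  {H : V →ₗ[F] V →ₛₗ[tauHom hF] F} {g : Module.End F V} {N : ℕ}

/-- UND-C4.  Strong induction on `finrank M` (this is helper46's `ga_dvd_moved` from TU-GA). -/
theorem dvd_finrank_nd_moved {r : ℕ} (hc : Ctx hF H g r) (hr : r.Prime) (hr2 : r ≠ 2)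
    {M : Submodule F V} (hMi : Inv g M) (hM : HNondegOn H M)
    (hMfix : ∀ v ∈ M, g v = v → v = 0) : cOf (orderOf (q : ZMod r)) ∣ finrank F ↥M :=
  ga_dvd_moved hc hr hr2 _ M rfl hMi hM hMfix

omit [FiniteDimensional F V] in
theorem c5_cOf_pos {r : ℕ} (hc : Ctx hF H g r) (hr : r.Prime) :
    0 < cOf (orderOf (q : ZMod r)) := by
  have hb := ga_bOf_pos hc hr
  rcases ga_bc (orderOf (q : ZMod r)) with ⟨_, h⟩ | ⟨_, h⟩ <;> omega

/-- the core of UND-C5, with UND-C3 as a hypothesis -/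
theorem c5_core {r : ℕ} (hc : Ctx hF H g r) (hr : r.Prime) (hr2 : r ≠ 2)
    (hC3 : ∀ M : Submodule F V, Inv g M → HNondegOn H M → M ≠ ⊥ →
      (∀ v ∈ M, g v = v → v = 0) →
      ∃ Y : Submodule F V, Y ≤ M ∧ Inv g Y ∧ HNondegOn H Y ∧
        finrank F ↥Y = cOf (orderOf (q : ZMod r))) :
    ∀ (j : ℕ) (M : Submodule F V), Inv g M → HNondegOn H M →
      (∀ v ∈ M, g v = v → v = 0) → j * cOf (orderOf (q : ZMod r)) ≤ finrank F ↥M →
      FixesIn H g M (j * cOf (orderOf (q : ZMod r))) := by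
  have hcpos := c5_cOf_pos hc hr
  intro j
  induction j with
  | zero =>
    intro M hMi hM hMfix _
    refine ⟨⊥, bot_le, ?_, ?_, ?_⟩
    · intro v hv
      rw [Submodule.mem_bot] at hv ⊢
      rw [hv, map_zero]
    · intro x hx _
      exact (Submodule.mem_bot F).mp hx
    · rw [finrank_bot, Nat.zero_mul]
  | succ j ih =>
    intro M hMi hM hMfix hj
    have hM0 : M ≠ ⊥ := by
      intro h
      rw [h, finrank_bot] at hj
      have : 0 < (j + 1) * cOf (orderOf (q : ZMod r)) := Nat.mul_pos (Nat.succ_pos j) hcpos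
      omega
    obtain ⟨Y, hYM, hYi, hY, hYfr⟩ := hC3 M hMi hM hM0 hMfix
    obtain ⟨hPi, hPnd, hdisj, hsup, hfr⟩ := split hc hMi hM hYi hYM hY
    have hPM : M ⊓ hperp H Y ≤ M := inf_le_left
    have hj' : j * cOf (orderOf (q : ZMod r)) ≤ finrank F ↥(M ⊓ hperp H Y) := by
      rw [Nat.succ_mul] at hj
      omega
    obtain ⟨W, hWP, hWi, hW, hWfr⟩ := ih (M ⊓ hperp H Y) hPi hPnd
      (fun v hv => hMfix v (hPM hv)) hj'
    have horth : ∀ u ∈ W, ∀ v ∈ Y, H u v = 0 := fun u hu v hv => (hWP hu).2 v hv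
    obtain ⟨hnd, -, hfrs⟩ := nd_sup hc.herm hW hY horth
    refine ⟨W ⊔ Y, sup_le (hWP.trans hPM) hYM, ?_, hnd, ?_⟩
    · intro v hv
      obtain ⟨a, ha, b, hb, rfl⟩ := Submodule.mem_sup.mp hv
      rw [map_add]
      exact Submodule.add_mem _ (Submodule.mem_sup_left (hWi a ha))
        (Submodule.mem_sup_right (hYi b hb))
    · rw [hfrs, hWfr, hYfr, Nat.succ_mul]

end absC

end Cfsg.Agent.Lib.Helper65.Und
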