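import Mathlib
import Cfsg.Prelude.Def_Classical
import Cfsg.Prelude.Def_LieClassical
import Cfsg.Agent.Lib.Helper65.UndDefs
import Cfsg.Agent.Lib.Helper82.UndC4
import Cfsg.Agent.Lib.Helper46.UndC3

/-!
# S5954 hive ("Und", owner helper65), leaf UND-C5 `exists_nd_blocks`
-/

set_option autoImplicit false

namespace Cfsg.Agent.Lib.Helper65.Und

open Cfsg.Agent.Lib.Helper40.Herm Cfsg.Agent.Lib.Helper2.BG Cfsg.Agent.Lib.Helper14.Tu Polynomial Module

section absC
variable {F : Type*} [Field F] [Fintype F] {q : ℕ} {hF : Fintype.card F = q ^ 2}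
  {V : Type*} [AddCommGroup V] [Module F V] [FiniteDimensional F V]
  {H : V →ₗ[F] V →ₛₗ[tauHom hF] F} {g : Module.End F V} {N : ℕ}

/-- UND-C5.  Induction on `j` with UND-C3, TU-SPLIT and UND-C1: `j` pairwise orthogonal blocks. -/
theorem exists_nd_blocks {r : ℕ} (hc : Ctx hF H g r) (hr : r.Prime) (hr2 : r ≠ 2)
    {M : Submodule F V} (hMi : Inv g M) (hM : HNondegOn H M)
    (hMfix : ∀ v ∈ M, g v = v → v = 0) (j : ℕ)
    (hj : j * cOf (orderOf (q : ZMod r)) ≤ finrank F ↥M) :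
    FixesIn H g M (j * cOf (orderOf (q : ZMod r))) :=
  c5_core hc hr hr2 (fun M a b c d => exists_nd_block hc hr hr2 a b c d) j M hMi hM hMfix hj

end absC

end Cfsg.Agent.Lib.Helper65.Und
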